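import Cfsg.Agent.CharBasic.Kernel
import Cfsg.Agent.BlockBasic.Basic
import Cfsg.Agent.CharInduce.Ops
import Cfsg.Agent.H83.ClassConst

/-!
# Small degrees in simple groups

Faithfulness, the absence of degrees one and two, and the scalar criterion: a character of degree
`d` of an abelian group vanishing outside a subgroup of index `d` is scalar on it.
-/

open scoped ComplexConjugate

namespace Cfsg.Agent.H81.SimpleDegree

open CharBasic BlockBasic

universe u

variable {G : Type u} [Group G] [Finite G]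

/-- A character of degree `d` of an abelian group vanishing outside a subgroup of index `d` has
absolute value `d` on the subgroup. -/
theorem norm_eq_of_vanish {B : Type*} [Group B] [Finite B] (hab : ∀ a b : B, a * b = b * a)
    {φ : B → ℂ} (hφ : Cfsg.IsCharacter B φ) (d : ℕ) (hd : φ 1 = d) (Y : Subgroup B)
    (hidx : Nat.card B = d * Nat.card Y) (hvan : ∀ a : B, a ∉ Y → φ a = 0) :
    ∀ y ∈ Y, ‖φ y‖ = (d : ℝ) := by
  classical
  cases nonempty_fintype B
  have hlin := commutative_iff_forall_linear.1 hab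
  choose m hm using fun ψ : Cfsg.IrrCharacter B => classInner_isChar_nat hφ (IsIrr.isCharacter ψ.2)
  have h1 : φ 1 = ((∑ ψ, m ψ : ℕ) : ℂ) := by
    conv_lhs => rw [classFunction_expansion (IsChar.isClassFunction hφ)]
    simp [hm, hlin]
  have hsum : ∑ ψ, m ψ = d := by
    rw [hd] at h1
    exact_mod_cast h1.symm
  have h2 : Cfsg.classInner φ φ = ((∑ ψ, m ψ * m ψ : ℕ) : ℂ) := by
    rw [classInner_eq_sum (IsChar.isClassFunction hφ)]
    simp [hm]
  have hge : d ≤ ∑ ψ, m ψ * m ψ := hsum ▸ Finset.sum_le_sum fun ψ _ => Nat.le_mul_self _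
  rw [classInner_def] at h2
  have h3 : ∑ a : B, ‖φ a‖ ^ 2 = (Nat.card B : ℝ) * ((∑ ψ, m ψ * m ψ : ℕ) : ℝ) := by
    have hB : (Nat.card B : ℂ) ≠ 0 := Nat.cast_ne_zero.2 Nat.card_pos.ne'
    rw [inv_mul_eq_iff_eq_mul₀ hB] at h2
    apply Complex.ofReal_injective
    push_cast at h2 ⊢
    rw [← h2]
    exact Finset.sum_congr rfl fun a _ => (Complex.mul_conj' _).symm
  have hle : ∀ a : B, ‖φ a‖ ^ 2 ≤ if a ∈ Y then (d : ℝ) ^ 2 else 0 := by
    intro a
    split_ifs with ha
    · have := IsChar.norm_le hφ a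
      rw [hd, Complex.norm_natCast] at this
      exact pow_le_pow_left₀ (norm_nonneg _) this 2
    · simp [hvan a ha]
  have htot : ∑ a : B, (if a ∈ Y then (d : ℝ) ^ 2 else 0) = (Nat.card B : ℝ) * d := by
    rw [← Finset.sum_filter, Finset.sum_const, ← Fintype.card_subtype, nsmul_eq_mul,
      show Fintype.card {a : B // a ∈ Y} = Nat.card Y from Nat.card_eq_fintype_card.symm, hidx]
    push_cast
    ring
  intro y hy
  have heq := (Finset.sum_eq_sum_iff_of_le fun a _ => hle a).1 (le_antisymm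
    (Finset.sum_le_sum fun a _ => hle a) (by
      rw [htot, h3]
      exact mul_le_mul_of_nonneg_left (by exact_mod_cast hge) (Nat.cast_nonneg _))) y
    (Finset.mem_univ y)
  rw [if_pos hy] at heq
  exact (pow_left_inj₀ (norm_nonneg _) (Nat.cast_nonneg _) two_ne_zero).1 heq

variable [IsSimpleGroup G]

theorem faithful {χ : Cfsg.IrrCharacter G} (hne : (χ : G → ℂ) ≠ fun _ => 1) :
    ∀ g : G, (χ : G → ℂ) g = (χ : G → ℂ) 1 → g = 1 := by
  cases nonempty_fintype G
  obtain ⟨N, hN, hmem, -⟩ := IsChar.exists_kernel (IsIrr.isCharacter χ.2)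
  rcases hN.eq_bot_or_eq_top with rfl | rfl
  · exact fun g hg => Subgroup.mem_bot.1 ((hmem g).2 hg)
  · exfalso
    have hc : (χ : G → ℂ) = fun _ => (χ : G → ℂ) 1 := funext fun g => (hmem g).1 trivial
    have h0 := classInner_irr_of_ne χ.2 isIrrCharacter_one hne
    rw [classInner_def, hc] at h0
    simp [IsIrr.one_ne_zero χ.2, Finset.card_univ, Fintype.card_ne_zero] at h0

/-- Only the identity is scalar in a faithful irreducible representation. -/
theorem eq_one_of_norm (hna : ∃ x y : G, x * y ≠ y * x) {χ : Cfsg.IrrCharacter G}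
    (hne : (χ : G → ℂ) ≠ fun _ => 1) {y : G} (hy : ‖(χ : G → ℂ) y‖ = ‖(χ : G → ℂ) 1‖) : y = 1 := by
  cases nonempty_fintype G
  have hf := faithful hne
  obtain ⟨n, ρ, hρ, hχ⟩ := χ.2
  obtain ⟨Z, hZn, hZ⟩ := IsChar.exists_center (IsIrr.isCharacter χ.2)
  have hcomm : ∀ a ∈ Z, ∀ g : G, a * g = g * a := by
    intro a ha g
    have h1 := (hZ a).1 ha
    rw [← hχ] at h1
    obtain ⟨ω, hω⟩ := (IsChar.norm_eq_iff_scalar ρ a).1 h1
    have hk : ρ (a * g) = ρ (g * a) := by
      rw [map_mul, map_mul, hω]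
      ext v
      simp
    have h2 : (χ : G → ℂ) (a * g * (g * a)⁻¹) = (χ : G → ℂ) 1 := by
      rw [← hχ]
      show LinearMap.trace ℂ _ (ρ _) = LinearMap.trace ℂ _ (ρ _)
      rw [map_mul, hk, ← map_mul, mul_inv_cancel]
    exact mul_inv_eq_one.1 (hf _ h2)
  rcases hZn.eq_bot_or_eq_top with rfl | rfl
  · exact Subgroup.mem_bot.1 ((hZ y).2 hy)
  · obtain ⟨a, b, hab⟩ := hna
    exact absurd (hcomm a trivial b) hab

/-- The determinant of every representation of a non-abelian simple group is trivial. -/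
theorem det_eq_one (hna : ∃ x y : G, x * y ≠ y * x) {n : ℕ}
    (ρ : Representation ℂ G (Fin n → ℂ)) (g : G) : LinearMap.det (ρ g) = 1 := by
  let f : G →* ℂ := (LinearMap.det : Module.End ℂ (Fin n → ℂ) →* ℂ).comp ρ
  rcases (MonoidHom.normal_ker f).eq_bot_or_eq_top with h | h
  · obtain ⟨a, b, hab⟩ := hna
    refine absurd ?_ hab
    have : a * b * (b * a)⁻¹ ∈ MonoidHom.ker f := by
      rw [MonoidHom.mem_ker, map_mul, show f (a * b) = f (b * a) by
        rw [map_mul, map_mul, mul_comm], ← map_mul, mul_inv_cancel, map_one]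
    rw [h, Subgroup.mem_bot] at this
    exact mul_inv_eq_one.1 this
  · exact (MonoidHom.mem_ker (f := f)).1 (h ▸ Subgroup.mem_top g)

/-- The eigenvalues at an element. -/
theorem exists_eigenvalues (hna : ∃ x y : G, x * y ≠ y * x) (χ : Cfsg.IrrCharacter G) (n : ℕ)
    (hn : Cfsg.charDegree (χ : G → ℂ) = n) (g : G) :
    ∃ μ : Fin n → ℂ, (∀ i, μ i ^ orderOf g = 1) ∧ ∏ i, μ i = 1 ∧
      ∀ k : ℕ, (χ : G → ℂ) (g ^ k) = ∑ i, μ i ^ k := by
  obtain ⟨m, ρ, hρ, hχ⟩ := χ.2
  have hm : m = n := by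
    rw [← hn, Cfsg.charDegree, ← hχ, Representation.char_one, Module.finrank_fin_fun,
      Complex.natCast_re, Nat.floor_natCast]
  subst hm
  obtain ⟨b, μ, h1, h2, -⟩ := exists_eigenbasis_rep ρ g
  have hfin : Module.finrank ℂ (Fin m → ℂ) = m := Module.finrank_fin_fun ℂ
  let e : Fin (Module.finrank ℂ (Fin m → ℂ)) ≃ Fin m := finCongr hfin
  refine ⟨fun i => μ (e.symm i), fun i => h2 _, ?_, fun k => ?_⟩
  · rw [e.symm.prod_comp μ, ← det_eq_one hna ρ g, ← LinearMap.det_toMatrix b,
      show LinearMap.toMatrix b b (ρ g) = Matrix.diagonal μ by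
        ext i j
        rw [LinearMap.toMatrix_apply, h1 j, map_smul, Finsupp.smul_apply, b.repr_self,
          Finsupp.single_apply, Matrix.diagonal_apply]
        rcases eq_or_ne i j with rfl | hij
        · simp
        · simp [hij, Ne.symm hij],
      Matrix.det_diagonal]
  · rw [← hχ, e.symm.sum_comp fun i => μ i ^ k]
    have hpow : ∀ i, ρ (g ^ k) (b i) = (μ i ^ k) • b i := by
      intro i
      induction k with
      | zero => simp
      | succ k ih =>
        rw [pow_succ, map_mul, Module.End.mul_apply, h1, map_smul, ih, smul_smul, pow_succ']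
    exact trace_eq_sum_of_eigenbasis b _ (ρ (g ^ k)) hpow

theorem two_le_charDegree (hna : ∃ x y : G, x * y ≠ y * x) {χ : Cfsg.IrrCharacter G}
    (hne : (χ : G → ℂ) ≠ fun _ => 1) : 2 ≤ Cfsg.charDegree (χ : G → ℂ) := by
  cases nonempty_fintype G
  have h0 := charDegree_pos χ
  by_contra h
  have h1 : Cfsg.charDegree (χ : G → ℂ) = 1 := by omega
  apply hne
  funext g
  obtain ⟨μ, -, hdet, hval⟩ := exists_eigenvalues hna χ 1 h1 g
  have := hval 1
  rw [pow_one, Fin.sum_univ_one, pow_one] at this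
  rw [Fin.prod_univ_one] at hdet
  rw [this, hdet]

theorem charDegree_ne_two (hna : ∃ x y : G, x * y ≠ y * x) (heven : 2 ∣ Nat.card G)
    {χ : Cfsg.IrrCharacter G} (hne : (χ : G → ℂ) ≠ fun _ => 1) :
    Cfsg.charDegree (χ : G → ℂ) ≠ 2 := by
  intro h2
  cases nonempty_fintype G
  haveI := Fact.mk Nat.prime_two
  obtain ⟨J, hJ⟩ := exists_prime_orderOf_dvd_card' 2 heven
  obtain ⟨μ, hμ, hdet, hval⟩ := exists_eigenvalues hna χ 2 h2 J
  have hsq : ∀ i, μ i = 1 ∨ μ i = -1 := fun i => by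
    have := hμ i
    rw [hJ] at this
    exact sq_eq_one_iff.1 this
  rw [Fin.prod_univ_two] at hdet
  have hv := hval 1
  rw [pow_one, Fin.sum_univ_two, pow_one, pow_one] at hv
  refine absurd (eq_one_of_norm hna hne ?_) (show J ≠ 1 by rintro rfl; simp at hJ)
  rw [hv, apply_one_eq_charDegree, h2, Complex.norm_natCast]
  rcases hsq 0 with h | h <;> rcases hsq 1 with h' | h' <;>
    rw [h, h'] at hdet <;> first | (norm_num at hdet; done) | (rw [h, h']; norm_num)

/-- An involution takes the value `-1` in a faithful character of degree three. -/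
theorem apply_involution (hna : ∃ x y : G, x * y ≠ y * x) {χ : Cfsg.IrrCharacter G}
    (hne : (χ : G → ℂ) ≠ fun _ => 1) (h3 : Cfsg.charDegree (χ : G → ℂ) = 3) {J : G}
    (hJ : orderOf J = 2) : (χ : G → ℂ) J = -1 := by
  cases nonempty_fintype G
  obtain ⟨μ, hμ, hdet, hval⟩ := exists_eigenvalues hna χ 3 h3 J
  have hsq : ∀ i, μ i = 1 ∨ μ i = -1 := fun i => by
    have := hμ i
    rw [hJ] at this
    exact sq_eq_one_iff.1 this
  rw [Fin.prod_univ_three] at hdet
  have hv := hval 1
  rw [pow_one, Fin.sum_univ_three, pow_one, pow_one, pow_one] at hv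
  have hJ1 : J ≠ 1 := by rintro rfl; simp at hJ
  have hne' : (χ : G → ℂ) J ≠ 3 := fun h => hJ1 (faithful hne J (by
    rw [h, apply_one_eq_charDegree, h3]; norm_num))
  rw [hv] at hne' ⊢
  rcases hsq 0 with a | a <;> rcases hsq 1 with b | b <;> rcases hsq 2 with c | c <;>
    rw [a, b, c] at hdet hne' <;>
      first | (norm_num at hdet; done) | (norm_num at hne'; done) | (rw [a, b, c]; norm_num)

end Cfsg.Agent.H81.SimpleDegree
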