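import Cfsg.Agent.BlockBasic.Basic
import Cfsg.Agent.BlockBasic.PPart
import Cfsg.Agent.CharBasic.Orth
import Cfsg.Agent.H82.PrincipalBlock
import Mathlib.Algebra.BigOperators.Group.Finset.Basic

/-!
# Congruences modulo `M` of character values and central characters
-/

open scoped ComplexConjugate

namespace Cfsg.Agent.H81

open Cfsg.Agent.BlockBasic

universe u

variable {p : ℕ} {M : Ideal AlgInt}

/-- Congruence modulo the local ideal. -/
def ModM (M : Ideal AlgInt) (z w : ℂ) : Prop := MemLocalIdeal M (z - w)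

theorem ModM.refl (hM : IsPModular p M) (z : ℂ) : ModM M z z := by
  rw [ModM, sub_self]; exact memLocalIdeal_zero hM

theorem ModM.symm {z w : ℂ} (h : ModM M z w) : ModM M w z := by
  rw [ModM, ← neg_sub]; exact memLocalIdeal_neg h

theorem ModM.trans (hM : IsPModular p M) {a b c : ℂ} (h₁ : ModM M a b) (h₂ : ModM M b c) :
    ModM M a c := by
  rw [ModM, ← sub_add_sub_cancel a b c]; exact memLocalIdeal_add hM h₁ h₂

theorem ModM.add (hM : IsPModular p M) {a b c d : ℂ} (h₁ : ModM M a b) (h₂ : ModM M c d) :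
    ModM M (a + c) (b + d) := by
  rw [ModM, add_sub_add_comm]; exact memLocalIdeal_add hM h₁ h₂

theorem ModM.sum (hM : IsPModular p M) {ι : Type*} (s : Finset ι) {f g : ι → ℂ}
    (h : ∀ i ∈ s, ModM M (f i) (g i)) : ModM M (∑ i ∈ s, f i) (∑ i ∈ s, g i) := by
  rw [ModM, ← Finset.sum_sub_distrib]; exact memLocalIdeal_sum hM s _ h

theorem ModM.mul_left (hM : IsPModular p M) {a z w : ℂ} (ha : MemLocalRing M a)
    (h : ModM M z w) : ModM M (a * z) (a * w) := by
  rw [ModM, ← mul_sub]; exact memLocalIdeal_mul hM ha h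

theorem ModM.mul_right (hM : IsPModular p M) {a z w : ℂ} (ha : MemLocalRing M a)
    (h : ModM M z w) : ModM M (z * a) (w * a) := by
  rw [mul_comm z, mul_comm w]; exact h.mul_left hM ha

theorem ModM.mul (hM : IsPModular p M) {a b c d : ℂ} (hc : MemLocalRing M c)
    (hb : MemLocalRing M b) (h₁ : ModM M a b) (h₂ : ModM M c d) : ModM M (a * c) (b * d) :=
  (h₁.mul_right hM hc).trans hM (h₂.mul_left hM hb)

theorem modM_zero_iff {z : ℂ} : ModM M z 0 ↔ MemLocalIdeal M z := by rw [ModM, sub_zero]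

theorem modM_natCast (hM : IsPModular p M) {a b : ℕ} (h : a ≡ b [MOD p]) :
    ModM M (a : ℂ) (b : ℂ) := by
  have hd : (p : ℤ) ∣ (a : ℤ) - b := Nat.modEq_iff_dvd.1 h.symm
  have := (memLocalIdeal_intCast_iff hM _).2 hd
  rw [ModM]
  push_cast at this
  exact this

theorem modM_natCast_zero (hM : IsPModular p M) {a : ℕ} (h : p ∣ a) : ModM M (a : ℂ) 0 :=
  modM_zero_iff.2 ((memLocalIdeal_natCast_iff hM a).2 h)

/-- A quotient of odd integers is `1` mod `M` for `p = 2`. -/
theorem modM_div_one {M : Ideal AlgInt} (hM : IsPModular 2 M) {a b : ℕ} (ha : Odd a) (hb : Odd b) :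
    ModM M ((a : ℂ) / b) 1 := by
  have hb0 : (b : ℂ) ≠ 0 := by
    rw [Nat.cast_ne_zero]; rintro rfl; simp at hb
  have h := (modM_natCast hM (show a ≡ b [MOD 2] by
    rw [Nat.ModEq, Nat.odd_iff.1 ha, Nat.odd_iff.1 hb])).mul_right hM
      (memLocalRing_natCast_inv hM (n := b) (by rwa [← even_iff_two_dvd, Nat.not_even_iff_odd]))
  rwa [mul_inv_cancel₀ hb0, ← div_eq_mul_inv] at h

variable {G : Type u} [Group G] [Finite G]

theorem memLocalRing_apply (hM : IsPModular p M) {χ : G → ℂ} (hχ : IsCharacter G χ) (g : G) :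
    MemLocalRing M (χ g) :=
  memLocalRing_of_isIntegral hM (CharBasic.IsChar.isIntegral hχ g)

/-- A `p`-element factor does not change a character value modulo `M`. -/
theorem char_modM_mul (hM : IsPModular p M) {χ : G → ℂ} (hχ : IsCharacter G χ) {u s : G}
    (hus : Commute u s) {j : ℕ} (hu : orderOf u = p ^ j) (hs : ¬ p ∣ orderOf s) :
    ModM M (χ (u * s)) (χ s) := by
  obtain ⟨n, ρ, rfl⟩ := hχ
  set g := u * s with hg
  have hco : Nat.Coprime (orderOf u) (orderOf s) := by
    rw [hu]; exact ((hM.1.coprime_iff_not_dvd).2 hs).pow_left j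
  obtain ⟨l, hl0, hl1⟩ := Nat.chineseRemainder hco 0 1
  have hgl : g ^ l = s := by
    rw [hg, hus.mul_pow, orderOf_dvd_iff_pow_eq_one.1 (Nat.modEq_zero_iff_dvd.1 hl0), one_mul,
      pow_eq_pow_iff_modEq.2 hl1, pow_one]
  have hord : orderOf g = p ^ j * orderOf s := by
    rw [hg, hus.orderOf_mul_eq_mul_orderOf_of_coprime hco, hu]
  obtain ⟨b, μ, hb, hμ, hsum⟩ := CharBasic.exists_eigenbasis_rep ρ g
  have hsuml : ρ.character s = ∑ i, μ i ^ l := by
    rw [← hgl]
    refine CharBasic.trace_eq_sum_of_eigenbasis b _ _ fun i => ?_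
    rw [map_pow]
    clear hl0 hl1 hgl
    induction l with
    | zero => simp
    | succ k ih => rw [pow_succ', Module.End.mul_apply, ih, map_smul, hb, smul_smul, pow_succ]
  rw [hsum, hsuml]
  refine ModM.sum hM _ fun i _ => ?_
  set x := μ i ^ (l + (orderOf g - 1)) with hx
  have hxl : μ i ^ l = μ i * x := by
    have h1 : orderOf g - 1 + 1 = orderOf g := Nat.sub_add_cancel (orderOf_pos g)
    rw [hx, ← pow_succ', add_assoc, h1, pow_add, hμ i, mul_one]
  have hxp : x ^ p ^ j = 1 := by
    rw [hx, ← pow_mul]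
    have hd : orderOf g ∣ (l + (orderOf g - 1)) * p ^ j := by
      rw [hord, mul_comm (p ^ j) (orderOf s)]
      refine Nat.mul_dvd_mul_right ?_ _
      have hpos : 1 ≤ orderOf s * p ^ j :=
        Nat.mul_pos (orderOf_pos s) (pow_pos hM.1.pos j)
      rw [← Nat.modEq_zero_iff_dvd]
      calc l + (orderOf s * p ^ j - 1) ≡ 1 + (orderOf s * p ^ j - 1) [MOD orderOf s] :=
            Nat.ModEq.add_right _ hl1
        _ = orderOf s * p ^ j := by omega
        _ ≡ 0 [MOD orderOf s] := Nat.modEq_zero_iff_dvd.2 (dvd_mul_right _ _)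
    obtain ⟨c, hc⟩ := hd
    rw [hc, pow_mul, hμ i, one_pow]
  have hint : MemLocalRing M (μ i) :=
    memLocalRing_of_isIntegral hM
      (IsIntegral.of_pow (orderOf_pos g) (by rw [hμ i]; exact isIntegral_one))
  have := ModM.mul_left hM hint
    (show ModM M x 1 from H82.memLocalIdeal_sub_one_of_pow_eq_one hM hxp)
  rw [mul_one] at this
  rw [hxl]
  exact this.symm

theorem centralChar_eq (χ : G → ℂ) (g : G) :
    centralChar χ g = ((Subgroup.centralizer ({g} : Set G)).index : ℂ) / χ 1 * χ g := by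
  rw [centralChar, div_mul_eq_mul_div]

/-- Classes of size divisible by `p` die under the central character of a character of degree
prime to `p`. -/
theorem centralChar_modM_zero (hM : IsPModular p M) (χ : IrrCharacter G)
    (hdeg : ¬ p ∣ charDegree (χ : G → ℂ)) {g : G}
    (hg : p ∣ (Subgroup.centralizer ({g} : Set G)).index) :
    ModM M (centralChar (χ : G → ℂ) g) 0 := by
  rw [centralChar_eq, apply_one_eq_charDegree χ, div_eq_mul_inv, mul_assoc]
  have h := (modM_natCast_zero hM hg).mul_right hM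
    (memLocalRing_mul hM (memLocalRing_natCast_inv hM hdeg)
      (memLocalRing_apply hM (CharBasic.IsIrr.isCharacter χ.2) g))
  rwa [zero_mul] at h

/-- For `p = 2`, on classes of odd size the central character of a character of odd degree is
congruent to the character. -/
theorem centralChar_modM_apply {M : Ideal AlgInt} (hM : IsPModular 2 M) (χ : IrrCharacter G)
    (hdeg : Odd (charDegree (χ : G → ℂ))) {g : G}
    (hg : Odd (Subgroup.centralizer ({g} : Set G)).index) :
    ModM M (centralChar (χ : G → ℂ) g) ((χ : G → ℂ) g) := by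
  have h := (modM_div_one hM hg hdeg).mul_right hM
    (memLocalRing_apply hM (CharBasic.IsIrr.isCharacter χ.2) g)
  rwa [one_mul, ← apply_one_eq_charDegree χ, ← centralChar_eq] at h

end Cfsg.Agent.H81
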