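import Cfsg.Agent.H81.TwistBlock
import Cfsg.Agent.H81.Congr
import Cfsg.Agent.BlockBasic.Cover
import Cfsg.Agent.BlockBasic.Kernel
import Cfsg.Agent.CharInduce.Induce

/-!
# Parity of the members of a block over a character of a normal subgroup of odd index
-/

open scoped ComplexConjugate
open Cfsg.Agent.BlockBasic

namespace Cfsg.Agent.H81

universe u

variable {G : Type u} [Group G] [Fintype G] (N : Subgroup G) [hN : N.Normal] [Fintype N]

/-- The multiplicity of `θ` in the restriction of `χ`. -/
noncomputable def overMult (θ : IrrCharacter N) (χ : IrrCharacter G) : ℕ :=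
  ⌊(classInner (fun n : N => (χ : G → ℂ) n) (θ : N → ℂ)).re⌋₊

theorem cast_overMult (θ : IrrCharacter N) (χ : IrrCharacter G) :
    (overMult N θ χ : ℂ) = classInner (fun n : N => (χ : G → ℂ) n) (θ : N → ℂ) := by
  obtain ⟨m, hm⟩ := CharBasic.classInner_isChar_nat
    (CharInduce.IsChar.res (CharBasic.IsIrr.isCharacter χ.2) N) (CharBasic.IsIrr.isCharacter θ.2)
  have hm' : classInner (fun n : N => (χ : G → ℂ) n) (θ : N → ℂ) = m := hm
  rw [overMult, hm', Complex.natCast_re, Nat.floor_natCast]

/-- The weight of the members of `B` over `θ`. -/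
noncomputable def overWeight (θ : IrrCharacter N) (B : Set (IrrCharacter G)) : ℕ := by
  classical
  exact (CharInduce.inertia N (θ : N → ℂ)).index *
    ∑ χ : IrrCharacter G, if χ ∈ B then overMult N θ χ ^ 2 else 0

theorem index_mul_omega (θ : IrrCharacter N) (B : Set (IrrCharacter G)) :
    (N.index : ℂ) * omega (θ : N → ℂ) (resMap N (blockElem B)) = (overWeight N θ B : ℂ) := by
  classical
  have hθ := irr_one_ne_zero θ.2
  have hN0 : (Nat.card N : ℂ) ≠ 0 := Nat.cast_ne_zero.2 Nat.card_pos.ne'
  have hi0 : (N.index : ℂ) ≠ 0 := Nat.cast_ne_zero.2 N.index_ne_zero_of_finite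
  have h1 : chiLin (θ : N → ℂ) (resMap N (blockElem B)) = (N.index : ℂ)⁻¹ *
      ∑ χ : IrrCharacter G, if χ ∈ B then (χ : G → ℂ) 1 * (overMult N θ χ : ℂ) else 0 := by
    simp only [chiLin, coeff_resMap, coeff_blockElem, blockCoeff, finsum_mem_eq_sum_ite,
      ← N.index_mul_card, Nat.cast_mul, mul_inv, Finset.mul_sum, Finset.sum_mul]
    rw [Finset.sum_comm]
    refine Finset.sum_congr rfl fun χ _ => ?_
    by_cases h : χ ∈ B
    · simp only [if_pos h]
      rw [← Complex.conj_natCast (overMult N θ χ), cast_overMult, CharBasic.classInner_def, map_mul, map_sum,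
        map_inv₀, Complex.conj_natCast, Finset.mul_sum, Finset.mul_sum, Finset.mul_sum]
      refine Finset.sum_congr rfl fun n _ => ?_
      rw [map_mul, Complex.conj_conj]
      ring
    · simp [h]
  rw [omega, h1, overWeight, Nat.cast_mul, Nat.cast_sum, Finset.mul_sum, Finset.sum_div,
    Finset.mul_sum, Finset.mul_sum]
  refine Finset.sum_congr rfl fun χ _ => ?_
  by_cases h : χ ∈ B
  · simp only [if_pos h, Nat.cast_pow]
    rcases eq_or_ne (overMult N θ χ : ℂ) 0 with he | he
    · simp [he]
    · rw [CharInduce.clifford_degree N χ.2 θ.2 (by rwa [← cast_overMult]), ← cast_overMult]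
      field_simp
  · simp [h]

theorem overWeight_univ (θ : IrrCharacter N) :
    overWeight N θ Set.univ = N.index := by
  have h := index_mul_omega N θ Set.univ
  have h1 : resMap N (1 : MonoidAlgebra ℂ G) = 1 := by
    apply MonoidAlgebra.coeff_injective
    ext n
    classical
    rw [coeff_resMap, MonoidAlgebra.one_def, MonoidAlgebra.one_def, MonoidAlgebra.coeff_single,
      MonoidAlgebra.coeff_single, Finsupp.single_apply, Finsupp.single_apply]
    exact if_congr (Subtype.ext_iff (a1 := (1 : N)) (a2 := n)).symm rfl rfl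
  rw [blockElem_univ, h1, omega_one θ.2, mul_one] at h
  exact_mod_cast h.symm

theorem overWeight_modEq {M : Ideal AlgInt} (hM : IsPModular 2 M) {B : Set (IrrCharacter G)}
    (hB : IsPBlock M B) {θ φ : IrrCharacter N} (h : SameBlock M (θ : N → ℂ) (φ : N → ℂ)) :
    overWeight N θ B ≡ overWeight N φ B [MOD 2] := by
  have hc := omega_congr hM (CharBasic.IsIrr.isClassFunction θ.2) (CharBasic.IsIrr.isClassFunction φ.2) h
    (isCentralElt_resMap (H := N) (isCentralElt_blockElem B))
    (isIntElt_resMap (H := N) (isIntElt_blockElem hM hB))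
  have h2 := memLocalIdeal_mul hM (memLocalRing_natCast hM N.index) hc
  rw [mul_sub, index_mul_omega, index_mul_omega] at h2
  have h3 : MemLocalIdeal M (((overWeight N θ B : ℤ) - overWeight N φ B : ℤ) : ℂ) := by
    push_cast; exact h2
  rw [memLocalIdeal_intCast_iff hM] at h3
  exact (Int.natCast_modEq_iff.1 (Int.modEq_iff_dvd.2 h3)).symm

/-- The fixed members of odd multiplicity carry the parity of the weight. -/
theorem card_fixed_over_modEq (hidx : Odd N.index) {k e : ℕ} (hk : Nat.Coprime k (Nat.card G))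
    (hke : k ^ 2 ^ e ≡ 1 [MOD Nat.card G]) (θ : IrrCharacter N)
    (hθ : ∀ n : N, (θ : N → ℂ) (n ^ k) = (θ : N → ℂ) n) (B : Set (IrrCharacter G))
    (hB : ∀ χ ∈ B, powIrr hk χ ∈ B) :
    Nat.card {χ : IrrCharacter G // χ ∈ B ∧ Odd (overMult N θ χ) ∧
      ∀ g : G, (χ : G → ℂ) (g ^ k) = (χ : G → ℂ) g} ≡ overWeight N θ B [MOD 2] := by
  classical
  have he : ∀ χ, overMult N θ (powIrr hk χ) = overMult N θ χ := by
    intro χ
    have h1 : classInner (fun n : N => ((powIrr hk χ : IrrCharacter G) : G → ℂ) n) (θ : N → ℂ) =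
        classInner (fun n : N => (χ : G → ℂ) n) (θ : N → ℂ) := by
      conv_rhs => rw [← classInner_comp_pow (coprime_subgroup hk N) (fun n : N => (χ : G → ℂ) n)]
      congr 1
      exact (funext hθ).symm
    rw [overMult, h1, overMult]
  let α := {χ : IrrCharacter G // χ ∈ B ∧ Odd (overMult N θ χ)}
  let f : α → α := fun a => ⟨powIrr hk a.1, hB _ a.2.1, by rw [he]; exact a.2.2⟩
  have hval : ∀ (n : ℕ) (a : α), (f^[n] a).1 = (powIrr hk)^[n] a.1 := by
    intro n a
    induction n with
    | zero => rfl
    | succ n ih =>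
      rw [Function.iterate_succ_apply', Function.iterate_succ_apply', ← ih]
  have hf : f^[2 ^ e] = id := funext fun a =>
    Subtype.ext (Subtype.ext (funext fun g => by
      rw [hval, powIrr_iterate, pow_pow_eq_self hke]; rfl))
  have hc : Nat.card {a : α // f a = a} = Nat.card {χ : IrrCharacter G // χ ∈ B ∧
      Odd (overMult N θ χ) ∧ ∀ g : G, (χ : G → ℂ) (g ^ k) = (χ : G → ℂ) g} :=
    Nat.card_congr
      { toFun := fun a => ⟨a.1.1, a.1.2.1, a.1.2.2, fun g => congrFun
          (congrArg Subtype.val (congrArg Subtype.val a.2)) g⟩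
        invFun := fun χ => ⟨⟨χ.1, χ.2.1, χ.2.2.1⟩, Subtype.ext (Subtype.ext (funext χ.2.2.2))⟩
        left_inv := fun a => rfl
        right_inv := fun χ => rfl }
  have hα : Nat.card α ≡ overWeight N θ B [MOD 2] := by
    have hT : Odd (CharInduce.inertia N (θ : N → ℂ)).index :=
      hidx.of_dvd_nat (Subgroup.index_dvd_of_le
        (CharInduce.le_inertia N (CharBasic.IsIrr.isClassFunction θ.2)))
    have hev : (Even (overWeight N θ B) ↔ Even (Nat.card α)) := by
      rw [overWeight, Nat.even_mul, or_iff_right (Nat.not_even_iff_odd.2 hT),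
        Finset.even_sum_iff_even_card_odd, Nat.card_eq_fintype_card, Fintype.card_subtype,
        Finset.filter_congr (q := fun χ : IrrCharacter G => χ ∈ B ∧ Odd (overMult N θ χ)) fun χ _ => by
          by_cases hχ : χ ∈ B <;> simp [hχ, Nat.odd_pow_iff]]
    rw [Nat.even_iff, Nat.even_iff] at hev
    show _ % 2 = _ % 2
    omega
  exact hc ▸ (card_fixed_modEq f e hf).trans hα

/-- A character over `θ` in the principal block forces `θ` into the principal block. -/
theorem mem_principalBlock_of_over {p : ℕ} {M : Ideal AlgInt} (hM : IsPModular p M)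
    {χ : IrrCharacter G} (hχ : χ ∈ principalBlock M G) {θ : IrrCharacter N}
    (hover : classInner (fun n : N => (χ : G → ℂ) n) (θ : N → ℂ) ≠ 0) :
    θ ∈ principalBlock M N := by
  have h1 : classInner (fun n : N => ((trivialIrr : IrrCharacter G) : G → ℂ) n)
      ((trivialIrr : IrrCharacter N) : N → ℂ) ≠ 0 := by
    show classInner ((trivialIrr : IrrCharacter N) : N → ℂ) _ ≠ 0
    rw [CharBasic.classInner_irr_self (trivialIrr : IrrCharacter N).2]
    exact one_ne_zero
  obtain ⟨d, hd⟩ := exists_twist_sameBlock hM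
    (omega_resMap_congr_of_sameBlock hM (sameBlock_symm hχ : SameBlock M (χ : G → ℂ)
      ((trivialIrr : IrrCharacter G) : G → ℂ)) hover h1)
  exact hd

end Cfsg.Agent.H81
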