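import Cfsg.Prelude.Def_Blocks
import Mathlib.Algebra.CharP.Lemmas
import Mathlib.Algebra.CharP.Quotient
import Mathlib.RingTheory.IntegralClosure.IntegrallyClosed
import Mathlib.RingTheory.Polynomial.RationalRoot

/-!
# Rational integers inside the algebraic integers
-/

namespace Cfsg.Agent.H81

theorem int_of_isIntegral_ratCast {q : ℚ} (h : IsIntegral ℤ (q : ℂ)) : ∃ z : ℤ, (z : ℚ) = q := by
  have hq : IsIntegral ℤ q := by
    rw [← isIntegral_algHom_iff ((Rat.castHom ℂ).toIntAlgHom) (Rat.cast_injective)]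
    simpa using h
  obtain ⟨z, hz⟩ := IsIntegrallyClosed.isIntegral_iff.1 hq
  exact ⟨z, by simpa using hz⟩

theorem natCast_dvd_natCast {p n : ℕ} (hp : p ≠ 0) (h : (p : AlgInt) ∣ (n : AlgInt)) : p ∣ n := by
  obtain ⟨c, hc⟩ := h
  have h1 : ((c : AlgInt) : ℂ) = (((n : ℚ) / p : ℚ) : ℂ) := by
    have h2 : (n : ℂ) = (p : ℂ) * (c : ℂ) := by simpa using congrArg (Subtype.val) hc
    push_cast
    rw [h2, mul_div_cancel_left₀]
    exact_mod_cast hp
  obtain ⟨z, hz⟩ := int_of_isIntegral_ratCast (q := (n : ℚ) / p) (h1 ▸ c.2)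
  rw [eq_div_iff (by exact_mod_cast hp)] at hz
  have : (p : ℤ) ∣ (n : ℤ) := ⟨z, by exact_mod_cast (hz.symm.trans (mul_comm _ _))⟩
  exact Int.natCast_dvd_natCast.1 this

end Cfsg.Agent.H81
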