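import Cfsg.Agent.CharBasic.Complete

/-!
# Restriction of irreducible characters to central subgroups
-/

open scoped ComplexConjugate

namespace Cfsg.Agent.H81

universe u

variable {G : Type u} [Group G]

/-- An irreducible character transforms under a central subgroup by a linear character. -/
theorem exists_centralHom [Finite G] (N : Subgroup G) (hN : N ≤ Subgroup.center G) {χ : G → ℂ}
    (hχ : Cfsg.IsIrrCharacter G χ) :
    ∃ ω : N →* ℂ, (∀ (n : N) (g : G), χ (n * g) = ω n * χ g) ∧ ∀ n : N, ‖ω n‖ = 1 := by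
  obtain ⟨m, ρ, hρ, rfl⟩ := hχ
  haveI := hρ
  haveI := CharBasic.nontrivial_of_isIrreducible ρ
  have hs : ∀ n : N, ∃ c : ℂ, ρ n = c • LinearMap.id := fun n =>
    CharBasic.schur_scalar ρ (ρ n) fun g => by
      rw [← map_mul, ← map_mul, Subgroup.mem_center_iff.1 (hN n.2) g]
  choose c hc using hs
  have hinj : Function.Injective fun a : ℂ => a • (LinearMap.id : Module.End ℂ (Fin m → ℂ)) :=
    smul_left_injective ℂ (show (LinearMap.id : Module.End ℂ (Fin m → ℂ)) ≠ 0 from
      fun h => one_ne_zero (α := Module.End ℂ (Fin m → ℂ)) h)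
  have h1 : c 1 = 1 := hinj (show c 1 • _ = (1 : ℂ) • _ by
    rw [← hc, OneMemClass.coe_one, map_one, one_smul]; rfl)
  have hmul : ∀ a b, c (a * b) = c a * c b := fun a b => hinj (show c (a * b) • _ = _ by
    rw [← hc, Subgroup.coe_mul, map_mul, hc, hc]
    ext v
    simp [smul_smul, mul_comm])
  refine ⟨⟨⟨c, h1⟩, hmul⟩, fun n g => ?_, fun n => ?_⟩
  · show LinearMap.trace ℂ _ (ρ (n * g)) = c n * LinearMap.trace ℂ _ (ρ g)
    rw [map_mul, hc, ← smul_eq_mul (c n), ← map_smul]
    congr 1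
  · refine Complex.norm_eq_one_of_pow_eq_one (n := orderOf n) ?_ (orderOf_pos n).ne'
    exact (map_pow (⟨⟨c, h1⟩, hmul⟩ : N →* ℂ) n _).symm.trans (by rw [pow_orderOf_eq_one]; exact h1)

/-- Two unit-norm linear characters with non-zero inner product are equal. -/
theorem eq_of_sum_mul_conj_ne_zero {N : Type u} [Group N] [Fintype N] (α β : N →* ℂ)
    (hβ : ∀ n, ‖β n‖ = 1) (h : ∑ n : N, α n * conj (β n) ≠ 0) : α = β := by
  let γ : N →* ℂ := α * ((starRingEnd ℂ).toMonoidHom.comp β)
  have hγ : ∀ m, γ m = α m * conj (β m) := fun m => rfl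
  have hγ1 : ∀ m, γ m = 1 := by
    intro m
    by_contra hm
    refine h ?_
    have hsum : γ m * ∑ n, γ n = ∑ n, γ n := by
      rw [Finset.mul_sum]
      exact Fintype.sum_equiv (Equiv.mulLeft m) _ _ fun n => by simp
    have : (γ m - 1) * ∑ n, γ n = 0 := by rw [sub_mul, one_mul, hsum, sub_self]
    exact ((mul_eq_zero.1 this).resolve_left (sub_ne_zero.2 hm) :)
  refine MonoidHom.ext fun m => ?_
  have h2 : β m * conj (β m) = 1 := by rw [Complex.mul_conj', hβ]; simp
  have h3 := hγ1 m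
  rw [hγ] at h3
  calc α m = α m * (β m * conj (β m)) := by rw [h2, mul_one]
    _ = (α m * conj (β m)) * β m := by ring
    _ = β m := by rw [h3, one_mul]

/-- If `χ` lies over the character `ψ` of the central subgroup `N`, both transform by the same
linear character. -/
theorem exists_centralHom_over [Fintype G] (N : Subgroup G) [Fintype N]
    (hN : N ≤ Subgroup.center G) {χ : G → ℂ} (hχ : Cfsg.IsIrrCharacter G χ) {ψ : N → ℂ}
    (hψ : Cfsg.IsIrrCharacter N ψ)
    (hover : Cfsg.classInner (fun n : N => χ n) ψ ≠ 0) :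
    ∃ ω : N →* ℂ, (∀ (n : N) (g : G), χ (n * g) = ω n * χ g) ∧ ∀ n : N, ψ n = ω n * ψ 1 := by
  obtain ⟨ω, hω, hω1⟩ := exists_centralHom N hN hχ
  haveI : IsMulCommutative N :=
    ⟨⟨fun a b => Subtype.ext (Subgroup.mem_center_iff.1 (hN b.2) a)⟩⟩
  obtain ⟨α', hα, hα1⟩ := exists_centralHom (⊤ : Subgroup N)
    (fun a _ => Subgroup.mem_center_iff.2 fun b => mul_comm' b a) hψ
  let α : N →* ℂ := α'.comp Subgroup.topEquiv.symm.toMonoidHom
  have hψα : ∀ n, ψ n = α n * ψ 1 := fun n => by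
    simpa [α] using hα (Subgroup.topEquiv.symm n) 1
  have hsum : ∑ n : N, ω n * conj (α n) ≠ 0 := by
    intro h0
    refine hover ?_
    rw [Cfsg.classInner]
    have : ∀ n : N, χ n * conj (ψ n) = (ω n * conj (α n)) * (χ 1 * conj (ψ 1)) := fun n => by
      rw [hψα n, map_mul, show χ n = ω n * χ 1 by simpa using hω n 1]
      ring
    simp only [this, ← Finset.sum_mul, h0, zero_mul, mul_zero]
  have heq := eq_of_sum_mul_conj_ne_zero ω α (fun n => hα1 _) hsum
  exact ⟨ω, hω, fun n => by rw [heq]; exact hψα n⟩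

end Cfsg.Agent.H81
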