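import Cfsg.Agent.CharInduce.Ops
import Mathlib.GroupTheory.QuotientGroup.Basic

/-!
# Gallagher's theorem
-/

open scoped ComplexConjugate
open Cfsg.Agent.CharBasic

namespace Cfsg.Agent.H81

universe u

variable {G : Type u} [Group G] [Fintype G] (N : Subgroup G) [N.Normal] [Fintype N]

/-- The pull back of a function on the quotient. -/
def inflate (f : G ⧸ N → ℂ) : G → ℂ := fun g => f (g : G ⧸ N)

omit [Fintype N] in
theorem isIrr_inflate (β : IrrCharacter (G ⧸ N)) : IsIrrCharacter G (inflate N β) :=
  CharInduce.IsIrr.comp β.2 (QuotientGroup.mk' N) (QuotientGroup.mk'_surjective N)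

/-- Restriction to `N`, decomposed along the characters of the quotient. -/
theorem classInner_res_eq_sum [Fintype (G ⧸ N)] (χ η : G → ℂ) :
    classInner (fun n : N => χ n) (fun n : N => η n) =
      ∑ β : IrrCharacter (G ⧸ N), (β : G ⧸ N → ℂ) 1 *
        classInner χ (fun g => η g * inflate N β g) := by
  classical
  have hrhs : (∑ β : IrrCharacter (G ⧸ N), (β : G ⧸ N → ℂ) 1 *
        classInner χ (fun g => η g * inflate N β g)) =
      (Nat.card G : ℂ)⁻¹ * ∑ g : G, χ g * conj (η g) *
        ∑ β : IrrCharacter (G ⧸ N), conj ((β : G ⧸ N → ℂ) 1 * (β : G ⧸ N → ℂ) g) := by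
    simp only [classInner_def, inflate, Finset.mul_sum, map_mul]
    rw [Finset.sum_comm]
    refine Finset.sum_congr rfl fun g _ => Finset.sum_congr rfl fun β _ => ?_
    obtain ⟨b, -, hb⟩ := IsIrr.exists_degree β.2
    rw [hb, Complex.conj_natCast]
    ring
  rw [hrhs]
  simp only [← map_sum, sum_degree_mul_apply]
  have hcard : (Nat.card G : ℂ) = (Nat.card (G ⧸ N) : ℂ) * (Nat.card N : ℂ) := by
    rw [Subgroup.card_eq_card_quotient_mul_card_subgroup N]; push_cast; rfl
  simp only [classInner_def, apply_ite (starRingEnd ℂ), map_zero, Complex.conj_natCast, mul_ite,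
    mul_zero, QuotientGroup.eq_one_iff, ← Finset.sum_filter, ← Finset.sum_mul]
  rw [Finset.sum_subtype (Finset.univ.filter (· ∈ N)) (p := (· ∈ N)) (fun x => by simp)
    (fun g => χ g * conj (η g)), hcard]
  have h1 : (Nat.card (G ⧸ N) : ℂ) ≠ 0 := by exact_mod_cast Nat.card_pos.ne'
  field_simp

variable {η : G → ℂ} (hη : IsIrrCharacter G η) (hres : IsIrrCharacter N (fun n : N => η n))

include hη hres in
/-- `η η̄` contains no non-trivial character of the quotient. -/
theorem classInner_mul_conj_inflate [Fintype (G ⧸ N)] (β : IrrCharacter (G ⧸ N)) :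
    classInner η (fun g => η g * inflate N β g) =
      if (β : G ⧸ N → ℂ) = (fun _ => 1) then 1 else 0 := by
  classical
  have h := classInner_res_eq_sum N η η
  rw [classInner_irr_self hres] at h
  have hn : ∀ γ : IrrCharacter (G ⧸ N), ∃ k : ℕ, classInner η (fun g => η g * inflate N γ g) = k :=
    fun γ => classInner_isChar_nat (IsIrr.isCharacter hη)
      (CharInduce.IsChar.mul (IsIrr.isCharacter hη) (IsIrr.isCharacter (isIrr_inflate N γ)))
  choose k hk using hn
  choose d hd0 hd using fun γ : IrrCharacter (G ⧸ N) => IsIrr.exists_degree γ.2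
  simp only [hk, hd] at h
  have hsum : ∑ γ, d γ * k γ = 1 := by exact_mod_cast h.symm
  set triv : IrrCharacter (G ⧸ N) := ⟨fun _ => 1, isIrrCharacter_one⟩
  have ht : k triv = 1 := by
    have h2 := hk triv
    simp only [inflate, triv, mul_one] at h2
    rw [classInner_irr_self hη] at h2
    exact_mod_cast h2.symm
  have htd : d triv = 1 := by
    have h2 := hd triv
    simp only [triv] at h2
    exact_mod_cast h2.symm
  rw [hk]
  split_ifs with hβ
  · rw [show β = triv from Subtype.ext hβ, ht, Nat.cast_one]
  · have hne : β ≠ triv := fun e => hβ (congrArg Subtype.val e)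
    rw [← Finset.add_sum_erase _ _ (Finset.mem_univ triv), ht, htd, one_mul, Nat.add_eq_left,
      Finset.sum_eq_zero_iff] at hsum
    rcases Nat.mul_eq_zero.1 (hsum β (Finset.mem_erase.2 ⟨hne, Finset.mem_univ β⟩)) with h2 | h2
    · exact absurd h2 (hd0 β).ne'
    · rw [h2, Nat.cast_zero]

include hη hres in
/-- `η η̄` induces the inner product of the quotient. -/
theorem classInner_mul_conj [Fintype (G ⧸ N)] {f : G ⧸ N → ℂ} (hf : IsClassFunction (G ⧸ N) f) :
    classInner η (fun g => η g * inflate N f g) = classInner (fun _ : G ⧸ N => 1) f := by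
  classical
  conv_lhs => rw [classFunction_expansion hf]
  have : (fun g => η g * inflate N (∑ χ : IrrCharacter (G ⧸ N),
      classInner f (χ : G ⧸ N → ℂ) • (χ : G ⧸ N → ℂ)) g) =
      ∑ χ : IrrCharacter (G ⧸ N), classInner f (χ : G ⧸ N → ℂ) •
        (fun g => η g * inflate N χ g) := by
    funext g
    simp [inflate, Finset.sum_apply, Finset.mul_sum, mul_left_comm]
  rw [this, ← classInner_conj_symm, classInner_sum_left, map_sum]
  simp only [classInner_smul_left, map_mul, classInner_conj_symm]
  simp only [classInner_mul_conj_inflate N hη hres]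
  rw [Finset.sum_eq_single (⟨fun _ => 1, isIrrCharacter_one⟩ : IrrCharacter (G ⧸ N))]
  · simp
  · intro χ _ hne
    rw [if_neg fun e => hne (Subtype.ext e), mul_zero]
  · simp

include hη hres in
/-- Products with irreducible characters of the quotient are irreducible. -/
theorem isIrr_mul_inflate (β : IrrCharacter (G ⧸ N)) :
    IsIrrCharacter G (fun g => η g * inflate N β g) := by
  classical
  haveI : Fintype (G ⧸ N) := Fintype.ofFinite _
  refine CharInduce.isIrr_of_norm_one
    (CharInduce.IsChar.mul (IsIrr.isCharacter hη) (IsIrr.isCharacter (isIrr_inflate N β))) ?_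
  have hf : IsClassFunction (G ⧸ N) (fun q => conj ((β : G ⧸ N → ℂ) q) * (β : G ⧸ N → ℂ) q) :=
    fun q x => by simp only [IsIrr.isClassFunction β.2 q x]
  have h := classInner_mul_conj N hη hres hf
  have e1 : classInner (fun g => η g * inflate N β g) (fun g => η g * inflate N β g) =
      classInner η (fun g => η g * inflate N (fun q => conj ((β : G ⧸ N → ℂ) q) *
        (β : G ⧸ N → ℂ) q) g) := by
    simp only [classInner_def, inflate, map_mul, Complex.conj_conj]
    congr 1
    exact Finset.sum_congr rfl fun g _ => by ring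
  rw [e1, h]
  refine Eq.trans ?_ (classInner_irr_self β.2)
  simp only [classInner_def, map_mul, Complex.conj_conj]
  congr 1
  exact Finset.sum_congr rfl fun q _ => by ring

include hη hres in
/-- Every irreducible character over `η|_N` is `η` times a character of the quotient. -/
theorem exists_eq_mul_inflate {χ : G → ℂ} (hχ : IsIrrCharacter G χ)
    (hover : classInner (fun n : N => χ n) (fun n : N => η n) ≠ 0) :
    ∃ β : IrrCharacter (G ⧸ N), χ = fun g => η g * inflate N β g := by
  classical
  haveI : Fintype (G ⧸ N) := Fintype.ofFinite _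
  rw [classInner_res_eq_sum] at hover
  obtain ⟨β, -, hβ⟩ := Finset.exists_ne_zero_of_sum_ne_zero hover
  refine ⟨β, ?_⟩
  have := right_ne_zero_of_mul hβ
  rw [classInner_irr hχ (isIrr_mul_inflate N hη hres β)] at this
  by_contra hne
  exact this (if_neg hne)

include hη hres in
/-- Two extensions differ by a linear character of the quotient. -/
theorem exists_hom_of_extension {χ : G → ℂ} (hχ : IsIrrCharacter G χ)
    (hχN : ∀ n : N, χ n = η n) :
    ∃ l : G →* ℂˣ, (∀ n ∈ N, l n = 1) ∧ χ = fun g => η g * (l g : ℂ) := by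
  classical
  haveI : Fintype (G ⧸ N) := Fintype.ofFinite _
  obtain ⟨β, hβ⟩ := exists_eq_mul_inflate N hη hres hχ (by
    rw [show (fun n : N => χ n) = fun n : N => η n from funext hχN, classInner_irr_self hres]
    exact one_ne_zero)
  have h1 : (β : G ⧸ N → ℂ) 1 = 1 := by
    have h2 := congrFun hβ 1
    have h3 := hχN 1
    simp only [Subgroup.coe_one] at h3
    rw [h3, inflate, QuotientGroup.mk_one] at h2
    exact mul_left_cancel₀ (IsIrr.one_ne_zero hη) (h2.symm.trans (mul_one _).symm)
  obtain ⟨l, hl⟩ := CharInduce.IsChar.exists_hom_of_degree_one (IsIrr.isCharacter β.2) h1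
  refine ⟨l.comp (QuotientGroup.mk' N), fun n hn => ?_, ?_⟩
  · show l (n : G ⧸ N) = 1
    rw [(QuotientGroup.eq_one_iff n).2 hn, map_one]
  · rw [hβ]
    funext g
    simp [inflate, hl]

end Cfsg.Agent.H81
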