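import Cfsg.Agent.H81.Gallagher
import Cfsg.Agent.BlockBasic.Kernel
import Cfsg.Agent.BlockBasic.Orth
import Cfsg.Prelude.Def_BlockRank

/-!
# The regular rank of the principal block modulo a normal `p`-subgroup `Q` with `G = Q C(Q)`
-/

open scoped ComplexConjugate
open Cfsg.Agent.BlockBasic Cfsg.Agent.CharBasic

namespace Cfsg.Agent.H81

universe u

variable {G : Type u} [Group G] [Finite G] {p : ℕ} [hp : Fact p.Prime] (Q : Subgroup G) [Q.Normal]

theorem pRegularPart_of_reg {χ : G → ℂ} {g : G} (h : ¬ p ∣ orderOf g) :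
    pRegularPart p χ g = χ g := by
  classical
  simp only [pRegularPart]
  exact if_pos h

theorem pRegularPart_of_sing {χ : G → ℂ} {g : G} (h : p ∣ orderOf g) :
    pRegularPart p χ g = 0 := by
  classical
  simp only [pRegularPart]
  exact if_neg fun h' => h' h

theorem mem_centralizer_of_regular (hQ : IsPGroup p Q)
    (hsup : Q ⊔ Subgroup.centralizer (Q : Set G) = ⊤) {g : G} (hg : ¬ p ∣ orderOf g) :
    g ∈ Subgroup.centralizer (Q : Set G) := by
  haveI : (Subgroup.centralizer (Q : Set G)).Normal := inferInstance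
  refine mem_of_regular ?_ hg
  set C := Subgroup.centralizer (Q : Set G)
  obtain ⟨k, hk⟩ := IsPGroup.iff_card.1 hQ
  have hsurj : Function.Surjective ((QuotientGroup.mk' C).comp Q.subtype) := by
    intro q
    obtain ⟨x, rfl⟩ := QuotientGroup.mk'_surjective C q
    have hx : x ∈ Q ⊔ C := hsup ▸ Subgroup.mem_top x
    rw [Subgroup.mem_sup_of_normal_right] at hx
    obtain ⟨a, ha, b, hb, rfl⟩ := hx
    refine ⟨⟨a, ha⟩, ?_⟩
    show (a : G ⧸ C) = ((a * b : G) : G ⧸ C)
    rw [QuotientGroup.mk_mul, (QuotientGroup.eq_one_iff b).2 hb, mul_one]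
  have hd := Subgroup.card_dvd_of_surjective _ hsurj
  rw [← Subgroup.index_eq_card, hk] at hd
  obtain ⟨i, -, hi⟩ := (Nat.dvd_prime_pow hp.out).1 hd
  exact ⟨i, hi⟩

theorem eq_of_regular_of_mk_eq (hQ : IsPGroup p Q)
    (hsup : Q ⊔ Subgroup.centralizer (Q : Set G) = ⊤) {g h : G} (hg : ¬ p ∣ orderOf g)
    (hh : ¬ p ∣ orderOf h) (he : (g : G ⧸ Q) = (h : G ⧸ Q)) : g = h := by
  have hz : g⁻¹ * h ∈ Q := QuotientGroup.eq.1 he
  have hc : Commute (g⁻¹ * h) g :=
    Subgroup.mem_centralizer_iff.1 (mem_centralizer_of_regular Q hQ hsup hg) _ hz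
  have hk : ∃ k, orderOf (g⁻¹ * h) = p ^ k := by
    obtain ⟨k, hk⟩ := IsPGroup.iff_orderOf.1 hQ ⟨_, hz⟩
    exact ⟨k, by rw [← hk, Subgroup.orderOf_mk]⟩
  have h1 : pPart (p := p) h = 1 := (pPart_eq_one_iff _).2 hh
  have h2 : h = g⁻¹ * h * g := by rw [hc.eq, mul_inv_cancel_left]
  rw [h2, pPart_mul_of hc hk hg] at h1
  rwa [inv_mul_eq_one] at h1

omit [Q.Normal] in
theorem regular_map [Q.Normal] {g : G} (hg : ¬ p ∣ orderOf g) : ¬ p ∣ orderOf (g : G ⧸ Q) :=
  fun h => hg (h.trans (orderOf_map_dvd (QuotientGroup.mk' Q) g))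

theorem exists_regular_lift {q : G ⧸ Q} (hq : ¬ p ∣ orderOf q) :
    ∃ g : G, ¬ p ∣ orderOf g ∧ (g : G ⧸ Q) = q := by
  obtain ⟨x, rfl⟩ := QuotientGroup.mk'_surjective Q q
  obtain ⟨y, hy, hc, ⟨j, hj⟩, hn⟩ := isPPart_pPart (p := p) x
  refine ⟨y, hn, ?_⟩
  have hmap : QuotientGroup.mk' Q (pPart (p := p) x) = 1 := by
    have h1 : pPart (p := p) (QuotientGroup.mk' Q x) = 1 := (pPart_eq_one_iff _).2 hq
    rw [← hy, map_mul] at h1
    rw [pPart_mul_of (hc.map (QuotientGroup.mk' Q)) ?_ (regular_map Q hn)] at h1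
    · exact h1
    · obtain ⟨i, -, hi⟩ := (Nat.dvd_prime_pow hp.out).1
        (hj ▸ orderOf_map_dvd (QuotientGroup.mk' Q) (pPart (p := p) x))
      exact ⟨i, hi⟩
  conv_rhs => rw [← hy, map_mul, hmap, one_mul]
  rfl

open scoped Classical in
theorem classSize_regular (hQ : IsPGroup p Q)
    (hsup : Q ⊔ Subgroup.centralizer (Q : Set G) = ⊤) {g : G} (hg : ¬ p ∣ orderOf g) :
    (Subgroup.centralizer ({g} : Set G)).index =
      (Subgroup.centralizer ({(g : G ⧸ Q)} : Set (G ⧸ Q))).index := by
  cases nonempty_fintype G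
  haveI := Fintype.ofFinite (G ⧸ Q)
  have hord : ∀ {a : G}, IsConj g a → ¬ p ∣ orderOf a := fun {a} h => by
    obtain ⟨c, rfl⟩ := isConj_iff.1 h
    rw [show orderOf (c * g * c⁻¹) = orderOf g from MulEquiv.orderOf_eq (MulAut.conj c) g]
    exact hg
  rw [← card_class, ← card_class]
  refine Finset.card_bij (fun a _ => (a : G ⧸ Q)) (fun a ha => ?_) (fun a ha b hb h => ?_)
    (fun q hq => ?_)
  · simp only [Finset.mem_filter, Finset.mem_univ, true_and] at ha ⊢
    obtain ⟨c, rfl⟩ := isConj_iff.1 ha
    exact isConj_iff.2 ⟨c, rfl⟩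
  · simp only [Finset.mem_filter, Finset.mem_univ, true_and] at ha hb
    exact eq_of_regular_of_mk_eq Q hQ hsup (hord ha) (hord hb) h
  · simp only [Finset.mem_filter, Finset.mem_univ, true_and] at hq
    obtain ⟨c, rfl⟩ := isConj_iff.1 hq
    obtain ⟨c, rfl⟩ := QuotientGroup.mk'_surjective Q c
    exact ⟨c * g * c⁻¹, by simp only [Finset.mem_filter, Finset.mem_univ, true_and]
                           exact isConj_iff.2 ⟨c, rfl⟩, rfl⟩

/-- Inflation matches the principal blocks. -/
theorem inflate_mem_principalBlock_iff [Fintype G] {M : Ideal AlgInt} (hM : IsPModular p M) (hQ : IsPGroup p Q)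
    (hsup : Q ⊔ Subgroup.centralizer (Q : Set G) = ⊤) (β : IrrCharacter (G ⧸ Q)) :
    (⟨inflate Q β, isIrr_inflate Q β⟩ : IrrCharacter G) ∈ principalBlock M G ↔
      β ∈ principalBlock M (G ⧸ Q) := by
  have key : ∀ (f : G ⧸ Q → ℂ) (g : G), ¬ p ∣ orderOf g →
      centralChar (fun x : G => f x) g = centralChar f (g : G ⧸ Q) := by
    intro f g hg
    simp only [centralChar, classSize_regular Q hQ hsup hg, QuotientGroup.mk_one]
  constructor
  · intro h
    show SameBlock M ((trivialIrr : IrrCharacter (G ⧸ Q)) : G ⧸ Q → ℂ) (β : G ⧸ Q → ℂ)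
    refine sameBlock_of_congr_regular hM fun q hq => ?_
    obtain ⟨g, hg, rfl⟩ := exists_regular_lift Q hq
    rw [← key _ g hg, ← key _ g hg]
    exact h g
  · intro h
    show SameBlock M ((trivialIrr : IrrCharacter G) : G → ℂ) _
    refine sameBlock_of_congr_regular hM fun g hg => ?_
    have e1 : centralChar (fun _ : G => (1 : ℂ)) g = centralChar (fun _ : G ⧸ Q => (1 : ℂ)) (g : G ⧸ Q) :=
      key (fun _ => 1) g hg
    have e2 := key (β : G ⧸ Q → ℂ) g hg
    show MemLocalIdeal M (centralChar (fun _ : G => (1 : ℂ)) g -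
      centralChar (fun x : G => (β : G ⧸ Q → ℂ) x) g)
    rw [e1, e2]
    exact h _

theorem blockRank_principalBlock_quotient {M : Ideal AlgInt} (hM : IsPModular p M)
    (hQ : IsPGroup p Q) (hsup : Q ⊔ Subgroup.centralizer (Q : Set G) = ⊤) :
    blockRank p (principalBlock M G) = blockRank p (principalBlock M (G ⧸ Q)) := by
  classical
  cases nonempty_fintype G
  haveI := Fintype.ofFinite (G ⧸ Q)
  let L : (G ⧸ Q → ℂ) →ₗ[ℂ] (G → ℂ) :=
    { toFun := fun f => pRegularPart p (fun x => f (x : G ⧸ Q))
      map_add' := fun f h => funext fun x => by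
        by_cases hx : p ∣ orderOf x
        · simp [pRegularPart_of_sing hx]
        · simp [pRegularPart_of_reg hx]
      map_smul' := fun c f => funext fun x => by
        by_cases hx : p ∣ orderOf x
        · simp [pRegularPart_of_sing hx]
        · simp [pRegularPart_of_reg hx] }
  set W := Submodule.span ℂ
    ((fun χ : IrrCharacter (G ⧸ Q) => pRegularPart p (χ : G ⧸ Q → ℂ)) '' principalBlock M (G ⧸ Q))
    with hW
  set V := Submodule.span ℂ
    ((fun χ : IrrCharacter G => pRegularPart p (χ : G → ℂ)) '' principalBlock M G) with hV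
  have hLgen : ∀ β : IrrCharacter (G ⧸ Q), L (pRegularPart p (β : G ⧸ Q → ℂ)) =
      pRegularPart p (inflate Q (β : G ⧸ Q → ℂ)) := fun β => funext fun x => by
    by_cases hx : p ∣ orderOf x
    · show pRegularPart p (fun y : G => pRegularPart p (β : G ⧸ Q → ℂ) (y : G ⧸ Q)) x = _
      rw [pRegularPart_of_sing hx, pRegularPart_of_sing hx]
    · show pRegularPart p (fun y : G => pRegularPart p (β : G ⧸ Q → ℂ) (y : G ⧸ Q)) x = _
      rw [pRegularPart_of_reg hx, pRegularPart_of_reg hx, pRegularPart_of_reg (regular_map Q hx),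
        inflate]
  have hmap : W.map L = V := by
    refine le_antisymm ?_ ?_
    · rw [Submodule.map_span_le]
      rintro _ ⟨β, hβ, rfl⟩
      rw [hLgen]
      exact Submodule.subset_span ⟨_, (inflate_mem_principalBlock_iff Q hM hQ hsup β).2 hβ, rfl⟩
    · rw [hV, Submodule.span_le]
      rintro _ ⟨χ, hχ, rfl⟩
      -- the corresponding class function of the quotient
      let f : G ⧸ Q → ℂ := fun q =>
        if hq : ¬ p ∣ orderOf q then (χ : G → ℂ) (exists_regular_lift Q hq).choose else 0
      have hfval : ∀ g : G, ¬ p ∣ orderOf g → f (g : G ⧸ Q) = (χ : G → ℂ) g := fun g hg => by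
        have hq := regular_map Q hg
        simp only [f, dif_pos hq]
        exact congrArg _ (eq_of_regular_of_mk_eq Q hQ hsup (exists_regular_lift Q hq).choose_spec.1 hg
          (exists_regular_lift Q hq).choose_spec.2)
      have hfcl : IsClassFunction (G ⧸ Q) f := by
        intro q c
        have hord : orderOf (c * q * c⁻¹) = orderOf q := MulEquiv.orderOf_eq (MulAut.conj c) q
        by_cases hq : ¬ p ∣ orderOf q
        · obtain ⟨g, hg, rfl⟩ := exists_regular_lift Q hq
          obtain ⟨c, rfl⟩ := QuotientGroup.mk'_surjective Q c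
          have hg' : ¬ p ∣ orderOf (c * g * c⁻¹) := by
            rwa [show orderOf (c * g * c⁻¹) = orderOf g from MulEquiv.orderOf_eq (MulAut.conj c) g]
          rw [hfval g hg, ← IsIrr.isClassFunction χ.2 g c, ← hfval _ hg']
          rfl
        · simp only [f]
          rw [dif_neg (by rwa [hord]), dif_neg hq]
      let a : IrrCharacter (G ⧸ Q) → ℂ := fun β => classInner f (β : G ⧸ Q → ℂ)
      let inf : IrrCharacter (G ⧸ Q) → IrrCharacter G := fun β =>
        ⟨inflate Q β, isIrr_inflate Q β⟩
      have hexp : pRegularPart p (χ : G → ℂ) =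
          ∑ β, a β • pRegularPart p ((inf β : IrrCharacter G) : G → ℂ) := by
        funext x
        simp only [Finset.sum_apply, Pi.smul_apply, smul_eq_mul]
        by_cases hx : p ∣ orderOf x
        · simp [pRegularPart_of_sing hx]
        · simp only [pRegularPart_of_reg hx, inf, inflate]
          rw [← hfval x hx]
          conv_lhs => rw [classFunction_expansion hfcl]
          simp [a, Finset.sum_apply]
      set s := Finset.univ.filter fun β : IrrCharacter (G ⧸ Q) => β ∈ principalBlock M (G ⧸ Q)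
      set t := Finset.univ.filter fun β : IrrCharacter (G ⧸ Q) => ¬ β ∈ principalBlock M (G ⧸ Q)
      set h := ∑ β ∈ t, a β • pRegularPart p ((inf β : IrrCharacter G) : G → ℂ) with hh
      set u := ∑ β ∈ s, a β • pRegularPart p ((inf β : IrrCharacter G) : G → ℂ) with hu
      have hsum : pRegularPart p (χ : G → ℂ) = u + h := by
        rw [hexp, hu, hh]
        exact (Finset.sum_filter_add_sum_filter_not Finset.univ _ _).symm
      have huV : u ∈ V := Submodule.sum_mem _ fun β hβ => V.smul_mem _ (Submodule.subset_span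
        ⟨inf β, (inflate_mem_principalBlock_iff Q hM hQ hsup β).2 (Finset.mem_filter.1 hβ).2, rfl⟩)
      have hhV : h ∈ V := by
        rw [show h = pRegularPart p (χ : G → ℂ) - u by rw [hsum, add_sub_cancel_left]]
        exact V.sub_mem (Submodule.subset_span ⟨χ, hχ, rfl⟩) huV
      have horth : ∀ v ∈ V, ∑ x, v x * conj (h x) = 0 := by
        intro v hv
        induction hv using Submodule.span_induction with
        | mem v hv =>
          obtain ⟨φ, hφ, rfl⟩ := hv
          simp only [hh, Finset.sum_apply, Pi.smul_apply, smul_eq_mul, map_sum, map_mul,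
            Finset.mul_sum]
          rw [Finset.sum_comm]
          refine Finset.sum_eq_zero fun β hβ => ?_
          have hnot : inf β ∉ principalBlock M G := fun hc =>
            (Finset.mem_filter.1 hβ).2 ((inflate_mem_principalBlock_iff Q hM hQ hsup β).1 hc)
          have h0 := sum_regular_eq_zero hM (isPBlock_principalBlock M) hφ hnot
          rw [Finset.sum_filter] at h0
          refine Eq.trans ?_ ((congrArg (fun z => conj (a β) * z) h0).trans (mul_zero _))
          rw [Finset.mul_sum]
          refine Finset.sum_congr rfl fun x _ => ?_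
          by_cases hx : p ∣ orderOf x
          · simp [pRegularPart_of_sing hx, hx]
          · simp only [pRegularPart_of_reg hx, hx, not_false_eq_true, if_true]
            ring
        | zero => simp
        | add v w _ _ hv hw =>
          simp only [Pi.add_apply, add_mul, Finset.sum_add_distrib, hv, hw, add_zero]
        | smul c v _ hv =>
          simp only [Pi.smul_apply, smul_eq_mul, mul_assoc, ← Finset.mul_sum, hv, mul_zero]
      have hh0 : h = 0 := by
        funext x
        have h1 := horth h hhV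
        have h2 : ((∑ x, Complex.normSq (h x) : ℝ) : ℂ) = 0 := by
          push_cast
          rw [← h1]
          exact Finset.sum_congr rfl fun x _ => (Complex.mul_conj _).symm
        exact Complex.normSq_eq_zero.1 ((Finset.sum_eq_zero_iff_of_nonneg
          fun x _ => Complex.normSq_nonneg _).1 (by exact_mod_cast h2) x (Finset.mem_univ x))
      show pRegularPart p (χ : G → ℂ) ∈ W.map L
      rw [hsum, hh0, add_zero, hu]
      refine Submodule.sum_mem _ fun β hβ => Submodule.smul_mem _ _ ?_
      refine Submodule.mem_map.2 ⟨pRegularPart p (β : G ⧸ Q → ℂ),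
        Submodule.subset_span ⟨β, (Finset.mem_filter.1 hβ).2, rfl⟩, hLgen β⟩
  have hsupp : ∀ w ∈ W, ∀ q : G ⧸ Q, p ∣ orderOf q → w q = 0 := by
    intro w hw q hq
    induction hw using Submodule.span_induction with
    | mem v hv => obtain ⟨β, -, rfl⟩ := hv; exact pRegularPart_of_sing hq
    | zero => rfl
    | add v w _ _ hv hw => simp [hv, hw]
    | smul c v _ hv => simp [hv]
  have hinj : Function.Injective (L.domRestrict W) := by
    intro v w hvw
    refine Subtype.ext (funext fun q => ?_)
    by_cases hq : p ∣ orderOf q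
    · rw [hsupp _ v.2 q hq, hsupp _ w.2 q hq]
    · obtain ⟨g, hg, rfl⟩ := exists_regular_lift Q hq
      have h1 := congrFun hvw g
      simp only [LinearMap.domRestrict_apply] at h1
      change pRegularPart p (fun y : G => v.1 (y : G ⧸ Q)) g =
        pRegularPart p (fun y : G => w.1 (y : G ⧸ Q)) g at h1
      rwa [pRegularPart_of_reg hg, pRegularPart_of_reg hg] at h1
  show Module.finrank ℂ V = Module.finrank ℂ W
  rw [← hmap, ← LinearMap.range_domRestrict, ← (LinearEquiv.ofInjective _ hinj).finrank_eq]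

end Cfsg.Agent.H81
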