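import Cfsg.Agent.H81.SylowPrimeBound
import Mathlib.GroupTheory.SchurZassenhaus
import Mathlib.GroupTheory.SpecificGroups.Cyclic
import Mathlib.RingTheory.IntegralDomain
import Mathlib.FieldTheory.Finite.Basic

/-!
# The normalizer of a Sylow subgroup of prime order
-/

set_option autoImplicit false

namespace Cfsg.Agent.H81

/-- A Sylow subgroup of prime order has the normalizer data used for the degree bound. -/
theorem exists_primeSylowData {G : Type*} [Group G] [Finite G] (p : ℕ) [hp : Fact p.Prime]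
    (hsq : ¬ p ^ 2 ∣ Nat.card G) (x : G) (hx : orderOf x = p) :
    ∃ (O : Subgroup G) (t : G) (e : ℕ), PrimeSylowData p x O t e := by
  classical
  set P := Subgroup.zpowers x
  set N := Subgroup.normalizer (P : Set G) with hN
  have hPN : P ≤ N := Subgroup.le_normalizer
  have hcardP : Nat.card P = p := by rw [Nat.card_zpowers, hx]
  haveI hnorm : (P.subgroupOf N).Normal := Subgroup.normal_in_normalizer
  have hcardP' : Nat.card (P.subgroupOf N) = p := by
    rw [Nat.card_congr (Subgroup.subgroupOfEquivOfLe hPN).toEquiv, hcardP]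
  have hndvd : ¬ p ∣ (P.subgroupOf N).index := by
    intro h
    apply hsq
    refine dvd_trans ?_ (Subgroup.card_subgroup_dvd_card N)
    rw [← Subgroup.card_mul_index (P.subgroupOf N), hcardP', sq]
    exact mul_dvd_mul_left p h
  have hco : Nat.Coprime (Nat.card (P.subgroupOf N)) (P.subgroupOf N).index := by
    rw [hcardP']; exact hp.out.coprime_iff_not_dvd.2 hndvd
  obtain ⟨E', hE'⟩ := Subgroup.exists_right_complement'_of_coprime hco
  set E := E'.map N.subtype
  have hEN : E ≤ N := Subgroup.map_subtype_le E'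
  have hEcard : ¬ p ∣ Nat.card E := by
    have h := hE'.index_eq_card
    rw [show Nat.card E = Nat.card E' from (Subgroup.card_map_of_injective N.subtype_injective),
      ← hE'.symm.index_eq_card]
    exact hndvd
  -- the action on `P`
  let c : E →* MulAut P :=
    { toFun := fun y =>
        { toFun := fun u => ⟨(y : G) * u * (y : G)⁻¹,
            (Subgroup.mem_normalizer_iff.1 (hEN y.2) u).1 u.2⟩
          invFun := fun u => ⟨(y : G)⁻¹ * u * y, (Subgroup.mem_normalizer_iff.1 (hEN y.2) _).2 (by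
            simp [mul_assoc])⟩
          left_inv := fun u => Subtype.ext (by simp [mul_assoc])
          right_inv := fun u => Subtype.ext (by simp [mul_assoc])
          map_mul' := fun u v => Subtype.ext (by simp [mul_assoc]) }
      map_one' := MulEquiv.ext fun u => Subtype.ext (by simp)
      map_mul' := fun a b => MulEquiv.ext fun u => Subtype.ext (by simp [mul_assoc]) }
  haveI : IsCyclic P := Subgroup.isCyclic_zpowers x
  haveI : IsCyclic (ZMod (Nat.card P))ˣ := by
    haveI : Fact (Nat.card P).Prime := ⟨hcardP.symm ▸ hp.out⟩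
    infer_instance
  haveI : IsCyclic (MulAut P) := (IsCyclic.mulAutMulEquiv P).isCyclic.2 inferInstance
  obtain ⟨⟨γ, t, rfl⟩, hγ⟩ := IsCyclic.exists_generator (α := c.range)
  set O := c.ker.map E.subtype with hO
  have hOcomm : ∀ o ∈ O, x * o = o * x := by
    rintro _ ⟨o, ho, rfl⟩
    have h := congrArg Subtype.val (DFunLike.congr_fun (MonoidHom.mem_ker.1 ho)
      ⟨x, Subgroup.mem_zpowers x⟩)
    have h' : (o : G) * x * (o : G)⁻¹ = x := h
    exact (mul_inv_eq_iff_eq_mul.1 h').symm
  refine ⟨O, (t : G), orderOf (c t), hx, hOcomm, ?_, hEN t.2, ?_, orderOf_pos _, ?_, ?_, ?_, ?_⟩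
  · intro h
    refine hEcard (h.trans ?_)
    rw [hO, Subgroup.card_map_of_injective E.subtype_injective]
    exact Subgroup.card_subgroup_dvd_card c.ker
  · intro o
    constructor
    · rintro ⟨o', ho', rfl⟩
      exact ⟨t * o' * t⁻¹, MonoidHom.normal_ker c |>.conj_mem o' ho' t, by simp⟩
    · rintro ⟨o', ho', ho''⟩
      refine ⟨t⁻¹ * o' * t, ?_, ?_⟩
      · simpa using (MonoidHom.normal_ker c).conj_mem o' ho' t⁻¹
      · simp only [Subgroup.coe_subtype, Subgroup.coe_mul, Subgroup.coe_inv] at ho'' ⊢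
        rw [ho'']
        simp [mul_assoc]
  · exact fun h => hEcard (h.trans ((orderOf_map_dvd c t).trans
      (orderOf_dvd_natCard t)))
  · exact ⟨t ^ orderOf (c t), by
      rw [SetLike.mem_coe, MonoidHom.mem_ker, map_pow, pow_orderOf_eq_one], by simp⟩
  · intro g hg
    obtain ⟨⟨u, y⟩, huy, -⟩ := Subgroup.isComplement_iff_existsUnique.1 hE' ⟨g, hg⟩
    have hg' : g = ((u : N) : G) * ((y : N) : G) := congrArg Subtype.val huy.symm
    obtain ⟨a, ha⟩ := mem_powers_iff_mem_zpowers.2 (Subgroup.mem_subgroupOf.1 u.2)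
    let y' : E := ⟨((y : N) : G), ⟨(y : N), y.2, rfl⟩⟩
    obtain ⟨i, hi⟩ := mem_powers_iff_mem_zpowers.2 (hγ ⟨c y', y', rfl⟩)
    have hi' : c t ^ i = c y' := congrArg Subtype.val hi
    refine ⟨a, i, ((t ^ i)⁻¹ * y' : E), ⟨(t ^ i)⁻¹ * y', ?_, rfl⟩, ?_⟩
    · rw [SetLike.mem_coe, MonoidHom.mem_ker, map_mul, map_inv, map_pow, hi', inv_mul_cancel]
    · rw [hg', show x ^ a = ((u : N) : G) from ha]
      simp [y']
  · intro g hg hgo
    by_contra hgP
    apply hndvd
    have hmk : ((⟨g, hg⟩ : N) : N ⧸ P.subgroupOf N) ≠ 1 := by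
      rw [Ne, QuotientGroup.eq_one_iff]
      simpa [Subgroup.mem_subgroupOf] using hgP
    have hord : orderOf ((⟨g, hg⟩ : N) : N ⧸ P.subgroupOf N) = p := by
      have h := orderOf_map_dvd (QuotientGroup.mk' (P.subgroupOf N)) (⟨g, hg⟩ : N)
      rw [Subgroup.orderOf_mk, hgo] at h
      refine (hp.out.eq_one_or_self_of_dvd _ h).resolve_left ?_
      rwa [orderOf_eq_one_iff]
    rw [Subgroup.index_eq_card, ← hord]
    exact orderOf_dvd_natCard _

end Cfsg.Agent.H81
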