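import Cfsg.Agent.H81.FixedProjection
import Mathlib.Algebra.Order.Chebyshev

/-!
# Fixed spaces of the conjugation representation

If `x` of order dividing `p` centralizes `O` and has `r` distinct eigenvalues, then the
centralizer algebra of `O` has dimension at most `r` times that of `⟨x⟩ O`, and the latter has
dimension at least `r`.
-/

set_option autoImplicit false
set_option linter.unusedSectionVars false

namespace Cfsg.Agent.H81

open Module Matrix
open scoped ComplexConjugate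

variable {G : Type*} [Group G] {ι : Type*} [Fintype ι] [DecidableEq ι]

/-- Parseval's identity for the Fourier transform on `ℤ/p`. -/
theorem parseval_range {p : ℕ} (hp : 0 < p) {ζ : ℂ} (hζ : IsPrimitiveRoot ζ p) (f : ℕ → ℂ) :
    ∑ i ∈ Finset.range p, ‖(p : ℂ)⁻¹ * ∑ a ∈ Finset.range p, ((ζ ^ i)⁻¹) ^ a * f a‖ ^ 2 =
      (p : ℝ)⁻¹ * ∑ a ∈ Finset.range p, ‖f a‖ ^ 2 := by
  have hconj : ∀ i a : ℕ, conj (((ζ ^ i)⁻¹) ^ a) = (ζ ^ i) ^ a := fun i a => by
    rw [map_pow, map_inv₀, map_pow, ← Complex.inv_eq_conj (hζ.norm'_eq_one hp.ne'), inv_pow ζ,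
      inv_inv]
  have key : ∀ a ∈ Finset.range p, ∀ b ∈ Finset.range p,
      (∑ i ∈ Finset.range p, ((ζ ^ i)⁻¹) ^ a * (ζ ^ i) ^ b) = if a = b then (p : ℂ) else 0 := by
    intro a ha b hb
    have h0 : ζ ≠ 0 := hζ.ne_zero hp.ne'
    have hterm : ∀ i : ℕ, ((ζ ^ i)⁻¹) ^ a * (ζ ^ i) ^ b = ((ζ ^ a)⁻¹ * ζ ^ b) ^ i := fun i => by
      rw [mul_pow, inv_pow, inv_pow, ← pow_mul, ← pow_mul, ← pow_mul, ← pow_mul, mul_comm i a,
        mul_comm i b]
    rw [Finset.sum_congr rfl fun i _ => hterm i]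
    split_ifs with h
    · subst h; simp [inv_mul_cancel₀ (pow_ne_zero a h0)]
    · have hne : (ζ ^ a)⁻¹ * ζ ^ b ≠ 1 := fun h1 => h
        (hζ.pow_inj (Finset.mem_range.1 ha) (Finset.mem_range.1 hb)
          ((inv_mul_eq_one₀ (pow_ne_zero a h0)).1 h1))
      rw [geom_sum_eq hne, mul_pow, inv_pow, ← pow_mul, ← pow_mul, mul_comm a, mul_comm b,
        pow_mul, pow_mul, hζ.pow_eq_one]
      simp
  suffices hC : ∑ i ∈ Finset.range p,
      ((p : ℂ)⁻¹ * ∑ a ∈ Finset.range p, ((ζ ^ i)⁻¹) ^ a * f a) *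
        conj ((p : ℂ)⁻¹ * ∑ a ∈ Finset.range p, ((ζ ^ i)⁻¹) ^ a * f a) =
      (p : ℂ)⁻¹ * ∑ a ∈ Finset.range p, f a * conj (f a) by
    simp only [Complex.mul_conj'] at hC
    apply Complex.ofReal_injective
    push_cast
    exact hC
  simp only [map_mul, map_sum, hconj, map_inv₀, Complex.conj_natCast]
  calc ∑ i ∈ Finset.range p, ((p : ℂ)⁻¹ * ∑ a ∈ Finset.range p, ((ζ ^ i)⁻¹) ^ a * f a) *
        ((p : ℂ)⁻¹ * ∑ b ∈ Finset.range p, (ζ ^ i) ^ b * conj (f b))
      = (p : ℂ)⁻¹ * (p : ℂ)⁻¹ * ∑ a ∈ Finset.range p, ∑ b ∈ Finset.range p,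
          (∑ i ∈ Finset.range p, ((ζ ^ i)⁻¹) ^ a * (ζ ^ i) ^ b) * (f a * conj (f b)) := by
        simp only [Finset.mul_sum, Finset.sum_mul]
        rw [Finset.sum_comm]
        conv_rhs => rw [Finset.sum_comm]
        refine Finset.sum_congr rfl fun a _ => ?_
        rw [Finset.sum_comm]
        exact Finset.sum_congr rfl fun b _ => Finset.sum_congr rfl fun i _ => by ring
    _ = (p : ℂ)⁻¹ * ∑ a ∈ Finset.range p, f a * conj (f a) := by
        simp only [Finset.mul_sum]
        refine Finset.sum_congr rfl fun a ha => ?_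
        rw [Finset.sum_eq_single a, key a ha a ha, if_pos rfl]
        · field_simp
        · intro b hb hba
          rw [key a ha b hb, if_neg (Ne.symm hba), zero_mul, mul_zero]
        · exact fun h => absurd ha h

/-- The two centralizer dimensions. -/
theorem adjoint_fixed_dims (ψ : G →* Matrix ι ι ℂ)
    (hconj : ∀ g, (ψ g⁻¹).trace = conj (ψ g).trace) {p : ℕ} (hp : 0 < p) (x : G)
    (hx : x ^ p = 1) (O : Subgroup G) [Fintype O] (hxO : ∀ o ∈ O, x * o = o * x) :
    ∃ r : ℕ, r ≤ Fintype.card ι ∧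
      finrank ℂ (fixVec (adMat ψ) (O : Set G)) ≤
        r * finrank ℂ (fixVec (adMat ψ) (insert x (O : Set G))) ∧
      r ≤ finrank ℂ (fixVec (adMat ψ) (insert x (O : Set G))) ∧
      (r ≤ 1 → ∃ c : ℂ, ψ x = c • 1) := by
  classical
  obtain ⟨ζ, hζ⟩ : ∃ ζ : ℂ, IsPrimitiveRoot ζ p := ⟨_, Complex.isPrimitiveRoot_exp p hp.ne'⟩
  have hne : ∀ i, ζ ^ i ≠ 0 := fun i => pow_ne_zero i (hζ.ne_zero hp.ne')
  let proj : ℕ → Matrix ι ι ℂ := fun i => specProj (ψ x) (ζ ^ i) p
  have hsum : ∑ i ∈ Finset.range p, proj i = 1 := sum_specProj _ hp hζ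
  have hroot : ∀ i, ((ζ ^ i)⁻¹ • ψ x) ^ p = 1 := fun i => by
    rw [smul_pow, ← map_pow, hx, map_one, inv_pow, ← pow_mul, mul_comm, pow_mul, hζ.pow_eq_one,
      one_pow, inv_one, one_smul]
  have heig : ∀ i, ψ x * proj i = ζ ^ i • proj i := fun i => by
    simpa using mul_specProj (ψ x) (hne i) p 1 (by rw [hroot, one_mul])
  have hvec : ∀ i v, ψ x *ᵥ (proj i *ᵥ v) = ζ ^ i • proj i *ᵥ v := fun i v => by
    rw [mulVec_mulVec, heig, smul_mulVec]
  have hidem : ∀ i, proj i * proj i = proj i := fun i => Matrix.toLin'.injective <|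
    LinearMap.ext fun v => by
      simp only [Matrix.toLin'_apply, ← mulVec_mulVec]
      exact specProj_mulVec_self _ (hne i) hp (hvec i v)
  have horth : ∀ i < p, ∀ j < p, i ≠ j → proj i * proj j = 0 := fun i hi j hj hij =>
    Matrix.toLin'.injective <| LinearMap.ext fun v => by
      simp only [Matrix.toLin'_apply, ← mulVec_mulVec, Matrix.zero_mulVec]
      refine specProj_mulVec_other _ (hne i) (fun h => hij (hζ.pow_inj hi hj h)) ?_ (hvec j v)
      rw [← pow_mul, ← pow_mul, mul_comm i, mul_comm j, pow_mul, pow_mul, hζ.pow_eq_one, one_pow,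
        one_pow]
  have hcommx : ∀ i, Commute (ψ x) (proj i) := fun i =>
    (Commute.sum_right _ _ _ fun a _ =>
      ((Commute.refl (ψ x)).smul_right _).pow_right a).smul_right _
  have hcommO : ∀ i, ∀ o ∈ O, Commute (ψ o) (proj i) := fun i o ho =>
    (Commute.sum_right _ _ _ fun a _ =>
      ((Commute.map (show Commute o x from (hxO o ho).symm) ψ).smul_right _).pow_right
        a).smul_right _
  let S := (Finset.range p).filter fun i => proj i ≠ 0
  have hsumS : ∑ i ∈ S, proj i = 1 := by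
    rw [← hsum]
    exact Finset.sum_filter_ne_zero _
  refine ⟨S.card, ?_, ?_, ?_, ?_⟩
  · let W : ℕ → Submodule ℂ (ι → ℂ) := fun i => LinearMap.range (Matrix.toLin' (proj i))
    have htr : ∀ i, (proj i).trace = (finrank ℂ (W i) : ℂ) := fun i =>
      trace_eq_finrank _ _ (fun v => ⟨v, rfl⟩) (by
        rintro _ ⟨v, rfl⟩
        simp only [Matrix.toLin'_apply, mulVec_mulVec, hidem])
    have h1 : ∀ i ∈ S, 1 ≤ finrank ℂ (W i) := fun i hi => by
      rw [Nat.one_le_iff_ne_zero, Ne, Submodule.finrank_eq_zero, LinearMap.range_eq_bot]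
      exact fun h => (Finset.mem_filter.1 hi).2 (Matrix.toLin'.injective (by rw [h, map_zero]))
    have h2 : (Fintype.card ι : ℂ) = ∑ i ∈ S, (finrank ℂ (W i) : ℂ) := by
      rw [← Finset.sum_congr rfl fun i _ => htr i, ← Matrix.trace_sum, hsumS, Matrix.trace_one]
    have h3 : Fintype.card ι = ∑ i ∈ S, finrank ℂ (W i) := by exact_mod_cast h2
    rw [h3, Finset.card_eq_sum_ones]
    exact Finset.sum_le_sum h1
  · let T : ℕ → G → ℂ := fun i g => (proj i * ψ g).trace
    let f : G → ℕ → ℂ := fun g a => (ψ (x ^ a * g)).trace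
    have hT : ∀ i g, T i g =
        (p : ℂ)⁻¹ * ∑ a ∈ Finset.range p, ((ζ ^ i)⁻¹) ^ a * f g a := fun i g => by
      simp only [T, f, proj, specProj, smul_pow, smul_mul_assoc, Finset.sum_mul, Matrix.trace_smul,
        Matrix.trace_sum, smul_eq_mul, map_mul, map_pow]
    have hpt : ∀ o : O, ‖(ψ (o : G)).trace‖ ^ 2 ≤
        S.card * ((p : ℝ)⁻¹ * ∑ a ∈ Finset.range p, ‖f o a‖ ^ 2) := by
      intro o
      have e1 : (ψ (o : G)).trace = ∑ i ∈ S, T i o := by
        rw [← Matrix.trace_sum, ← Finset.sum_mul, hsumS, one_mul]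
      rw [e1]
      calc ‖∑ i ∈ S, T i o‖ ^ 2 ≤ (∑ i ∈ S, ‖T i o‖) ^ 2 :=
            pow_le_pow_left₀ (norm_nonneg _) (norm_sum_le _ _) 2
        _ ≤ S.card * ∑ i ∈ S, ‖T i o‖ ^ 2 := sq_sum_le_card_mul_sum_sq
        _ ≤ S.card * ∑ i ∈ Finset.range p, ‖T i o‖ ^ 2 :=
            mul_le_mul_of_nonneg_left (Finset.sum_le_sum_of_subset_of_nonneg
              (Finset.filter_subset _ _) fun i _ _ => sq_nonneg _) (Nat.cast_nonneg _)
        _ = S.card * ((p : ℝ)⁻¹ * ∑ a ∈ Finset.range p, ‖f o a‖ ^ 2) := by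
            rw [← parseval_range hp hζ (f o)]
            simp only [hT]
    have htrad : ∀ g, (adMat ψ g).trace = ((‖(ψ g).trace‖ ^ 2 : ℝ) : ℂ) := fun g => by
      rw [trace_adMat, hconj, Complex.conj_mul']
      push_cast
      rfl
    have hD0 : (finrank ℂ (fixVec (adMat ψ) (O : Set G)) : ℝ) =
        (Fintype.card O : ℝ)⁻¹ * ∑ o : O, ‖(ψ (o : G)).trace‖ ^ 2 := by
      apply Complex.ofReal_injective
      push_cast
      simp only [finrank_fixVec, htrad]
      push_cast
      rfl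
    have hD1 : (finrank ℂ (fixVec (adMat ψ) (insert x (O : Set G))) : ℝ) =
        (p : ℝ)⁻¹ * (Fintype.card O : ℝ)⁻¹ *
          ∑ a ∈ Finset.range p, ∑ o : O, ‖f o a‖ ^ 2 := by
      apply Complex.ofReal_injective
      push_cast
      simp only [finrank_fixVec_insert _ hp x hx O hxO, htrad]
      push_cast
      rfl
    have h : (finrank ℂ (fixVec (adMat ψ) (O : Set G)) : ℝ) ≤
        S.card * (finrank ℂ (fixVec (adMat ψ) (insert x (O : Set G))) : ℝ) := by
      rw [hD0, hD1]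
      refine (mul_le_mul_of_nonneg_left (Finset.sum_le_sum fun o _ => hpt o)
        (by positivity)).trans_eq ?_
      rw [Finset.sum_comm (s := Finset.range p), ← Finset.mul_sum, ← Finset.mul_sum]
      ring
    exact_mod_cast h
  · have hli : LinearIndependent ℂ (fun i : S => vec (proj (i : ℕ))) := by
      rw [Fintype.linearIndependent_iff]
      intro c hc j
      have h0 : ∑ i : S, c i • proj (i : ℕ) = 0 := by
        apply vec_eq_zero_iff.1
        simpa [vec_sum] using hc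
      have h1 := congrArg (proj (j : ℕ) * ·) h0
      simp only [Finset.mul_sum, mul_smul_comm, mul_zero] at h1
      rw [Finset.sum_eq_single j, hidem] at h1
      · exact (smul_eq_zero.1 h1).resolve_right (Finset.mem_filter.1 j.2).2
      · intro i _ hij
        rw [horth _ (Finset.mem_range.1 (Finset.mem_filter.1 j.2).1) _
          (Finset.mem_range.1 (Finset.mem_filter.1 i.2).1)
          (fun h => hij (Subtype.ext h.symm)), smul_zero]
      · simp
    have hsub : Submodule.span ℂ (Set.range fun i : S => vec (proj (i : ℕ))) ≤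
        fixVec (adMat ψ) (insert x (O : Set G)) := by
      refine Submodule.span_le.2 ?_
      rintro _ ⟨i, rfl⟩ g hg
      have hc : Commute (ψ g) (proj (i : ℕ)) := by
        rcases Set.mem_insert_iff.1 hg with rfl | hg
        · exact hcommx _
        · exact hcommO _ g hg
      rw [adMat_mulVec, hc.eq, mul_assoc, ← map_mul, mul_inv_cancel, map_one, mul_one]
    have := Submodule.finrank_mono hsub
    rwa [finrank_span_eq_card hli, Fintype.card_coe] at this
  · intro hS
    rcases (Nat.le_one_iff_eq_zero_or_eq_one.1 hS) with h | h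
    · rw [Finset.card_eq_zero.1 h, Finset.sum_empty] at hsumS
      exact ⟨1, by rw [← mul_one (ψ x), ← hsumS]; simp⟩
    · obtain ⟨i, hi⟩ := Finset.card_eq_one.1 h
      rw [hi, Finset.sum_singleton] at hsumS
      exact ⟨ζ ^ i, by rw [← hsumS, ← heig, hsumS, mul_one]⟩

end Cfsg.Agent.H81
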