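import Cfsg.Agent.H81.SylowPrimeBound
import Cfsg.Agent.H81.AdjointFixed
import Cfsg.Agent.CharBasic.Rep
import Cfsg.Agent.CharBasic.Decompose
import Mathlib.LinearAlgebra.Matrix.Charpoly.Coeff
import Mathlib.RingTheory.Polynomial.Nilpotent

/-!
# Groups generated by a Sylow subgroup of prime order have no small irreducible representations

If `G` is generated by the conjugates of `x` of order `p`, `p² ∤ |G|` enters through
`PrimeSylowData`, then a nonlinear irreducible representation has degree at least `(p - 1) / 2`.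
-/

set_option autoImplicit false
set_option linter.unusedSectionVars false

namespace Cfsg.Agent.H81

open Module Matrix

variable {G : Type*} [Group G] [Finite G] {A : ValuationSubring ℂ} {p : ℕ} [hp : Fact p.Prime]
  {x t : G} {O : Subgroup G} {e : ℕ} {ι : Type*} [Fintype ι] [DecidableEq ι]

/-- Transfer of the irreducible bound to an irreducible stable subspace. -/
theorem stable_irreducible_bound (hA : A.valuation (p : ℂ) < 1) (Φ : G →* Matrix ι ι A)
    (D : PrimeSylowData p x O t e) (hgen : ∀ K : Subgroup G, K.Normal → x ∈ K → K = ⊤)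
    (hnil : (redMat A ι (Φ x) - 1) ^ (p - 1) = 0) (U : Submodule ℂ (ι → ℂ))
    (hU : ∀ g, ∀ v ∈ U, upMat A ι (Φ g) *ᵥ v ∈ U)
    (hirr : ∀ U' : Submodule ℂ (ι → ℂ), U' ≤ U →
      (∀ g, ∀ v ∈ U', upMat A ι (Φ g) *ᵥ v ∈ U') → U' = ⊥ ∨ U' = U)
    (hfix : fixVec ((upMat A ι).toMonoidHom.comp Φ) Set.univ ⊓ U = ⊥) :
    (p + 1) * finrank ℂ ↥(fixVec ((upMat A ι).toMonoidHom.comp Φ) (insert x (O : Set G)) ⊓ U) ≤
      2 * finrank ℂ ↥(fixVec ((upMat A ι).toMonoidHom.comp Φ) (O : Set G) ⊓ U) := by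
  classical
  obtain ⟨b, piv, hb1, hb2, hb3⟩ := exists_pivot_basis A U
  let B : Matrix ι (Fin (finrank ℂ U)) A := Matrix.of fun l j => b j l
  let P : Matrix (Fin (finrank ℂ U)) ι A := Matrix.of fun i l => if piv i = l then 1 else 0
  have hPB : P * B = 1 := by
    ext i j
    simp [P, B, Matrix.mul_apply, hb1, one_apply]
  have hcol : ∀ (g : G) (j : Fin (finrank ℂ U)),
      (fun l => ((Φ g *ᵥ b j) l : ℂ)) = upMat A ι (Φ g) *ᵥ fun l => (b j l : ℂ) := fun g j =>
    funext fun l => RingHom.map_mulVec A.subtype (Φ g) (b j) l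
  have hcoord : ∀ (g : G), B * (P * (Φ g * B)) = Φ g * B := by
    intro g
    ext l j
    have h := congrFun (hb3 _ (hcol g j ▸ hU g _ (hb2 j))) l
    simp only [Finset.sum_apply, Pi.smul_apply, smul_eq_mul] at h
    have hR : (Φ g * B) l j = (Φ g *ᵥ b j) l := rfl
    have hL : (B * (P * (Φ g * B))) l j = ∑ i, b i l * (Φ g *ᵥ b j) (piv i) := by
      simp [Matrix.mul_apply, P, B, mulVec, dotProduct]
    rw [hR, hL]
    push_cast [AddSubmonoidClass.coe_finsetSum]
    exact (h.trans (Finset.sum_congr rfl fun i _ => mul_comm _ _)).symm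
  let φ : G →* Matrix (Fin (finrank ℂ U)) (Fin (finrank ℂ U)) A :=
    { toFun := fun g => P * (Φ g * B)
      map_one' := by rw [map_one, Matrix.one_mul, hPB]
      map_mul' := fun g h => by
        rw [map_mul, Matrix.mul_assoc P (Φ g * B), Matrix.mul_assoc (Φ g) B, hcoord,
          Matrix.mul_assoc] }
  have hφ : ∀ g, B * φ g = Φ g * B := hcoord
  set Bc : Matrix ι (Fin (finrank ℂ U)) ℂ := B.map (fun a => (a : ℂ))
  set emb : (Fin (finrank ℂ U) → ℂ) →ₗ[ℂ] (ι → ℂ) := Matrix.mulVecLin Bc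
  have hinj : Function.Injective emb := by
    refine Function.LeftInverse.injective (g := fun v => (P.map fun a => (a : ℂ)) *ᵥ v) fun v => ?_
    show (P.map fun a => (a : ℂ)) *ᵥ (Bc *ᵥ v) = v
    have h : P.map A.subtype * B.map A.subtype = (1 : Matrix (Fin (finrank ℂ U)) (Fin (finrank ℂ U)) ℂ) := by
      rw [← Matrix.map_mul, hPB, Matrix.map_one _ (map_zero _) (map_one _)]
    rw [mulVec_mulVec]
    exact (congrArg (· *ᵥ v) h).trans (one_mulVec v)
  have hrange : LinearMap.range emb = U := by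
    apply le_antisymm
    · rintro _ ⟨v, rfl⟩
      have : Bc *ᵥ v = ∑ j, v j • fun l => (b j l : ℂ) := by
        funext l
        simp [Bc, B, mulVec, dotProduct, Finset.sum_apply, mul_comm]
      show Bc *ᵥ v ∈ U
      rw [this]
      exact U.sum_mem fun j _ => U.smul_mem _ (hb2 j)
    · intro v hv
      refine ⟨fun j => v (piv j), ?_⟩
      conv_rhs => rw [hb3 v hv]
      funext l
      simp [emb, Bc, B, mulVec, dotProduct, Finset.sum_apply, mul_comm]
  have hint : ∀ g v, upMat A ι (Φ g) *ᵥ emb v = emb (upMat A (Fin (finrank ℂ U)) (φ g) *ᵥ v) := by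
    intro g v
    have h : (Φ g).map A.subtype * B.map A.subtype = B.map A.subtype * (φ g).map A.subtype := by
      rw [← Matrix.map_mul, ← Matrix.map_mul, hφ]
    show (Φ g).map A.subtype *ᵥ (B.map A.subtype *ᵥ v) =
      B.map A.subtype *ᵥ ((φ g).map A.subtype *ᵥ v)
    rw [mulVec_mulVec, mulVec_mulVec, h]
  have hfixeq : ∀ s : Set G, (fixVec ((upMat A (Fin (finrank ℂ U))).toMonoidHom.comp φ) s).map emb =
      fixVec ((upMat A ι).toMonoidHom.comp Φ) s ⊓ U := by
    intro s
    apply le_antisymm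
    · rintro _ ⟨v, hv, rfl⟩
      refine ⟨fun g hg => ?_, hrange.le (LinearMap.mem_range_self _ v)⟩
      show upMat A ι (Φ g) *ᵥ emb v = emb v
      rw [hint]
      exact congrArg emb (hv g hg)
    · rintro w ⟨hw, hwU⟩
      obtain ⟨v, rfl⟩ := hrange ▸ hwU
      exact ⟨v, fun g hg => hinj ((hint g v).symm.trans (hw g hg)), rfl⟩
  rw [← hfixeq, ← hfixeq, ← (Submodule.equivMapOfInjective emb hinj _).finrank_eq,
    ← (Submodule.equivMapOfInjective emb hinj _).finrank_eq]
  refine irreducible_bound hA φ D hgen (fun W hW => ?_) ?_ ?_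
  · have h := hirr (W.map emb) (LinearMap.map_le_range.trans hrange.le) (fun g v hv => by
      obtain ⟨w, hw, rfl⟩ := hv
      exact ⟨_, hW g w hw, (hint g w).symm⟩)
    rcases h with h | h
    · exact Or.inl (Submodule.map_injective_of_injective hinj (h.trans (Submodule.map_bot _).symm))
    · refine Or.inr (Submodule.map_injective_of_injective hinj ?_)
      rw [h, Submodule.map_top, hrange]
  · exact Submodule.map_injective_of_injective hinj
      ((hfixeq Set.univ).trans (hfix.trans (Submodule.map_bot _).symm))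
  · set r := IsLocalRing.residue A
    have h1 : (Φ x).map r * B.map r = B.map r * (φ x).map r := by
      rw [← Matrix.map_mul, ← Matrix.map_mul, hφ]
    have h2 : P.map r * B.map r = 1 := by
      rw [← Matrix.map_mul, hPB, Matrix.map_one _ (map_zero _) (map_one _)]
    have h3 : ∀ n : ℕ, (redMat A ι (Φ x) - 1) ^ n * B.map r =
        B.map r * (redMat A (Fin (finrank ℂ U)) (φ x) - 1) ^ n := by
      intro n
      have hb : (redMat A ι (Φ x) - 1) * B.map r =
          B.map r * (redMat A (Fin (finrank ℂ U)) (φ x) - 1) := by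
        rw [Matrix.sub_mul, Matrix.mul_sub, Matrix.one_mul, Matrix.mul_one]
        exact congrArg (· - B.map r) h1
      induction n with
      | zero => simp
      | succ n ih =>
        rw [pow_succ, Matrix.mul_assoc, hb, ← Matrix.mul_assoc, ih, Matrix.mul_assoc, ← pow_succ]
    have h4 := h3 (p - 1)
    rw [hnil, Matrix.zero_mul] at h4
    calc (redMat A (Fin (finrank ℂ U)) (φ x) - 1) ^ (p - 1)
        = P.map r * (B.map r * (redMat A (Fin (finrank ℂ U)) (φ x) - 1) ^ (p - 1)) := by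
          rw [← Matrix.mul_assoc, h2, Matrix.one_mul]
      _ = 0 := by rw [← h4, Matrix.mul_zero]

/-- The bound on every stable subspace without fixed vectors. -/
theorem stable_bound (hA : A.valuation (p : ℂ) < 1) (Φ : G →* Matrix ι ι A)
    (D : PrimeSylowData p x O t e) (hgen : ∀ K : Subgroup G, K.Normal → x ∈ K → K = ⊤)
    (hnil : (redMat A ι (Φ x) - 1) ^ (p - 1) = 0) (U : Submodule ℂ (ι → ℂ))
    (hU : ∀ g, ∀ v ∈ U, upMat A ι (Φ g) *ᵥ v ∈ U)
    (hfix : fixVec ((upMat A ι).toMonoidHom.comp Φ) Set.univ ⊓ U = ⊥) :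
    (p + 1) * finrank ℂ ↥(fixVec ((upMat A ι).toMonoidHom.comp Φ) (insert x (O : Set G)) ⊓ U) ≤
      2 * finrank ℂ ↥(fixVec ((upMat A ι).toMonoidHom.comp Φ) (O : Set G) ⊓ U) := by
  set ψ := (upMat A ι).toMonoidHom.comp Φ with hψ
  generalize hm : finrank ℂ U = m
  induction m using Nat.strong_induction_on generalizing U with
  | _ m ih =>
    by_cases hirr : ∀ U' : Submodule ℂ (ι → ℂ), U' ≤ U →
        (∀ g, ∀ v ∈ U', upMat A ι (Φ g) *ᵥ v ∈ U') → U' = ⊥ ∨ U' = U
    · exact stable_irreducible_bound hA Φ D hgen hnil U hU hirr hfix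
    push Not at hirr
    obtain ⟨U', hle, hU', hne0, hne1⟩ := hirr
    let R : Representation ℂ G (ι → ℂ) :=
      ((Matrix.toLinAlgEquiv' : Matrix ι ι ℂ ≃ₐ[ℂ] _).toMulEquiv.toMonoidHom).comp ψ
    obtain ⟨T, hT⟩ := exists_isCompl (⟨U', fun g v hv => hU' g v hv⟩ : Subrepresentation R)
    have hc : IsCompl U' T.toSubmodule := CharBasic.isCompl_toSubmodule hT
    set U'' := U ⊓ T.toSubmodule
    have hU'' : ∀ g, ∀ v ∈ U'', upMat A ι (Φ g) *ᵥ v ∈ U'' := fun g v hv =>
      ⟨hU g v hv.1, T.apply_mem_toSubmodule g hv.2⟩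
    have hsup : U' ⊔ U'' = U := by
      show U' ⊔ U ⊓ T.toSubmodule = U
      rw [inf_comm, ← sup_inf_assoc_of_le _ hle, hc.sup_eq_top, top_inf_eq]
    have hinf : U' ⊓ U'' = ⊥ := by
      show U' ⊓ (U ⊓ T.toSubmodule) = ⊥
      rw [← inf_assoc, inf_of_le_left hle, hc.inf_eq_bot]
    have hlt' : finrank ℂ U' < m := hm ▸ Submodule.finrank_lt_finrank_of_lt (hle.lt_of_ne hne1)
    have hlt'' : finrank ℂ U'' < m := by
      refine hm ▸ Submodule.finrank_lt_finrank_of_lt ?_
      refine lt_of_le_of_ne inf_le_left fun h => hne0 ?_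
      have h2 : U ≤ T.toSubmodule := h ▸ inf_le_right
      exact eq_bot_iff.2 (hc.inf_eq_bot ▸ le_inf le_rfl (hle.trans h2))
    have hsub : ∀ {V : Submodule ℂ (ι → ℂ)}, V ≤ U → fixVec ψ Set.univ ⊓ V = ⊥ := fun hV =>
      eq_bot_iff.2 (hfix ▸ inf_le_inf_left _ hV)
    have h1 := ih _ hlt' U' hU' (hsub hle) rfl
    have h2 := ih _ hlt'' U'' hU'' (hsub inf_le_left) rfl
    have hadd : ∀ s : Set G, finrank ℂ ↥(fixVec ψ s ⊓ U) =
        finrank ℂ ↥(fixVec ψ s ⊓ U') + finrank ℂ ↥(fixVec ψ s ⊓ U'') := by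
      intro s
      have h := Submodule.finrank_sup_add_finrank_inf_eq (fixVec ψ s ⊓ U') (fixVec ψ s ⊓ U'')
      have e1 : fixVec ψ s ⊓ U' ⊓ (fixVec ψ s ⊓ U'') = ⊥ :=
        eq_bot_iff.2 (hinf ▸ inf_le_inf inf_le_right inf_le_right)
      have e2 : fixVec ψ s ⊓ U' ⊔ fixVec ψ s ⊓ U'' = fixVec ψ s ⊓ U := by
        apply le_antisymm
        · exact sup_le (inf_le_inf_left _ hle) (inf_le_inf_left _ inf_le_left)
        · rintro v ⟨hv, hvU⟩
          obtain ⟨a, ha, c, hc', rfl⟩ := Submodule.mem_sup.1 (hsup.symm ▸ hvU)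
          have key : ∀ g ∈ s, ψ g *ᵥ a = a ∧ ψ g *ᵥ c = c := by
            intro g hg
            have h3 := hv g hg
            rw [mulVec_add] at h3
            have h4 : ψ g *ᵥ a - a = c - ψ g *ᵥ c := by
              rw [sub_eq_sub_iff_add_eq_add, h3, add_comm]
            have h5 : ψ g *ᵥ a - a ∈ U' ⊓ U'' :=
              ⟨U'.sub_mem (hU' g a ha) ha, h4 ▸ U''.sub_mem hc' (hU'' g c hc')⟩
            rw [hinf, Submodule.mem_bot] at h5
            rw [h5] at h4
            exact ⟨sub_eq_zero.1 h5, (sub_eq_zero.1 h4.symm).symm⟩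
          exact Submodule.add_mem_sup ⟨fun g hg => (key g hg).1, ha⟩
            ⟨fun g hg => (key g hg).2, hc'⟩
      rw [e1, e2, finrank_bot, add_zero] at h
      exact h
    rw [hadd, hadd]
    rw [mul_add, mul_add]
    omega

/-- A unipotent matrix over a field of characteristic `p` of order dividing `p`. -/
theorem sub_one_pow_card_eq_zero {k : Type*} [Field k] [CharP k p] {n : ℕ}
    (M : Matrix (Fin n) (Fin n) k) (h : M ^ p = 1) : (M - 1) ^ n = 0 := by
  rcases Nat.eq_zero_or_pos n with rfl | hn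
  · exact Subsingleton.elim _ _
  haveI : Nonempty (Fin n) := ⟨⟨0, hn⟩⟩
  haveI : CharP (Matrix (Fin n) (Fin n) k) p :=
    charP_of_injective_algebraMap' k p
  have hnil : IsNilpotent (M - 1) :=
    ⟨p, by rw [sub_pow_char_of_commute (p := p) (h := Commute.one_right M), h, one_pow, sub_self]⟩
  have hch : (M - 1).charpoly = Polynomial.X ^ n := by
    have h1 := (Matrix.isNilpotent_charpoly_sub_pow_of_isNilpotent hnil).eq_zero
    simpa [sub_eq_zero] using h1
  have h2 := Matrix.aeval_self_charpoly (M - 1)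
  simpa [hch] using h2

/-- The degree bound. -/
theorem small_degree_false {n : ℕ} (ρ : Representation ℂ G (Fin n → ℂ)) [ρ.IsIrreducible]
    (hn : 2 ≤ n) (hpn : 2 * n + 1 < p) (D : PrimeSylowData p x O t e)
    (hgen : ∀ K : Subgroup G, K.Normal → x ∈ K → K = ⊤) : False := by
  classical
  cases nonempty_fintype G
  obtain ⟨A, hA⟩ := H84.exists_valuationSubring p
  haveI := charP_residue A hp.out hA
  obtain ⟨φ, E, hE⟩ := exists_integral_form A ρ
  set ψ := (upMat A (Fin n)).toMonoidHom.comp φ with hψ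
  have hE' : ∀ g v, ψ g *ᵥ E v = E (ρ g v) := hE
  let R : Representation ℂ G (Fin n → ℂ) :=
    ((Matrix.toLinAlgEquiv' : Matrix (Fin n) (Fin n) ℂ ≃ₐ[ℂ] _).toMulEquiv.toMonoidHom).comp ψ
  have hconj : ∀ g, (ψ g⁻¹).trace = (starRingEnd ℂ) (ψ g).trace := fun g => by
    have h := CharBasic.character_inv R g
    have hR : ∀ h, R.character h = (ψ h).trace := fun h => Matrix.trace_toLin'_eq (ψ h)
    rwa [hR, hR] at h
  have hirr : ∀ U : Submodule ℂ (Fin n → ℂ), (∀ g, ∀ v ∈ U, ψ g *ᵥ v ∈ U) → U = ⊥ ∨ U = ⊤ := by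
    intro U hU
    let S : Subrepresentation ρ := ⟨U.comap E.toLinearMap, fun g v hv => by
      show E (ρ g v) ∈ U
      rw [← hE']; exact hU g _ hv⟩
    rcases IsSimpleOrder.eq_bot_or_eq_top S with h | h
    · left
      have h1 : U.comap E.toLinearMap = ⊥ := congrArg Subrepresentation.toSubmodule h
      rw [eq_bot_iff]
      intro v hv
      have : E.symm v ∈ U.comap E.toLinearMap := by simpa using hv
      rw [h1] at this
      simpa using this
    · right
      have h1 : U.comap E.toLinearMap = ⊤ := congrArg Subrepresentation.toSubmodule h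
      rw [eq_top_iff]
      intro v _
      have : E.symm v ∈ U.comap E.toLinearMap := by simp [h1]
      simpa using this
  haveI : Nonempty (Fin n) := ⟨⟨0, by omega⟩⟩
  -- Schur
  have hschur : ∀ M : Matrix (Fin n) (Fin n) ℂ, (∀ g, Commute (ψ g) M) → ∃ c : ℂ, M = c • 1 := by
    intro M hM
    obtain ⟨μ, hμ⟩ := Module.End.exists_eigenvalue (Matrix.toLin' M)
    refine ⟨μ, Matrix.toLin'.injective (LinearMap.ext fun v => ?_)⟩
    have htop := (hirr (Module.End.eigenspace (Matrix.toLin' M) μ) ?_).resolve_left hμ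
    · have hv : v ∈ Module.End.eigenspace (Matrix.toLin' M) μ := by
        rw [htop]; exact Submodule.mem_top
      rw [Module.End.mem_eigenspace_iff] at hv
      simpa using hv
    · intro g v hv
      rw [Module.End.mem_eigenspace_iff] at hv ⊢
      simp only [Matrix.toLin'_apply] at hv ⊢
      rw [mulVec_mulVec, ← (hM g).eq, ← mulVec_mulVec, hv, mulVec_smul]
  haveI : Fintype O := Fintype.ofFinite O
  obtain ⟨r, hrn, hD0, hD1, hr1⟩ := adjoint_fixed_dims ψ hconj hp.out.pos x
    (by rw [← D.order, pow_orderOf_eq_one]) O D.comm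
  rw [Fintype.card_fin] at hrn
  -- `x` is not a scalar
  have hr2 : 2 ≤ r := by
    by_contra h
    obtain ⟨c, hc⟩ := hr1 (by omega)
    let K : Subgroup G :=
      { carrier := {g | ∃ c : ℂ, ψ g = c • 1}
        mul_mem' := fun {a b} ⟨u, hu⟩ ⟨v, hv⟩ => ⟨u * v, by
          rw [map_mul, hu, hv, smul_mul_smul_comm, mul_one]⟩
        one_mem' := ⟨1, by rw [map_one, one_smul]⟩
        inv_mem' := fun {a} ⟨u, hu⟩ => ⟨u⁻¹, by
          have h1 : ψ a⁻¹ * ψ a = 1 := by rw [← map_mul, inv_mul_cancel, map_one]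
          rw [hu, mul_smul_comm, mul_one] at h1
          have hu0 : u ≠ 0 := by rintro rfl; simp at h1
          rw [← h1, smul_smul, inv_mul_cancel₀ hu0, one_smul]⟩ }
    have hKn : K.Normal := ⟨fun a ⟨u, hu⟩ g => ⟨u, by
      rw [map_mul, map_mul, hu, mul_smul_comm, mul_one, smul_mul_assoc, ← map_mul, mul_inv_cancel,
        map_one]⟩⟩
    have htop := hgen K hKn ⟨c, hc⟩
    obtain ⟨c', hc'⟩ := hschur (Matrix.single ⟨0, by omega⟩ ⟨1, by omega⟩ 1) fun g => by
      have hg : g ∈ K := htop ▸ Subgroup.mem_top g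
      obtain ⟨u, hu⟩ := hg
      rw [hu]
      exact (Commute.one_left _).smul_left u
    have := congrFun (congrFun hc' ⟨0, by omega⟩) ⟨1, by omega⟩
    simp [one_apply] at this
  -- nilpotency
  set Φ := adMat φ with hΦ
  have hpow : ∀ g : G, g ^ p = 1 → (redMat A (Fin n) (φ g) - 1) ^ n = 0 := fun g hg =>
    sub_one_pow_card_eq_zero (p := p) _ (by rw [← map_pow, ← map_pow, hg, map_one, map_one])
  have hxp : x ^ p = 1 := by rw [← D.order, pow_orderOf_eq_one]
  have hnil : (redMat A (Fin n × Fin n) (Φ x) - 1) ^ (p - 1) = 0 := by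
    have h1 : redMat A (Fin n × Fin n) (Φ x) =
        adMat ((redMat A (Fin n)).toMonoidHom.comp φ) x := adMat_map φ (IsLocalRing.residue A) x
    rw [h1]
    exact sub_one_pow_adMat _ x n (p - 1) (hpow x hxp) (hpow x⁻¹ (by rw [inv_pow, hxp, inv_one]))
      (by omega)
  have hΦψ : (upMat A (Fin n × Fin n)).toMonoidHom.comp Φ = adMat ψ :=
    MonoidHom.ext fun g => adMat_map φ A.subtype g
  -- the trace zero subspace
  let τ : (Fin n × Fin n → ℂ) →ₗ[ℂ] ℂ := ∑ i : Fin n, LinearMap.proj (i, i)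
  have hτ : ∀ M : Matrix (Fin n) (Fin n) ℂ, τ (vec M) = M.trace := fun M => by
    simp [τ, vec, Matrix.trace]
  have hstab : ∀ g, ∀ v ∈ LinearMap.ker τ,
      upMat A (Fin n × Fin n) (Φ g) *ᵥ v ∈ LinearMap.ker τ := by
    intro g v hv
    obtain ⟨M, rfl⟩ := vec_bijective.surjective v
    rw [LinearMap.mem_ker, hτ] at hv
    rw [LinearMap.mem_ker, show upMat A (Fin n × Fin n) (Φ g) = adMat ψ g from
      DFunLike.congr_fun hΦψ g, adMat_mulVec, hτ, Matrix.trace_mul_cycle, ← map_mul,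
      inv_mul_cancel, map_one, Matrix.one_mul, hv]
  have hfix : fixVec ((upMat A (Fin n × Fin n)).toMonoidHom.comp Φ) Set.univ ⊓
      LinearMap.ker τ = ⊥ := by
    rw [hΦψ, eq_bot_iff]
    rintro v ⟨hv, hv0⟩
    obtain ⟨M, rfl⟩ := vec_bijective.surjective v
    obtain ⟨c, rfl⟩ := hschur M fun g => by
      have h := hv g (Set.mem_univ g)
      rw [adMat_mulVec, vec_inj] at h
      calc ψ g * M = ψ g * M * (ψ g⁻¹ * ψ g) := by
            rw [← map_mul, inv_mul_cancel, map_one, mul_one]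
        _ = M * ψ g := by rw [← mul_assoc, h]
    have h0 : (c • (1 : Matrix (Fin n) (Fin n) ℂ)).trace = 0 := (hτ _).symm.trans hv0
    rw [Matrix.trace_smul, Matrix.trace_one, Fintype.card_fin, smul_eq_mul, mul_eq_zero,
      Nat.cast_eq_zero] at h0
    rcases h0 with h0 | h0
    · simp [h0]
    · omega
  have key := stable_bound hA Φ D hgen hnil _ hstab hfix
  rw [hΦψ] at key
  have hdim : ∀ s : Set G,
      finrank ℂ ↥(fixVec (adMat ψ) s ⊓ LinearMap.ker τ) + 1 = finrank ℂ (fixVec (adMat ψ) s) := by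
    intro s
    let f : fixVec (adMat ψ) s →ₗ[ℂ] ℂ := τ.comp (fixVec (adMat ψ) s).subtype
    have hone : vec (1 : Matrix (Fin n) (Fin n) ℂ) ∈ fixVec (adMat ψ) s := fun g _ => by
      rw [adMat_mulVec, mul_one, ← map_mul, mul_inv_cancel, map_one]
    have hr : LinearMap.range f = ⊤ := by
      rw [eq_top_iff]
      intro c _
      refine ⟨(c / n) • ⟨_, hone⟩, ?_⟩
      have hn0 : (n : ℂ) ≠ 0 := by exact_mod_cast (by omega : n ≠ 0)
      simp [f, hτ, hn0]
    have h := LinearMap.finrank_range_add_finrank_ker f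
    have hk : LinearMap.ker f =
        (fixVec (adMat ψ) s ⊓ LinearMap.ker τ).comap (fixVec (adMat ψ) s).subtype := by
      ext v; simp [f]
    have hk' : finrank ℂ (LinearMap.ker f) = finrank ℂ ↥(fixVec (adMat ψ) s ⊓ LinearMap.ker τ) := by
      rw [hk]; exact (Submodule.comapSubtypeEquivOfLe inf_le_left).finrank_eq
    rw [hr, finrank_top, finrank_self, hk'] at h
    omega
  rw [← hdim, ← hdim] at hD0
  rw [← hdim] at hD1
  set a := finrank ℂ ↥(fixVec (adMat ψ) (insert x (O : Set G)) ⊓ LinearMap.ker τ)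
  set c := finrank ℂ ↥(fixVec (adMat ψ) (O : Set G) ⊓ LinearMap.ker τ)
  have h1 : (p + 1) * a + 2 ≤ 2 * (r * (a + 1)) := by omega
  have h2 : 2 * r + 3 ≤ p + 1 := by omega
  have h3 := (Nat.add_le_add_right (Nat.mul_le_mul_right a h2) 2).trans h1
  ring_nf at h3
  omega

end Cfsg.Agent.H81
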