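import Cfsg.Agent.H81.ThreeOrder
import Cfsg.Agent.Cores.ThirdMain
import Cfsg.Agent.Cores.Constrained
import Cfsg.Agent.BlockBasic.Local

/-!
# Simple groups in which pairs of elements of order `p` generate `p`-solvable groups
-/

open scoped ComplexConjugate

namespace Cfsg.Agent.H81.PairSolvable

open CharBasic BlockBasic SimpleDegree

universe u

variable {G : Type u} [Group G] [Finite G] {p : ℕ} [Fact p.Prime]

/-- In a `p`-solvable group generated by two elements of order `p`, with abelian Sylow subgroups,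
at most one power of the second gives a `p`-regular product with the first. -/
theorem unique_power {L : Type u} [Group L] [Finite L] (hs : Cfsg.IsPSolvable p L)
    (hab : ∀ R : Sylow p L, IsMulCommutative (R : Subgroup L)) {x y : L}
    (hgen : Subgroup.closure ({x, y} : Set L) = ⊤) (hx : orderOf x = p) (hy : orderOf y = p)
    {i j : ℕ} (hi : ¬ p ∣ orderOf (x * y ^ i)) (hj : ¬ p ∣ orderOf (x * y ^ j)) :
    i % p = j % p := by
  have hp : p.Prime := Fact.out
  set f := QuotientGroup.mk' (Cfsg.pPrimeCore p L) with hf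
  have hfs : Function.Surjective f := QuotientGroup.mk'_surjective _
  have hC := Cores.centralizer_pCore_le (Cores.isPSolvable_quotient hs _)
    (Cores.pPrimeCore_quotient_pPrimeCore (G := L) (p := p))
  set F := Cfsg.pCore p (L ⧸ Cfsg.pPrimeCore p L) with hF
  have hmemF : ∀ z : L, orderOf z = p → f z ∈ F := by
    intro z hz
    have hzp : IsPGroup p (Subgroup.zpowers (f z)) := by
      refine IsPGroup.of_card_dvd_pow (n := 1) ?_
      rw [Nat.card_zpowers, pow_one]
      exact hz ▸ orderOf_map_dvd f z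
    obtain ⟨R, hR⟩ := hzp.exists_le_sylow
    obtain ⟨S, hS⟩ := Sylow.mapSurjective_surjective hfs p R
    haveI := hab S
    have hRc : ∀ v ∈ (R : Subgroup (L ⧸ Cfsg.pPrimeCore p L)),
        ∀ w ∈ (R : Subgroup (L ⧸ Cfsg.pPrimeCore p L)), v * w = w * v := by
      intro v hv w hw
      rw [← hS, Sylow.coe_mapSurjective] at hv hw
      obtain ⟨v', hv', rfl⟩ := hv
      obtain ⟨w', hw', rfl⟩ := hw
      rw [← map_mul, ← map_mul]
      exact congrArg f (congrArg Subtype.val
        ((hab S).is_comm.comm (⟨v', hv'⟩ : (S : Subgroup L)) ⟨w', hw'⟩))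
    refine hC (Subgroup.mem_centralizer_iff.2 fun g hg => ?_)
    exact hRc g (Cores.pCore_le_sylow R hg) _ (hR (Subgroup.mem_zpowers _))
  have htop : F = ⊤ := by
    rw [eq_top_iff, ← Subgroup.map_top_of_surjective f hfs, ← hgen, MonoidHom.map_closure,
      Subgroup.closure_le]
    rintro _ ⟨z, (rfl | rfl), rfl⟩
    · exact hmemF _ hx
    · exact hmemF _ hy
  have hone : ∀ g : L, ¬ p ∣ orderOf g → f g = 1 := by
    intro g hg
    have hmem : f g ∈ F := htop ▸ Subgroup.mem_top _
    obtain ⟨k, hk⟩ := IsPGroup.iff_orderOf.1 Cores.pCore_isPGroup ⟨f g, hmem⟩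
    rw [Subgroup.orderOf_mk] at hk
    have hd : p ^ k ∣ orderOf g := hk ▸ orderOf_map_dvd f g
    rcases k with _ | k
    · rw [pow_zero, orderOf_eq_one_iff] at hk; exact hk
    · exact absurd ((dvd_pow_self p k.succ_ne_zero).trans hd) hg
  have hfx : f x ≠ 1 := by
    intro h
    have hmem : x ∈ Cfsg.pPrimeCore p L := (QuotientGroup.eq_one_iff x).1 h
    have h1 : p ∣ Nat.card (Cfsg.pPrimeCore p L) := by
      have := orderOf_dvd_natCard (⟨x, hmem⟩ : Cfsg.pPrimeCore p L)
      rwa [Subgroup.orderOf_mk, hx] at this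
    exact hp.coprime_iff_not_dvd.1 Cores.coprime_card_pPrimeCore.symm h1
  have e1 := hone _ hi
  have e2 := hone _ hj
  rw [map_mul, map_pow, mul_eq_one_iff_eq_inv] at e1 e2
  have hpow : f y ^ i = f y ^ j := inv_injective (e1.symm.trans e2)
  have hfy : orderOf (f y) = p := by
    refine (hp.eq_one_or_self_of_dvd _ (hy ▸ orderOf_map_dvd f y)).resolve_left fun h => hfx ?_
    rw [orderOf_eq_one_iff] at h
    rw [e1, h, one_pow, inv_one]
  have := pow_eq_pow_iff_modEq.1 hpow
  rwa [hfy] at this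

theorem exists_int_of_mul {z : ℂ} (hz : IsIntegral ℤ z) {n a : ℤ} (hn : n ≠ 0)
    (ha : (n : ℂ) * z = (a : ℂ)) : ∃ v : ℤ, z = (v : ℂ) := by
  have hz' : z = algebraMap ℚ ℂ ((a : ℚ) / n) := by
    rw [eq_ratCast]
    push_cast
    rw [eq_div_iff (Int.cast_ne_zero.2 hn)]
    linear_combination ha
  rw [hz', isIntegral_algebraMap_iff (algebraMap ℚ ℂ).injective] at hz
  obtain ⟨v, hv⟩ := IsIntegrallyClosed.isIntegral_iff.1 hz
  refine ⟨v, ?_⟩
  rw [hz', ← hv]
  simp

/-- The arithmetic at the values of the principal block. -/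
theorem cube_sum_lt {ι : Type*} (B : Finset ι) {t : ι} (htB : t ∈ B) {q : ℤ} (hq : 3 ≤ q)
    (a d : ι → ℤ) (hd : ∀ i ∈ B, 0 < d i) (hat : a t = 1) (hdt : d t = 1)
    (hne : ∀ i ∈ B, i ≠ t → d i ≠ a i) (hmod : ∀ i ∈ B, q ∣ d i - a i)
    (hsq : ∑ i ∈ B, a i * a i = q) (horth : ∑ i ∈ B, d i * a i = 0) :
    ∑ i ∈ B, (a i : ℚ) ^ 3 / (d i : ℚ) < (q : ℚ) / 2 := by
  classical
  have hrest : ∑ i ∈ B.erase t, a i * a i = q - 1 := by
    rw [← Finset.add_sum_erase _ _ htB, hat] at hsq
    linarith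
  have hqq : (3 : ℚ) ≤ q := by exact_mod_cast hq
  set κ : ℚ := ((q : ℚ) - 2) / (2 * ((q : ℚ) - 1)) with hκ
  have hκ0 : 0 < κ := div_pos (by linarith) (by linarith)
  have hle : ∀ i ∈ B.erase t, (a i : ℚ) ^ 3 / (d i : ℚ) ≤ κ * ((a i : ℚ) * a i) := by
    intro i hi
    obtain ⟨hit, hiB⟩ := Finset.mem_erase.1 hi
    have hD : (0 : ℚ) < d i := by exact_mod_cast hd i hiB
    have hai : a i * a i ≤ q - 1 := by
      rw [← hrest]
      exact Finset.single_le_sum (f := fun i => a i * a i) (fun k _ => mul_self_nonneg _) hi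
    rcases le_or_gt (a i) 0 with h0 | h0
    · have h0' : (a i : ℚ) ≤ 0 := by exact_mod_cast h0
      have h1 : (a i : ℚ) ^ 3 / (d i : ℚ) ≤ 0 := by
        refine div_nonpos_of_nonpos_of_nonneg ?_ hD.le
        calc (a i : ℚ) ^ 3 = (a i : ℚ) * ((a i : ℚ) * a i) := by ring
          _ ≤ 0 := mul_nonpos_of_nonpos_of_nonneg h0' (mul_self_nonneg _)
      exact h1.trans (mul_nonneg hκ0.le (mul_self_nonneg _))
    · have haq : a i ≤ q - 2 := by nlinarith
      have hbig : q + a i ≤ d i := by
        obtain ⟨m, hm⟩ := hmod i hiB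
        have := hne i hiB hit
        have := hd i hiB
        rcases le_or_gt m 0 with hm0 | hm0
        · have hm1 : m ≤ -1 := by
            rcases eq_or_lt_of_le hm0 with h | h
            · subst h; omega
            · omega
          nlinarith
        · nlinarith
      have hbig' : (q : ℚ) + a i ≤ d i := by exact_mod_cast hbig
      have haq' : (a i : ℚ) ≤ q - 2 := by exact_mod_cast haq
      have ha' : (0 : ℚ) < a i := by exact_mod_cast h0
      rw [div_le_iff₀ hD, hκ, div_mul_eq_mul_div, div_mul_eq_mul_div, le_div_iff₀ (by linarith)]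
      have h1 : (2 * ((q : ℚ) - 1)) * a i ≤ ((q : ℚ) - 2) * d i := by
        have h2 := mul_le_mul_of_nonneg_left hbig' (show (0 : ℚ) ≤ (q : ℚ) - 2 by linarith)
        have h3 : (0 : ℚ) ≤ (q : ℚ) * ((q : ℚ) - 2 - a i) := mul_nonneg (by linarith) (by linarith)
        linarith
      have h4 := mul_le_mul_of_nonneg_left h1 (mul_self_nonneg (a i : ℚ))
      linarith
  obtain ⟨i, hi, hneg⟩ : ∃ i ∈ B.erase t, a i < 0 := by
    by_contra hcon
    push Not at hcon
    have h := Finset.add_sum_erase B (fun i => d i * a i) htB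
    simp only [horth, hat, hdt] at h
    have : 0 ≤ ∑ i ∈ B.erase t, d i * a i := Finset.sum_nonneg fun i hi =>
      mul_nonneg (hd i (Finset.mem_of_mem_erase hi)).le (hcon i hi)
    linarith
  have hlt : (a i : ℚ) ^ 3 / (d i : ℚ) < κ * ((a i : ℚ) * a i) := by
    have hD : (0 : ℚ) < d i := by exact_mod_cast hd i (Finset.mem_of_mem_erase hi)
    have hneg' : (a i : ℚ) < 0 := by exact_mod_cast hneg
    have hsqp : (0 : ℚ) < (a i : ℚ) * a i := mul_pos_of_neg_of_neg hneg' hneg'
    have h1 : (a i : ℚ) ^ 3 / (d i : ℚ) ≤ 0 := by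
      refine div_nonpos_of_nonpos_of_nonneg ?_ hD.le
      calc (a i : ℚ) ^ 3 = (a i : ℚ) * ((a i : ℚ) * a i) := by ring
        _ ≤ 0 := mul_nonpos_of_nonpos_of_nonneg hneg'.le hsqp.le
    exact h1.trans_lt (mul_pos hκ0 hsqp)
  have hsum := Finset.sum_lt_sum hle ⟨i, hi, hlt⟩
  have hrest' : ∑ i ∈ B.erase t, (a i : ℚ) * a i = (q : ℚ) - 1 := by exact_mod_cast hrest
  rw [← Finset.mul_sum, hrest'] at hsum
  rw [← Finset.add_sum_erase _ _ htB, hat, hdt]
  have hκq : κ * ((q : ℚ) - 1) = ((q : ℚ) - 2) / 2 := by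
    rw [hκ, div_mul_eq_mul_div, div_eq_div_iff (by linarith) (by norm_num)]
    ring
  rw [hκq] at hsum
  push_cast
  norm_num
  linarith

theorem blockPart_one_eq_zero {M : Ideal Cfsg.AlgInt}
    (hM : Cfsg.IsPModular p M) {x : G} {e : ℕ} (hx : orderOf x = p ^ e)
    {B : Set (Cfsg.IrrCharacter G)} (hB : Cfsg.IsPBlock M B) {χ : Cfsg.IrrCharacter G} (hχ : χ ∈ B)
    {b : Set (Cfsg.IrrCharacter (Subgroup.centralizer ({x} : Set G)))} (hb : Cfsg.IsPBlock M b)
    (hnot : ¬ Cfsg.IsInducedBlock M (Subgroup.centralizer ({x} : Set G)) b B)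
    [Fintype (Subgroup.centralizer ({x} : Set G))]
    [Fintype (Cfsg.IrrCharacter (Subgroup.centralizer ({x} : Set G)))] [DecidablePred (· ∈ b)] :
    ∑ ψ : Cfsg.IrrCharacter (Subgroup.centralizer ({x} : Set G)), (if ψ ∈ b then
      Cfsg.classInner (fun c : Subgroup.centralizer ({x} : Set G) => (χ : G → ℂ) (x * (c : G)))
        (ψ : Subgroup.centralizer ({x} : Set G) → ℂ) *
          (ψ : Subgroup.centralizer ({x} : Set G) → ℂ) 1 else 0) = 0 := by
  classical
  cases nonempty_fintype G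
  have h := Cores.second_main hM hx hB hχ hb hnot 1
    (by rw [orderOf_one, Nat.dvd_one]; exact (Fact.out : p.Prime).ne_one)
  rw [Cfsg.blockPart, finsum_mem_eq_sum_ite,
    Subsingleton.elim (Fintype.ofFinite (Subgroup.centralizer ({x} : Set G)))
      ‹Fintype (Subgroup.centralizer ({x} : Set G))›] at h
  convert h using 2
  exact Finset.ext fun _ => by simp

theorem card_class_eq_index (x : G) :
    Nat.card {g : G // IsConj x g} = (Subgroup.centralizer ({x} : Set G)).index := by
  have h := MulAction.index_stabilizer (G := ConjAct G) (x := x)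
  rw [ConjAct.stabilizer_eq_centralizer] at h
  refine Eq.trans ?_ h.symm
  rw [← Nat.card_coe_set_eq]
  exact Nat.card_congr (Equiv.subtypeEquivRight fun g => by
    rw [ConjAct.mem_orbit_conjAct]; exact isConj_comm)

open scoped Classical in
/-- The sum of a character over the section of `x`. -/
noncomputable def sectionSum [Fintype G] (p : ℕ) (χ : G → ℂ) (x : G) : ℂ :=
  ∑ c ∈ Finset.univ.filter (fun c : G => c ∈ Subgroup.centralizer ({x} : Set G) ∧ ¬ p ∣ orderOf c),
    χ (x * c)

theorem sum_regular_character (x : G) [Fintype G] (hclass : ∀ g : G, (∃ k, orderOf g = p ^ k) → g ≠ 1 → IsConj x g)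
    (hx : orderOf x = p) (χ : Cfsg.IrrCharacter G) :
    ∑ w ∈ Finset.univ.filter (fun g : G => ¬ p ∣ orderOf g), (χ : G → ℂ) w =
      (if χ = trivialIrr then (Nat.card G : ℂ) else 0) -
        (Nat.card {g : G // IsConj x g} : ℂ) * sectionSum p (χ : G → ℂ) x := by
  classical
  have hfull : ∑ w : G, (χ : G → ℂ) w = if χ = trivialIrr then (Nat.card G : ℂ) else 0 := by
    have h := classInner_irrCharacter χ trivialIrr
    rw [classInner_def, inv_mul_eq_iff_eq_mul₀ (Nat.cast_ne_zero.2 Nat.card_pos.ne')] at h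
    have ht : ∀ w : G, ((trivialIrr : Cfsg.IrrCharacter G) : G → ℂ) w = 1 := fun _ => rfl
    simp only [ht, map_one, mul_one] at h
    rw [h]
    split_ifs <;> simp
  rw [← hfull, ← Finset.sum_filter_add_sum_filter_not Finset.univ (fun g : G => ¬ p ∣ orderOf g),
    eq_sub_iff_add_eq]
  congr 1
  set K := Finset.univ.filter fun g : G => IsConj x g with hK
  have hmaps : ∀ s ∈ Finset.univ.filter (fun g : G => ¬ ¬ p ∣ orderOf g), pPart (p := p) s ∈ K := by
    intro s hs
    simp only [hK, Finset.mem_filter, Finset.mem_univ, true_and, not_not] at hs ⊢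
    exact hclass _ (exists_orderOf_pPart s) fun h => (pPart_eq_one_iff s).1 h hs
  rw [← Finset.sum_fiberwise_of_maps_to hmaps,
    Finset.sum_congr rfl (g := fun _ => sectionSum p (χ : G → ℂ) x) fun u hu => ?_,
    Finset.sum_const, nsmul_eq_mul, hK, ← Fintype.card_subtype, ← Nat.card_eq_fintype_card]
  simp only [hK, Finset.mem_filter, Finset.mem_univ, true_and] at hu
  obtain ⟨g, rfl⟩ := isConj_iff.1 hu
  symm
  refine Finset.sum_bij' (fun c _ => g * (x * c) * g⁻¹)
    (fun s _ => pReg (p := p) (g⁻¹ * s * g)) ?_ ?_ ?_ ?_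
    (fun c _ => (IsIrr.isClassFunction χ.2 _ g).symm)
  · intro c hc
    simp only [Finset.mem_filter, Finset.mem_univ, true_and, Subgroup.mem_centralizer_singleton_iff] at hc
    have hpp : pPart (p := p) (g * (x * c) * g⁻¹) = g * x * g⁻¹ := by
      rw [pPart_conj, pPart_mul_of (show Commute x c from hc.1.symm) ⟨1, by rw [hx, pow_one]⟩ hc.2]
    simp only [Finset.mem_filter, Finset.mem_univ, true_and, not_not]
    refine ⟨?_, hpp⟩
    by_contra hn
    rw [(pPart_eq_one_iff _).2 hn, eq_comm, conj_eq_one_iff] at hpp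
    rw [hpp, orderOf_one] at hx
    exact (Fact.out : p.Prime).ne_one hx.symm
  · intro s hs
    simp only [Finset.mem_filter, Finset.mem_univ, true_and, not_not] at hs
    have hpp : pPart (p := p) (g⁻¹ * s * g) = x := by
      have h := pPart_conj (p := p) s g⁻¹
      rw [inv_inv] at h
      rw [h, hs.2]
      group
    simp only [Finset.mem_filter, Finset.mem_univ, true_and, Subgroup.mem_centralizer_singleton_iff]
    refine ⟨?_, not_dvd_orderOf_pReg _⟩
    have := (commute_pPart_pReg (p := p) (g⁻¹ * s * g)).eq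
    rw [hpp] at this
    exact this.symm
  · intro c hc
    simp only [Finset.mem_filter, Finset.mem_univ, true_and, Subgroup.mem_centralizer_singleton_iff] at hc
    rw [show g⁻¹ * (g * (x * c) * g⁻¹) * g = x * c by group, pReg,
      pPart_mul_of (show Commute x c from hc.1.symm) ⟨1, by rw [hx, pow_one]⟩ hc.2, inv_mul_cancel_left]
  · intro s hs
    simp only [Finset.mem_filter, Finset.mem_univ, true_and, not_not] at hs
    have hpp : pPart (p := p) (g⁻¹ * s * g) = x := by
      have h := pPart_conj (p := p) s g⁻¹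
      rw [inv_inv] at h
      rw [h, hs.2]
      group
    have := pPart_mul_pReg (p := p) (g⁻¹ * s * g)
    rw [hpp] at this
    rw [this]
    group

theorem sectionSum_eq (x : G) [Fintype G] {M : Ideal Cfsg.AlgInt} (hM : Cfsg.IsPModular p M)
    (hx : orderOf x = p) (U : Subgroup (Subgroup.centralizer ({x} : Set G))) [U.Normal]
    (hU : ∀ c : Subgroup.centralizer ({x} : Set G), c ∈ U ↔ ¬ p ∣ orderOf c)
    (hUp : ¬ p ∣ Nat.card U) (χ : Cfsg.IrrCharacter G) :
    (χ ∈ Cfsg.principalBlock M G → sectionSum p (χ : G → ℂ) x = (Nat.card U : ℂ) * (χ : G → ℂ) x) ∧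
      (χ ∉ Cfsg.principalBlock M G → sectionSum p (χ : G → ℂ) x = 0) := by
  classical
  have hsub : sectionSum p (χ : G → ℂ) x = ∑ c ∈ Finset.univ.filter
      (fun c : Subgroup.centralizer ({x} : Set G) => ¬ p ∣ orderOf c), (χ : G → ℂ) (x * c) := by
    rw [sectionSum]
    symm
    refine Finset.sum_bij (fun c _ => (c : G)) (fun c hc => ?_)
      (fun c _ c' _ h => Subtype.ext h) (fun c hc => ?_) (fun c _ => rfl)
    · simp only [Finset.mem_filter, Finset.mem_univ, true_and] at hc ⊢
      exact ⟨c.2, by rwa [Subgroup.orderOf_coe]⟩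
    · simp only [Finset.mem_filter, Finset.mem_univ, true_and] at hc
      exact ⟨⟨c, hc.1⟩, by simpa [Subgroup.orderOf_mk] using hc.2, rfl⟩
  have hxe : orderOf x = p ^ 1 := by rw [pow_one, hx]
  refine ⟨fun hB => ?_, fun hB => ?_⟩
  · rw [hsub, Finset.sum_congr rfl fun c hc => Cores.principalBlock_apply_mul hM hxe hB U hUp
      ((hU c).2 (Finset.mem_filter.1 hc).2), Finset.sum_const, nsmul_eq_mul, Nat.card_eq_fintype_card,
      Fintype.card_subtype, Finset.filter_congr fun c _ => hU c]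
  · rw [hsub]
    set θ : Subgroup.centralizer ({x} : Set G) → ℂ := fun c => (χ : G → ℂ) (x * (c : G)) with hθdef
    have hθ : Cfsg.IsClassFunction (Subgroup.centralizer ({x} : Set G)) θ := fun g k => by
      show (χ : G → ℂ) (x * ((k * g * k⁻¹ : Subgroup.centralizer ({x} : Set G)) : G)) = _
      have hk := Subgroup.mem_centralizer_singleton_iff.mp k.2
      rw [show x * ((k * g * k⁻¹ : Subgroup.centralizer ({x} : Set G)) : G) =
        (k : G) * (x * (g : G)) * (k : G)⁻¹ by push_cast; rw [← mul_assoc (k : G) x, hk]; group]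
      exact IsIrr.isClassFunction χ.2 _ _
    have hBχ : Cfsg.IsPBlock M (Cfsg.blockOf M (χ : G → ℂ)) := isPBlock_blockOf M χ
    have hnot : ¬ Cfsg.IsInducedBlock M (Subgroup.centralizer ({x} : Set G))
        (Cfsg.principalBlock M (Subgroup.centralizer ({x} : Set G))) (Cfsg.blockOf M (χ : G → ℂ)) := by
      intro hind
      have h := (Cores.third_main (p := p) hM hind).2 rfl
      exact hB (h ▸ self_mem_blockOf hM χ)
    have h2 := blockPart_one_eq_zero hM hxe hBχ (self_mem_blockOf hM χ)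
      (isPBlock_principalBlock M) hnot
    change ∑ c ∈ Finset.univ.filter (fun c => ¬ p ∣ orderOf c), θ c = 0
    rw [Finset.sum_congr rfl fun c _ => congrFun (classFunction_expansion hθ) c]
    simp only [Finset.sum_apply, Pi.smul_apply, smul_eq_mul]
    rw [Finset.sum_comm]
    simp only [← Finset.mul_sum]
    rw [Finset.sum_congr rfl (g := fun ψ : Cfsg.IrrCharacter (Subgroup.centralizer ({x} : Set G)) =>
      (Nat.card U : ℂ) * if ψ ∈ Cfsg.principalBlock M (Subgroup.centralizer ({x} : Set G)) then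
        Cfsg.classInner θ (ψ : Subgroup.centralizer ({x} : Set G) → ℂ) *
          (ψ : Subgroup.centralizer ({x} : Set G) → ℂ) 1 else 0) fun ψ _ => ?_,
      ← Finset.mul_sum, h2, mul_zero]
    split_ifs with hψ
    · rw [Finset.sum_congr rfl fun c hc => H82.apply_eq_of_mem_principalBlock hM hψ U hUp
        ((hU c).2 (Finset.mem_filter.1 hc).2), Finset.sum_const, nsmul_eq_mul,
        Nat.card_eq_fintype_card, Fintype.card_subtype, Finset.filter_congr fun c _ => hU c]
      ring
    · have h0 := sum_regular_eq_zero hM (isPBlock_principalBlock M)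
        (χ := (trivialIrr : Cfsg.IrrCharacter (Subgroup.centralizer ({x} : Set G))))
        (sameBlock_refl hM _) hψ
      have h0' := congrArg (starRingEnd ℂ) h0
      simp only [trivialIrr, one_mul, map_sum, Complex.conj_conj, map_zero] at h0'
      rw [h0', mul_zero, mul_zero]

open scoped Classical in
theorem card_regular_pairs [Fintype G] (x : G) :
    ((∑ g ∈ Finset.univ.filter (fun g : G => IsConj x g),
      ((Finset.univ.filter fun g : G => IsConj x g).filter fun y => ¬ p ∣ orderOf (g * y)).card : ℕ) : ℂ) =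
      ∑ w ∈ Finset.univ.filter (fun g : G => ¬ p ∣ orderOf g), (classSum x * classSum x).coeff w := by
  simp only [H84.coeff_classSum_mul]
  rw [← Nat.cast_sum]
  refine congrArg (Nat.cast : ℕ → ℂ) ?_
  rw [← Finset.card_sigma, ← Finset.card_sigma]
  refine Finset.card_bij' (fun q _ => (⟨q.1 * q.2, q.1⟩ : Σ _ : G, G))
    (fun q _ => (⟨q.2, q.2⁻¹ * q.1⟩ : Σ _ : G, G)) ?_ ?_ ?_ ?_
  · rintro ⟨g, y⟩ h
    simp only [Finset.mem_sigma, Finset.mem_filter, Finset.mem_univ, true_and] at h ⊢
    rw [inv_mul_cancel_left]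
    exact ⟨h.2.2, h.1, h.2.1⟩
  · rintro ⟨w, g⟩ h
    simp only [Finset.mem_sigma, Finset.mem_filter, Finset.mem_univ, true_and] at h ⊢
    rw [mul_inv_cancel_left]
    exact ⟨h.2.1, h.2.2, h.1⟩
  · rintro ⟨g, y⟩ _
    simp
  · rintro ⟨w, g⟩ _
    simp

/-- One term of the class sum. -/
theorem term_eq {k n cd g : ℂ} {a : ℤ} (hd : cd ≠ 0) (t : Prop) [Decidable t] (b : Prop) [Decidable b]
    (htr : t → (a : ℂ) * (a : ℂ) = cd) :
    cd * (k * (a : ℂ) / cd * (k * (a : ℂ) / cd)) *
        ((if t then g else 0) - k * (if b then n * (a : ℂ) else 0)) =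
      k ^ 2 * (if t then g else 0) - k ^ 3 * n * (if b then (a : ℂ) ^ 3 / cd else 0) := by
  split_ifs with h1 h2 h2 <;> field_simp
  · linear_combination k ^ 2 * g * (htr h1)
  · linear_combination k ^ 2 * g * (htr h1)
  all_goals ring

variable [IsSimpleGroup G]

set_option maxHeartbeats 1600000 in
theorem eq_two (hna : ∃ v w : G, v * w ≠ w * v) (P : Sylow p G) (hP1 : (P : Subgroup G) ≠ ⊥)
    (hPe : Cfsg.IsElementaryAbelian p (P : Subgroup G))
    (hconj : ∀ x ∈ (P : Subgroup G), ∀ y ∈ (P : Subgroup G), x ≠ 1 → y ≠ 1 →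
      ∃ g : G, g * x * g⁻¹ = y)
    (hb : ∀ x ∈ (P : Subgroup G), orderOf x = p →
      Cfsg.HasNormalPComplement p (Subgroup.centralizer ({x} : Set G)))
    (hc : ∀ x y : G, orderOf x = p → orderOf y = p →
      Cfsg.IsPSolvable p (Subgroup.closure ({x, y} : Set G))) : p = 2 := by
  classical
  cases nonempty_fintype G
  have hp : p.Prime := Fact.out
  by_contra hp2
  have hp3 : 3 ≤ p := by have := hp.two_le; omega
  obtain ⟨x, hxP, hx1⟩ : ∃ x ∈ (P : Subgroup G), x ≠ 1 := by
    by_contra h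
    push Not at h
    exact hP1 ((Subgroup.eq_bot_iff_forall _).2 h)
  have hx : orderOf x = p := orderOf_eq_prime (hPe.2 x hxP) hx1
  -- elements of `p`-power order
  have hclass : ∀ g : G, (∃ k, orderOf g = p ^ k) → g ≠ 1 → IsConj x g := by
    rintro g ⟨k, hk⟩ hg
    obtain ⟨Q, hQ⟩ := (IsPGroup.of_card (n := k) (by rw [Nat.card_zpowers, hk]) :
      IsPGroup p (Subgroup.zpowers g)).exists_le_sylow
    obtain ⟨h, hh⟩ := MulAction.exists_smul_eq G Q P
    have hmem : h * g * h⁻¹ ∈ (P : Subgroup G) := by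
      rw [← hh, Sylow.coe_subgroup_smul]
      exact Subgroup.smul_mem_pointwise_smul _ (MulAut.conj h) _ (hQ (Subgroup.mem_zpowers g))
    obtain ⟨z, hz⟩ := hconj x hxP _ hmem hx1 fun e => hg (conj_eq_one_iff.1 e)
    exact (isConj_iff.2 ⟨z, hz⟩).trans (isConj_iff.2 ⟨h, rfl⟩ : IsConj g (h * g * h⁻¹)).symm
  have hordK : ∀ g : G, IsConj x g ↔ orderOf g = p := by
    refine fun g => ⟨fun h => ?_, fun h => hclass g ⟨1, by rw [h, pow_one]⟩ fun e => ?_⟩
    · obtain ⟨z, rfl⟩ := isConj_iff.1 h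
      rw [← MulAut.conj_apply, MulEquiv.orderOf_eq, hx]
    · rw [e, orderOf_one] at h
      exact hp.ne_one h.symm
  have hab : ∀ (L : Subgroup G) (R : Sylow p L), IsMulCommutative (R : Subgroup L) := by
    intro L R
    obtain ⟨Q, hQ⟩ := (R.isPGroup'.map L.subtype).exists_le_sylow
    let φ := Q.equiv P
    refine ⟨⟨fun v w => ?_⟩⟩
    have hv : ((v : L) : G) ∈ (Q : Subgroup G) := hQ ⟨_, v.2, rfl⟩
    have hw : ((w : L) : G) ∈ (Q : Subgroup G) := hQ ⟨_, w.2, rfl⟩
    have := congrArg φ.symm (hPe.1.is_comm.comm (φ ⟨_, hv⟩) (φ ⟨_, hw⟩))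
    simp only [map_mul, MulEquiv.symm_apply_apply] at this
    exact Subtype.ext (Subtype.ext (congrArg Subtype.val this :))
  -- few `p`-regular products
  set K := Finset.univ.filter fun g : G => IsConj x g with hK
  have hKord : ∀ g, g ∈ K ↔ orderOf g = p := fun g => by
    rw [hK, Finset.mem_filter, and_iff_right (Finset.mem_univ g)]
    exact hordK g
  have hM : ∀ g ∈ K, (p - 1) * (K.filter fun y => ¬ p ∣ orderOf (g * y)).card ≤ K.card := by
    intro g hg
    rw [hKord] at hg
    let A : ℕ → Finset G := fun i => K.filter fun y => ¬ p ∣ orderOf (g * y ^ i)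
    have hAcard : ∀ i ∈ Finset.Ico 1 p, (A i).card = (A 1).card := by
      intro i hi
      rw [Finset.mem_Ico] at hi
      have hcop : p.Coprime i := hp.coprime_iff_not_dvd.2 (Nat.not_dvd_of_pos_of_lt hi.1 hi.2)
      obtain ⟨j, hj⟩ : ∃ j : ℕ, i * j ≡ 1 [MOD p] := by
        obtain ⟨j, -, hj⟩ := Nat.exists_mul_mod_eq_one_of_coprime hcop.symm hp.one_lt
        exact ⟨j, by rw [Nat.ModEq, hj, Nat.one_mod_eq_one.2 hp.ne_one]⟩
      have hjc : p.Coprime j := by
        refine hp.coprime_iff_not_dvd.2 fun h => ?_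
        have := (Nat.modEq_zero_iff_dvd.2 (dvd_mul_of_dvd_right h i)).symm.trans hj
        rw [Nat.ModEq, Nat.zero_mod, Nat.one_mod_eq_one.2 hp.ne_one] at this
        exact zero_ne_one this
      have hpow : ∀ y ∈ K, (y ^ i) ^ j = y ∧ (y ^ j) ^ i = y := by
        intro y hy
        rw [hKord] at hy
        have h1 : y ^ (i * j) = y ^ 1 := pow_eq_pow_iff_modEq.2 (by rwa [hy])
        rw [pow_one] at h1
        exact ⟨by rw [← pow_mul, h1], by rw [← pow_mul, mul_comm, h1]⟩
      refine Finset.card_bij' (fun y _ => y ^ i) (fun y _ => y ^ j) ?_ ?_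
        (fun y hy => (hpow y (Finset.mem_filter.1 hy).1).1)
        (fun y hy => (hpow y (Finset.mem_filter.1 hy).1).2)
      · intro y hy
        simp only [A, Finset.mem_filter, hKord, pow_one] at hy ⊢
        exact ⟨by rw [Nat.Coprime.orderOf_pow (hy.1.symm ▸ hcop), hy.1], hy.2⟩
      · intro y hy
        simp only [A, Finset.mem_filter, pow_one] at hy ⊢
        refine ⟨?_, by rw [(hpow y hy.1).2]; exact hy.2⟩
        rw [hKord] at hy ⊢
        rw [Nat.Coprime.orderOf_pow (hy.1.symm ▸ hjc), hy.1]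
    have hdisj : ((Finset.Ico 1 p : Finset ℕ) : Set ℕ).PairwiseDisjoint A := by
      intro i hi j hj hne
      rw [Function.onFun, Finset.disjoint_left]
      intro y hy hy'
      simp only [A, Finset.mem_filter, hKord] at hy hy'
      simp only [Finset.coe_Ico, Set.mem_Ico] at hi hj
      set L := Subgroup.closure ({g, y} : Set G) with hL
      have hgL : g ∈ L := Subgroup.subset_closure (by simp)
      have hyL : y ∈ L := Subgroup.subset_closure (by simp)
      have h := unique_power (hc g y hg hy.1) (hab L) (x := ⟨g, hgL⟩) (y := ⟨y, hyL⟩) ?_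
        (by rw [Subgroup.orderOf_mk]; exact hg) (by rw [Subgroup.orderOf_mk]; exact hy.1)
        (i := i) (j := j) (by rw [← Subgroup.orderOf_coe]; exact hy.2)
        (by rw [← Subgroup.orderOf_coe]; exact hy'.2)
      · rw [Nat.mod_eq_of_lt hi.2, Nat.mod_eq_of_lt hj.2] at h
        exact hne h
      · apply Subgroup.map_injective L.subtype_injective
        rw [MonoidHom.map_closure, ← MonoidHom.range_eq_map, Subgroup.range_subtype, Set.image_pair]
        exact hL.symm
    have hsum := Finset.card_le_card (Finset.biUnion_subset.2 (fun i _ => Finset.filter_subset _ K) :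
      (Finset.Ico 1 p).biUnion A ⊆ K)
    rw [Finset.card_biUnion hdisj, Finset.sum_congr rfl hAcard, Finset.sum_const, Nat.card_Ico,
      smul_eq_mul] at hsum
    simpa only [A, pow_one] using hsum
  set N0 : ℕ := ∑ g ∈ K, (K.filter fun y => ¬ p ∣ orderOf (g * y)).card with hN0
  have hN0le : (p - 1) * N0 ≤ K.card * K.card := by
    rw [hN0, Finset.mul_sum]
    exact (Finset.sum_le_sum hM).trans (le_of_eq (by rw [Finset.sum_const, smul_eq_mul]))
  -- the centralizer
  obtain ⟨R, U, hUn, hRU⟩ := hb x hxP hx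
  haveI := hUn
  have hUidx : U.index = Nat.card (R : Subgroup (Subgroup.centralizer ({x} : Set G))) :=
    hRU.symm.index_eq_card
  have hUp : ¬ p ∣ Nat.card U := by
    rw [← hRU.index_eq_card]
    exact R.not_dvd_index
  have hPC : (P : Subgroup G) ≤ Subgroup.centralizer ({x} : Set G) := fun v hv =>
    Subgroup.mem_centralizer_singleton_iff.2
      (congrArg Subtype.val (hPe.1.is_comm.comm (⟨v, hv⟩ : (P : Subgroup G)) ⟨x, hxP⟩))
  obtain ⟨q, hq⟩ : ∃ q, Nat.card (P : Subgroup G) = q := ⟨_, rfl⟩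
  have hR : Nat.card (R : Subgroup (Subgroup.centralizer ({x} : Set G))) = q := by
    refine le_antisymm ?_ ?_
    · obtain ⟨Q, hQ⟩ := (R.isPGroup'.map (Subgroup.centralizer ({x} : Set G)).subtype).exists_le_sylow
      rw [← hq, ← Nat.card_congr (Q.equiv P).toEquiv,
        ← Subgroup.card_map_of_injective (Subgroup.centralizer ({x} : Set G)).subtype_injective]
      exact Nat.le_of_dvd Nat.card_pos (Subgroup.card_dvd_of_le hQ)
    · obtain ⟨R', hR'⟩ := (P.isPGroup'.comap_subtype
        (K := Subgroup.centralizer ({x} : Set G))).exists_le_sylow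
      rw [Nat.card_congr (R.equiv R').toEquiv, ← hq,
        ← Nat.card_congr (Subgroup.subgroupOfEquivOfLe hPC).toEquiv]
      exact Nat.le_of_dvd Nat.card_pos (Subgroup.card_dvd_of_le hR')
  have hU : ∀ c : Subgroup.centralizer ({x} : Set G), c ∈ U ↔ ¬ p ∣ orderOf c := by
    intro c
    refine ⟨fun h hd => hUp (hd.trans ?_), fun h => ?_⟩
    · have := orderOf_dvd_natCard (⟨c, h⟩ : U)
      rwa [Subgroup.orderOf_mk] at this
    · rw [← QuotientGroup.eq_one_iff, ← orderOf_eq_one_iff]
      have h1 : orderOf (c : Subgroup.centralizer ({x} : Set G) ⧸ U) ∣ orderOf c :=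
        orderOf_map_dvd (QuotientGroup.mk' U) c
      obtain ⟨n, hn⟩ := IsPGroup.iff_card.1 R.isPGroup'
      have h2 : orderOf (c : Subgroup.centralizer ({x} : Set G) ⧸ U) ∣ p ^ n := by
        rw [← hn, ← hUidx]
        exact orderOf_dvd_natCard _
      exact Nat.eq_one_of_dvd_coprimes ((hp.coprime_iff_not_dvd.2 h).pow_left n) h2 h1
  obtain ⟨nU, hnU⟩ : ∃ nU, Nat.card U = nU := ⟨_, rfl⟩
  have hnU0 : (nU : ℂ) ≠ 0 := Nat.cast_ne_zero.2 (hnU ▸ Nat.card_pos.ne')
  have hCcard : Nat.card (Subgroup.centralizer ({x} : Set G)) = nU * q := by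
    rw [← hnU, ← hR, hRU.card_mul]
  have hq2 : 3 ≤ q := by
    have h := orderOf_dvd_natCard (⟨x, hxP⟩ : (P : Subgroup G))
    rw [Subgroup.orderOf_mk, hx, hq] at h
    exact hp3.trans (Nat.le_of_dvd (hq ▸ Nat.card_pos) h)
  -- integral values at `x`
  have hval : ∀ χ : Cfsg.IrrCharacter G, ∃ v : ℤ, (χ : G → ℂ) x = (v : ℂ) ∧
      (q : ℤ) ∣ (Cfsg.charDegree (χ : G → ℂ) : ℤ) - v := by
    intro χ
    haveI : Fintype (P : Subgroup G) := Fintype.ofFinite _
    obtain ⟨m, hm⟩ := H83.sum_subgroup_eq (IsIrr.isCharacter χ.2) (P : Subgroup G)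
    rw [hq, ← Finset.add_sum_erase _ _ (Finset.mem_univ (1 : (P : Subgroup G))), Subgroup.coe_one,
      apply_one_eq_charDegree, Finset.sum_congr rfl (g := fun _ => (χ : G → ℂ) x) fun u hu => ?_,
      Finset.sum_const, Finset.card_erase_of_mem (Finset.mem_univ _), Finset.card_univ,
      ← Nat.card_eq_fintype_card, hq, nsmul_eq_mul, Nat.cast_sub (by omega), Nat.cast_one] at hm
    · obtain ⟨v, hv⟩ := exists_int_of_mul (IsChar.isIntegral (IsIrr.isCharacter χ.2) x)
        (n := (q : ℤ) - 1) (a := (q : ℤ) * m - Cfsg.charDegree (χ : G → ℂ)) (by omega) (by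
          push_cast
          linear_combination hm)
      refine ⟨v, hv, ⟨(m : ℤ) - v, ?_⟩⟩
      rw [hv] at hm
      have h : (Cfsg.charDegree (χ : G → ℂ) : ℤ) + ((q : ℤ) - 1) * v = (q : ℤ) * m := by
        exact_mod_cast hm
      linear_combination h
    · obtain ⟨g, hg⟩ := hconj x hxP u u.2 hx1 fun e =>
        (Finset.mem_erase.1 hu).1 (Subtype.ext e)
      rw [← hg, IsIrr.isClassFunction χ.2]
  choose a ha had using hval
  obtain ⟨M, hMp⟩ := exists_isPModular hp
  set B := Finset.univ.filter fun χ : Cfsg.IrrCharacter G => χ ∈ Cfsg.principalBlock M G with hB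
  have htB : (trivialIrr : Cfsg.IrrCharacter G) ∈ B := by
    simp only [hB, Finset.mem_filter, Finset.mem_univ, true_and]
    exact sameBlock_refl hMp _
  have hS : ∀ χ : Cfsg.IrrCharacter G, sectionSum p (χ : G → ℂ) x =
      if χ ∈ B then (nU : ℂ) * (a χ : ℂ) else 0 := by
    intro χ
    obtain ⟨h1, h2⟩ := sectionSum_eq x hMp hx U hU hUp χ
    split_ifs with h
    · rw [h1 (Finset.mem_filter.1 h).2, hnU, ha]
    · exact h2 fun h' => h (Finset.mem_filter.2 ⟨Finset.mem_univ _, h'⟩)
  have hweight : ∀ z : G, (∀ c ∈ Finset.univ.filter (fun c : G =>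
      c ∈ Subgroup.centralizer ({x} : Set G) ∧ ¬ p ∣ orderOf c), IsConj (x * c) z → c = 1) →
      ∑ χ ∈ B, (a χ : ℂ) * conj ((χ : G → ℂ) z) * (nU : ℂ) =
        ∑ χ : Cfsg.IrrCharacter G, (χ : G → ℂ) x * conj ((χ : G → ℂ) z) := by
    intro z hz
    have hl : ∑ χ : Cfsg.IrrCharacter G, sectionSum p (χ : G → ℂ) x * conj ((χ : G → ℂ) z) =
        ∑ χ ∈ B, (a χ : ℂ) * conj ((χ : G → ℂ) z) * (nU : ℂ) := by
      simp only [hS, ite_mul, zero_mul]
      rw [Finset.sum_ite_mem, Finset.univ_inter]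
      exact Finset.sum_congr rfl fun χ _ => by ring
    rw [← hl]
    simp only [sectionSum, Finset.sum_mul]
    rw [Finset.sum_comm, Finset.sum_eq_single (1 : G)]
    · simp
    · intro c hc hc1
      exact second_orthogonality_not_isConj fun h => hc1 (hz c hc h)
    · intro h
      exact absurd (Finset.mem_filter.2 ⟨Finset.mem_univ _, one_mem _, by
        rw [orderOf_one, Nat.dvd_one]; exact hp.ne_one⟩) h
  have hsq : ∑ χ ∈ B, a χ * a χ = (q : ℤ) := by
    have h := hweight x fun c hc h => by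
      simp only [Finset.mem_filter, Finset.mem_univ, true_and,
        Subgroup.mem_centralizer_singleton_iff] at hc
      have hcx : Commute x c := hc.1.symm
      have h1 := pPart_mul_of hcx ⟨1, by rw [hx, pow_one]⟩ hc.2
      rw [(pPart_eq_self_iff _).2 ⟨1, by rw [(hordK _).1 h.symm, pow_one]⟩] at h1
      exact mul_eq_left.1 h1
    rw [second_orthogonality_self, hCcard] at h
    simp only [ha, map_intCast] at h
    have h' : ((∑ χ ∈ B, a χ * a χ : ℤ) : ℂ) * (nU : ℂ) = ((q : ℤ) : ℂ) * (nU : ℂ) := by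
      push_cast at h ⊢
      rw [Finset.sum_mul, h]
      ring
    exact_mod_cast mul_right_cancel₀ hnU0 h'
  have hda : ∑ χ ∈ B, (Cfsg.charDegree (χ : G → ℂ) : ℤ) * a χ = 0 := by
    have h := hweight 1 fun c hc h => by
      simp only [Finset.mem_filter, Finset.mem_univ, true_and,
        Subgroup.mem_centralizer_singleton_iff] at hc
      have h1 := pPart_mul_of (p := p) (show Commute x c from hc.1.symm) ⟨1, by rw [hx, pow_one]⟩ hc.2
      rw [isConj_one_left.1 h, (pPart_eq_one_iff (1 : G)).2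
        (by rw [orderOf_one, Nat.dvd_one]; exact hp.ne_one)] at h1
      exact absurd h1.symm hx1
    rw [second_orthogonality_not_isConj (fun h => hx1 (isConj_one_left.1 h))] at h
    simp only [apply_one_eq_charDegree, map_natCast] at h
    have h' : ((∑ χ ∈ B, (Cfsg.charDegree (χ : G → ℂ) : ℤ) * a χ : ℤ) : ℂ) * (nU : ℂ) = 0 := by
      push_cast
      rw [Finset.sum_mul, ← h]
      exact Finset.sum_congr rfl fun χ _ => by ring
    exact_mod_cast (mul_eq_zero.1 h').resolve_right hnU0
  have hat : a trivialIrr = 1 := by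
    have := ha trivialIrr
    simp only [trivialIrr] at this
    exact_mod_cast this.symm
  have hdt : (Cfsg.charDegree ((trivialIrr : Cfsg.IrrCharacter G) : G → ℂ) : ℤ) = 1 := by
    have := apply_one_eq_charDegree (trivialIrr : Cfsg.IrrCharacter G)
    simp only [trivialIrr] at this ⊢
    exact_mod_cast this.symm
  have hlt := cube_sum_lt B htB (q := (q : ℤ)) (by exact_mod_cast hq2) a
    (fun χ => (Cfsg.charDegree (χ : G → ℂ) : ℤ)) (fun χ _ => by
      have := charDegree_pos χ
      omega) hat hdt (fun χ _ hχ he => hx1 (faithful (fun e => hχ (Subtype.ext e)) x (by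
        rw [ha, apply_one_eq_charDegree, ← he]
        simp))) (fun χ _ => had χ) hsq hda
  -- the class sum computation
  have hk : Nat.card {g : G // IsConj x g} = K.card := by
    rw [Nat.card_eq_fintype_card, Fintype.card_subtype, hK]
  have hcount : (N0 : ℂ) = ∑ w ∈ Finset.univ.filter (fun g : G => ¬ p ∣ orderOf g),
      (classSum x * classSum x).coeff w := by
    rw [hN0, hK]
    exact card_regular_pairs x
  have hindex : ((Subgroup.centralizer ({x} : Set G)).index : ℂ) = (K.card : ℂ) := by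
    rw [← hk]
    exact congrArg _ (card_class_eq_index x).symm
  have hGcard : (Nat.card G : ℂ) = (K.card : ℂ) * ((nU : ℂ) * q) := by
    rw [← hindex, ← Subgroup.card_mul_index (Subgroup.centralizer ({x} : Set G)), hCcard]
    push_cast
    ring
  set T : ℚ := ∑ χ ∈ B, (a χ : ℚ) ^ 3 / ((Cfsg.charDegree (χ : G → ℂ) : ℤ) : ℚ) with hT
  have hG0 : (Nat.card G : ℂ) ≠ 0 := Nat.cast_ne_zero.2 Nat.card_pos.ne'
  have hformula : (N0 : ℂ) * (q : ℂ) = (K.card : ℂ) ^ 2 * ((q : ℂ) - (T : ℂ)) := by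
    rw [hcount]
    simp only [H84.coeff_classSum_mul_eq, ← Finset.mul_sum]
    rw [Finset.sum_comm]
    simp only [← Finset.mul_sum, ← map_sum]
    have hterm : ∀ χ : Cfsg.IrrCharacter G,
        (χ : G → ℂ) 1 * (Cfsg.centralChar (χ : G → ℂ) x * Cfsg.centralChar (χ : G → ℂ) x) *
          conj (∑ w ∈ Finset.univ.filter (fun g : G => ¬ p ∣ orderOf g), (χ : G → ℂ) w) =
        (K.card : ℂ) ^ 2 * (if χ = trivialIrr then (Nat.card G : ℂ) else 0) -
          (K.card : ℂ) ^ 3 * (nU : ℂ) * (if χ ∈ B then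
            (((a χ : ℚ) ^ 3 / ((Cfsg.charDegree (χ : G → ℂ) : ℤ) : ℚ) : ℚ) : ℂ) else 0) := by
      intro χ
      rw [sum_regular_character x hclass hx χ, hk, hS, Cfsg.centralChar, hindex, ha]
      have hd0 : (χ : G → ℂ) 1 ≠ 0 := IsIrr.one_ne_zero χ.2
      rw [apply_one_eq_charDegree] at hd0 ⊢
      simp only [map_sub, map_mul, apply_ite (starRingEnd ℂ), map_zero, map_natCast, map_intCast]
      push_cast
      refine term_eq hd0 _ _ ?_
      rintro rfl
      rw [hat, ← Int.cast_natCast, hdt]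
      simp
    rw [Finset.sum_congr rfl fun χ _ => hterm χ, Finset.sum_sub_distrib, ← Finset.mul_sum,
      ← Finset.mul_sum, Finset.sum_ite_eq', if_pos (Finset.mem_univ _), Finset.sum_ite_mem,
      Finset.univ_inter, ← Rat.cast_sum, ← hT]
    field_simp
    rw [hGcard]
    ring
  have hQ : (N0 : ℚ) * q = (K.card : ℚ) ^ 2 * ((q : ℚ) - T) := by
    have h : (((N0 : ℚ) * q : ℚ) : ℂ) = (((K.card : ℚ) ^ 2 * ((q : ℚ) - T) : ℚ) : ℂ) := by
      push_cast
      exact hformula
    exact_mod_cast h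
  have hlt' : T < (q : ℚ) / 2 := by
    simp only [hT, Int.cast_natCast] at hlt ⊢
    exact hlt
  have hp' : (2 : ℚ) * N0 ≤ (K.card : ℚ) ^ 2 := by
    have h2 : 2 * N0 ≤ K.card * K.card := le_trans (Nat.mul_le_mul_right _ (by omega)) hN0le
    rw [pow_two]
    exact_mod_cast h2
  have hK0 : (0 : ℚ) < (K.card : ℚ) ^ 2 := by
    have : 0 < K.card := Finset.card_pos.2 ⟨x, (hKord x).2 hx⟩
    positivity
  have h3 := mul_lt_mul_of_pos_left (show (q : ℚ) / 2 < (q : ℚ) - T by linarith) hK0
  have h4 := mul_le_mul_of_nonneg_right hp' (show (0 : ℚ) ≤ q from Nat.cast_nonneg _)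
  linarith

end Cfsg.Agent.H81.PairSolvable
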