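import Cfsg.Agent.H81.DadeExtend

/-!
# The bijection of principal blocks

For an extension `η` of a member of the principal block of `N` the ratios `η y / η 1`, `y` in `C(P)`,
form modulo `M` a homomorphism of the quotient; twisting by it singles out the member of the
principal block above.
-/

open scoped ComplexConjugate
open Cfsg.Agent.BlockBasic Cfsg.Agent.CharBasic

namespace Cfsg.Agent.H81

universe u

variable {p : ℕ} {M : Ideal AlgInt} {G : Type u} [Group G] [Fintype G]
  (N : Subgroup G) [hN : N.Normal] [Fintype N] {P : Subgroup G}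

open scoped Classical in
/-- The orbit of `y` under conjugation by `N`. -/
noncomputable def innerOrbit (y : G) : Finset G :=
  Finset.univ.image fun n : N => (n : G) * y * (n : G)⁻¹

theorem mem_innerOrbit {y a : G} : a ∈ innerOrbit N y ↔ ∃ n : N, (n : G) * y * (n : G)⁻¹ = a := by
  classical
  simp [innerOrbit]

theorem conj_mem_innerOrbit {y a : G} (n : N) (h : a ∈ innerOrbit N y) :
    (n : G) * a * (n : G)⁻¹ ∈ innerOrbit N y := by
  obtain ⟨m, rfl⟩ := (mem_innerOrbit N).1 h
  exact (mem_innerOrbit N).2 ⟨n * m, by push_cast; group⟩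

theorem mk_of_mem_innerOrbit {y a : G} (h : a ∈ innerOrbit N y) :
    (a : G ⧸ N) = (y : G ⧸ N) := by
  obtain ⟨m, rfl⟩ := (mem_innerOrbit N).1 h
  rw [QuotientGroup.mk_mul, QuotientGroup.mk_mul, QuotientGroup.mk_inv,
    (QuotientGroup.eq_one_iff (m : G)).2 m.2, inv_one, one_mul, mul_one]

theorem not_dvd_card_innerOrbit (hd : IsDadePair p N P) {y : G}
    (hy : y ∈ Subgroup.centralizer (P : Set G)) : ¬ p ∣ (innerOrbit N y).card := by
  classical
  set C := Subgroup.centralizer ({y} : Set G)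
  have hcount : (innerOrbit N y).card = C.relIndex N := by
    rw [Subgroup.relIndex, Subgroup.index_eq_card, ← Fintype.card_coe, ← Nat.card_eq_fintype_card]
    refine (Nat.card_congr (Equiv.ofBijective
      (Quotient.lift (fun n : N => (⟨(n : G) * y * (n : G)⁻¹, (mem_innerOrbit N).2 ⟨n, rfl⟩⟩ :
        ↥(innerOrbit N y))) ?_) ⟨?_, ?_⟩)).symm
    · intro a b hab
      have h : ((a⁻¹ * b : N) : G) ∈ C :=
        Subgroup.mem_subgroupOf.1 (QuotientGroup.leftRel_apply.1 hab)
      rw [Subgroup.mem_centralizer_singleton_iff] at h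
      push_cast at h
      refine Subtype.ext ?_
      show (a : G) * y * (a : G)⁻¹ = (b : G) * y * (b : G)⁻¹
      calc (a : G) * y * (a : G)⁻¹ = (a : G) * (y * ((a : G)⁻¹ * b)) * (b : G)⁻¹ := by group
        _ = _ := by rw [← h]; group
    · intro a b hab
      obtain ⟨a, rfl⟩ := Quotient.exists_rep a
      obtain ⟨b, rfl⟩ := Quotient.exists_rep b
      refine Quotient.sound (QuotientGroup.leftRel_apply.2 (Subgroup.mem_subgroupOf.2 ?_))
      rw [Subgroup.mem_centralizer_singleton_iff]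
      have h1 : (a : G) * y * (a : G)⁻¹ = (b : G) * y * (b : G)⁻¹ := congrArg Subtype.val hab
      push_cast
      calc (a : G)⁻¹ * b * y = (a : G)⁻¹ * ((b : G) * y * (b : G)⁻¹) * b := by group
        _ = _ := by rw [← h1]; group
    · rintro ⟨a, ha⟩
      obtain ⟨n, rfl⟩ := (mem_innerOrbit N).1 ha
      exact ⟨Quotient.mk _ n, rfl⟩
  rw [hcount]
  intro h
  refine hd.index (h.trans ?_)
  rw [← Subgroup.inf_relIndex_right]
  refine (Dvd.intro _ (Subgroup.relIndex_mul_index inf_le_right)).trans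
    (Subgroup.index_dvd_of_le (le_inf ?_ hd.le))
  exact fun x hx => Subgroup.mem_centralizer_singleton_iff.2 (Subgroup.mem_centralizer_iff.1 hy x hx)

/-- An operator sum over an `N`-stable set acts as a scalar when the restriction to `N` is
irreducible. -/
theorem sum_apply_mul_of_res_irr (η : IrrCharacter G)
    (hres : IsIrrCharacter N (fun n : N => (η : G → ℂ) n)) (S : Finset G)
    (hS : ∀ (n : N), ∀ a ∈ S, (n : G) * a * (n : G)⁻¹ ∈ S) (g : G) :
    ∑ a ∈ S, (η : G → ℂ) (a * g) =
      (∑ a ∈ S, (η : G → ℂ) a) / (η : G → ℂ) 1 * (η : G → ℂ) g := by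
  classical
  have h1 := irr_one_ne_zero η.2
  obtain ⟨m, ρ, hρ, hρη⟩ := η.2
  obtain ⟨l, σ, hσ, hσc⟩ := hres
  let ρN : Representation ℂ N (Fin m → ℂ) := ρ.comp N.subtype
  obtain ⟨e⟩ := nonempty_equiv_of_character_eq σ ρN (hσc.trans (funext fun n => by
    show (η : G → ℂ) n = ρ.character n
    rw [hρη]))
  haveI : ρN.IsIrreducible := isIrreducible_of_equiv e
  set T : Module.End ℂ (Fin m → ℂ) := ∑ a ∈ S, ρ a with hT
  obtain ⟨c, hc⟩ := schur_scalar ρN T fun n => by
    show T * ρ (n : G) = ρ (n : G) * T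
    rw [hT, Finset.sum_mul, Finset.mul_sum]
    refine Finset.sum_bij (fun a _ => (n : G)⁻¹ * a * (n : G)) (fun a ha => ?_) (fun a _ b _ h => ?_)
      (fun a ha => ⟨(n : G) * a * (n : G)⁻¹, hS n a ha, by group⟩) (fun a ha => ?_)
    · simpa using hS n⁻¹ a ha
    · simpa using h
    · rw [← map_mul, ← map_mul, ← mul_assoc, mul_inv_cancel_left]
  have htr : ∀ x : G, ∑ a ∈ S, (η : G → ℂ) (a * x) = c * (η : G → ℂ) x := by
    intro x
    rw [← hρη]
    show ∑ a ∈ S, LinearMap.trace ℂ _ (ρ (a * x)) = c * LinearMap.trace ℂ _ (ρ x)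
    simp only [map_mul]
    rw [← map_sum, ← Finset.sum_mul, ← hT, hc, ← smul_eq_mul c, ← map_smul]
    congr 1
  have h2 := htr 1
  simp only [mul_one] at h2
  rw [htr g, h2, mul_div_assoc, div_self h1, mul_one]

variable [Fact p.Prime] (hM : IsPModular p M) (hd : IsDadePair p N P) {θ : IrrCharacter N}
  (hθ : θ ∈ principalBlock M N) (η : IrrCharacter G) (hη : ∀ n : N, (η : G → ℂ) n = (θ : N → ℂ) n)

include hM hd hθ hη

/-- Three elements of `C(P)` with product in `N` have ratios of product `1`. -/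
theorem ratio_triple {y r w : G} (hy : y ∈ Subgroup.centralizer (P : Set G))
    (hr : r ∈ Subgroup.centralizer (P : Set G)) (hw : w ∈ Subgroup.centralizer (P : Set G))
    (h : y * r * w ∈ N) :
    ModM M ((η : G → ℂ) y / (η : G → ℂ) 1 * ((η : G → ℂ) r / (η : G → ℂ) 1) *
      ((η : G → ℂ) w / (η : G → ℂ) 1)) 1 := by
  classical
  set A := innerOrbit N y
  set B := innerOrbit N r
  set C := innerOrbit N w
  have hres : IsIrrCharacter N (fun n : N => (η : G → ℂ) n) := by rw [funext hη]; exact θ.2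
  have h1 := irr_one_ne_zero η.2
  have hmem : ∀ t ∈ A ×ˢ (B ×ˢ C), t.1 * (t.2.1 * t.2.2) ∈ N := by
    intro t ht
    simp only [Finset.mem_product] at ht
    rw [← QuotientGroup.eq_one_iff, QuotientGroup.mk_mul, QuotientGroup.mk_mul,
      mk_of_mem_innerOrbit N ht.1, mk_of_mem_innerOrbit N ht.2.1, mk_of_mem_innerOrbit N ht.2.2,
      ← mul_assoc, ← QuotientGroup.mk_mul, ← QuotientGroup.mk_mul, QuotientGroup.eq_one_iff]
    exact h
  let f : N → ℕ := fun n => ((A ×ˢ (B ×ˢ C)).filter fun t => t.1 * (t.2.1 * t.2.2) = (n : G)).card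
  let fC : N → ℂ := fun n => (f n : ℂ)
  have hfcl : IsClassFunction N fC := by
    intro n m
    simp only [fC, f]
    congr 1
    refine Finset.card_bij'
      (fun t _ => ((m : G)⁻¹ * t.1 * m, ((m : G)⁻¹ * t.2.1 * m, (m : G)⁻¹ * t.2.2 * m)))
      (fun t _ => ((m : G) * t.1 * (m : G)⁻¹, ((m : G) * t.2.1 * (m : G)⁻¹,
        (m : G) * t.2.2 * (m : G)⁻¹))) ?_ ?_ ?_ ?_
    · intro t ht
      simp only [Finset.mem_filter, Finset.mem_product] at ht ⊢
      refine ⟨⟨?_, ?_, ?_⟩, ?_⟩
      · simpa using conj_mem_innerOrbit N m⁻¹ ht.1.1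
      · simpa using conj_mem_innerOrbit N m⁻¹ ht.1.2.1
      · simpa using conj_mem_innerOrbit N m⁻¹ ht.1.2.2
      · calc _ = (m : G)⁻¹ * (t.1 * (t.2.1 * t.2.2)) * m := by group
          _ = _ := by rw [ht.2]; push_cast; group
    · intro t ht
      simp only [Finset.mem_filter, Finset.mem_product] at ht ⊢
      refine ⟨⟨conj_mem_innerOrbit N m ht.1.1, conj_mem_innerOrbit N m ht.1.2.1,
        conj_mem_innerOrbit N m ht.1.2.2⟩, ?_⟩
      calc _ = (m : G) * (t.1 * (t.2.1 * t.2.2)) * (m : G)⁻¹ := by group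
        _ = _ := by rw [ht.2]; push_cast; group
    · intro t _; simp [mul_assoc]
    · intro t _; simp [mul_assoc]
  have hsum : ∀ F : N → ℂ, ∀ F' : G → ℂ, (∀ n : N, F n = F' n) →
      ∑ n : N, fC n * F n = ∑ t ∈ A ×ˢ (B ×ˢ C), F' (t.1 * (t.2.1 * t.2.2)) := by
    intro F F' hF
    rw [← Finset.sum_fiberwise_of_maps_to (g := fun t : G × (G × G) => t.1 * (t.2.1 * t.2.2))
      (t := Finset.univ.map ⟨fun n : N => (n : G), Subtype.val_injective⟩)
      (fun t ht => Finset.mem_map.2 ⟨⟨_, hmem t ht⟩, Finset.mem_univ _, rfl⟩),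
      Finset.sum_map]
    refine Finset.sum_congr rfl fun n _ => ?_
    rw [Finset.sum_congr rfl (g := fun _ => F' n) fun t ht => by
      rw [(Finset.mem_filter.1 ht).2]; rfl, Finset.sum_const, nsmul_eq_mul, hF]
    rfl
  have hc := omega_congr hM (IsIrr.isClassFunction (trivialIrr : IrrCharacter N).2)
    (IsIrr.isClassFunction θ.2) hθ (isCentralElt_ofFun hfcl) (fun n => by
      rw [coeff_ofFun]; exact memLocalRing_natCast hM _)
  simp only [omega, chiLin, coeff_ofFun] at hc
  rw [hsum ((trivialIrr : IrrCharacter N) : N → ℂ) (fun _ => (1 : ℂ)) (fun _ => rfl),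
    hsum (θ : N → ℂ) (η : G → ℂ) (fun n => (hη n).symm),
    show ((trivialIrr : IrrCharacter N) : N → ℂ) 1 = 1 from rfl, div_one,
    show (θ : N → ℂ) 1 = (η : G → ℂ) 1 by rw [← hη 1, Subgroup.coe_one]] at hc
  have hO : ∀ z : G, ∑ a ∈ innerOrbit N z, (η : G → ℂ) a =
      (innerOrbit N z).card * (η : G → ℂ) z := by
    intro z
    rw [Finset.sum_congr rfl (g := fun _ => (η : G → ℂ) z) fun a ha => ?_, Finset.sum_const,
      nsmul_eq_mul]
    obtain ⟨n, rfl⟩ := (mem_innerOrbit N).1 ha
    exact IsIrr.isClassFunction η.2 _ _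
  have hstep : ∀ (z : G) (g : G), ∑ a ∈ innerOrbit N z, (η : G → ℂ) (a * g) =
      ((innerOrbit N z).card * ((η : G → ℂ) z / (η : G → ℂ) 1)) * (η : G → ℂ) g := by
    intro z g
    rw [sum_apply_mul_of_res_irr N η hres _ (fun n a ha => conj_mem_innerOrbit N n ha), hO,
      mul_div_assoc]
  rw [Finset.sum_const, nsmul_one, Finset.card_product, Finset.card_product, Finset.sum_product,
    Finset.sum_comm] at hc
  simp only [A, B, C, hstep, ← Finset.mul_sum, Finset.sum_product] at hc
  rw [Finset.sum_comm] at hc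
  simp only [hstep, ← Finset.mul_sum, hO] at hc
  have hinv := memLocalRing_natCast_inv hM (n := A.card * (B.card * C.card))
    (fun hdvd => by
      rcases (Nat.Prime.dvd_mul Fact.out).1 hdvd with h' | h'
      · exact not_dvd_card_innerOrbit N hd hy h'
      · rcases (Nat.Prime.dvd_mul Fact.out).1 h' with h'' | h''
        · exact not_dvd_card_innerOrbit N hd hr h''
        · exact not_dvd_card_innerOrbit N hd hw h'')
  have hne : ((A.card * (B.card * C.card) : ℕ) : ℂ) ≠ 0 := by
    rw [Nat.cast_ne_zero]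
    intro h0
    rcases Nat.mul_eq_zero.1 h0 with h' | h'
    · exact not_dvd_card_innerOrbit N hd hy (h' ▸ dvd_zero p)
    · rcases Nat.mul_eq_zero.1 h' with h'' | h''
      · exact not_dvd_card_innerOrbit N hd hr (h'' ▸ dvd_zero p)
      · exact not_dvd_card_innerOrbit N hd hw (h'' ▸ dvd_zero p)
  have h3 := memLocalIdeal_mul hM hinv hc
  refine ModM.symm ?_
  show MemLocalIdeal M _
  convert h3 using 1
  simp only [A, B, C] at hne ⊢
  push_cast at hne ⊢
  rw [mul_ne_zero_iff, mul_ne_zero_iff] at hne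
  obtain ⟨ha, hb, hc'⟩ := hne
  field_simp

/-- The ratio is congruent to a root of unity of order dividing the index. -/
theorem exists_root_ratio {y : G} (hy : y ∈ Subgroup.centralizer (P : Set G)) :
    ∃ z : ℂ, z ^ N.index = 1 ∧ ModM M ((η : G → ℂ) y / (η : G → ℂ) 1) z := by
  classical
  have hres : IsIrrCharacter N (fun n : N => (η : G → ℂ) n) := by rw [funext hη]; exact θ.2
  set H := N ⊔ Subgroup.zpowers y
  have hNH : N ≤ H := le_sup_left
  have hyH : y ∈ H := Subgroup.mem_sup_right (Subgroup.mem_zpowers y)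
  obtain ⟨η₀, hη₀B, hη₀⟩ := exists_extension_sub hM hd H hNH (comm_quotient_zpowers N y) hθ
  haveI := Fintype.ofFinite H
  haveI := Fintype.ofFinite (N.subgroupOf H)
  have hηH : IsIrrCharacter H (fun h : H => (η : G → ℂ) h) := by
    obtain ⟨m, ρ, hρ, hρη⟩ := η.2
    obtain ⟨l, σ, hσ, hσc⟩ := hres
    let ρN : Representation ℂ N (Fin m → ℂ) := ρ.comp N.subtype
    obtain ⟨e⟩ := nonempty_equiv_of_character_eq σ ρN (hσc.trans (funext fun n => by
      show (η : G → ℂ) n = ρ.character n
      rw [hρη]))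
    haveI hi : ρN.IsIrreducible := isIrreducible_of_equiv e
    let ρH : Representation ℂ H (Fin m → ℂ) := ρ.comp H.subtype
    haveI : ρH.IsIrreducible := by
      haveI : Nontrivial (Fin m → ℂ) := nontrivial_of_isIrreducible ρ
      haveI : Nontrivial (Subrepresentation ρH) :=
        ⟨⊥, ⊤, fun hbt => bot_ne_top (α := Submodule ℂ (Fin m → ℂ))
          (congrArg Subrepresentation.toSubmodule hbt)⟩
      refine ⟨fun S => ?_⟩
      let S' : Subrepresentation ρN :=
        ⟨S.toSubmodule, fun n v hv => S.apply_mem_toSubmodule ⟨(n : G), hNH n.2⟩ hv⟩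
      rcases hi.eq_bot_or_eq_top S' with h | h
      · exact Or.inl (Subrepresentation.toSubmodule_injective
          (congrArg (fun T : Subrepresentation ρN => T.toSubmodule) h :))
      · exact Or.inr (Subrepresentation.toSubmodule_injective
          (congrArg (fun T : Subrepresentation ρN => T.toSubmodule) h :))
    refine ⟨m, ρH, inferInstance, funext fun h => ?_⟩
    show ρ.character h = _
    rw [hρη]
  have hres₀ : IsIrrCharacter (N.subgroupOf H) (fun n : N.subgroupOf H => (η₀ : H → ℂ) n) := by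
    rw [show (fun n : N.subgroupOf H => (η₀ : H → ℂ) n) =
      fun n => (θ : N → ℂ) (Subgroup.subgroupOfEquivOfLe hNH n) from funext fun n => hη₀ ⟨_, n.2⟩]
    exact CharInduce.IsIrr.comp θ.2 (Subgroup.subgroupOfEquivOfLe hNH).toMonoidHom
      (Subgroup.subgroupOfEquivOfLe hNH).surjective
  obtain ⟨l, hlN, hl⟩ := exists_hom_of_extension (N.subgroupOf H) η₀.2 hres₀ hηH fun n => by
    show (η : G → ℂ) ((n : H) : G) = (η₀ : H → ℂ) n
    rw [show (η₀ : H → ℂ) n = (θ : N → ℂ) ⟨_, n.2⟩ from hη₀ ⟨_, n.2⟩, ← hη]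
    rfl
  refine ⟨(l ⟨y, hyH⟩ : ℂ), ?_, ?_⟩
  · rw [← Units.val_pow_eq_pow_val, ← map_pow, hlN _ (Subgroup.mem_subgroupOf.2
      (by rw [Subgroup.coe_pow]; exact Subgroup.pow_index_mem N y)), Units.val_one]
  · have e1 : (η : G → ℂ) y = (η₀ : H → ℂ) ⟨y, hyH⟩ * (l ⟨y, hyH⟩ : ℂ) := congrFun hl ⟨y, hyH⟩
    have e2 : (η : G → ℂ) 1 = (η₀ : H → ℂ) 1 := by
      have := congrFun hl 1
      simpa using this
    rw [e1, e2, mul_div_right_comm]
    have hr := ratio_modM_one hM (hd.subgroupOf H hNH).index hη₀B (y := ⟨y, hyH⟩)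
      (Subgroup.mem_centralizer_iff.2 fun x hx =>
        Subtype.ext (Subgroup.mem_centralizer_iff.1 hy x hx))
    have h2 := hr.mul_right hM (a := (l ⟨y, hyH⟩ : ℂ)) (memLocalRing_of_isIntegral hM
      (IsChar.isIntegral (CharInduce.isCharacter_hom l) _))
    rwa [one_mul] at h2

/-- The characters of the principal block over `θ`. -/
theorem exists_eq_twist :
    ∃ l : G →* ℂˣ, (∀ n ∈ N, l n = 1) ∧ ∀ χ ∈ principalBlock M G,
      classInner (fun n : N => (χ : G → ℂ) n) (θ : N → ℂ) ≠ 0 →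
      (χ : G → ℂ) = fun g => (η : G → ℂ) g * (l g : ℂ) := by
  classical
  have hres : IsIrrCharacter N (fun n : N => (η : G → ℂ) n) := by rw [funext hη]; exact θ.2
  have hm : ¬ p ∣ N.index := hd.index_not_dvd
  have hm0 : N.index ≠ 0 := fun h => hm (h ▸ dvd_zero p)
  have hint : ∀ z : ℂ, z ^ N.index = 1 → IsIntegral ℤ z := fun z hz =>
    IsIntegral.of_pow (Nat.pos_of_ne_zero hm0) (hz ▸ isIntegral_one)
  have huniq : ∀ z w : ℂ, z ^ N.index = 1 → w ^ N.index = 1 → ModM M z w → z = w := by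
    intro z w hz hw h
    have hmem : (⟨z, hint z hz⟩ : AlgInt) - ⟨w, hint w hw⟩ ∈ M :=
      (memLocalIdeal_coe_iff hM _).1 h
    exact congrArg Subtype.val (root_unique hM hm hm (Subtype.ext hz) (Subtype.ext hw) hmem)
  set u : G → ℂ := fun y => (η : G → ℂ) y / (η : G → ℂ) 1 with hu
  have hring : ∀ y ∈ Subgroup.centralizer (P : Set G), MemLocalRing M (u y) := fun y hy =>
    memLocalRing_ratio hM hd.index η hy
  have hu1 : u 1 = 1 := div_self (irr_one_ne_zero η.2)
  have hmul : ∀ y r v : G, y ∈ Subgroup.centralizer (P : Set G) →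
      r ∈ Subgroup.centralizer (P : Set G) → v ∈ Subgroup.centralizer (P : Set G) →
      y * r * v⁻¹ ∈ N → ModM M (u y * u r) (u v) := by
    intro y r v hy hr hv h
    have hv' := inv_mem hv
    have h1 : ModM M (u y * u r * u v⁻¹) 1 := ratio_triple N hM hd hθ η hη hy hr hv' h
    have h2 : ModM M (u v * u v⁻¹) 1 := by
      have := ratio_triple N hM hd hθ η hη hv hv' (one_mem _)
        (by rw [mul_inv_cancel, one_mul]; exact N.one_mem)
      simpa [hu, div_self (irr_one_ne_zero η.2)] using this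
    have h3 : ModM M (u y * u r) (u y * u r * (u v * u v⁻¹)) := by
      have := (h2.mul_left hM (memLocalRing_mul hM (hring y hy) (hring r hr))).symm
      rwa [mul_one] at this
    refine h3.trans hM ?_
    have h4 := h1.mul_left hM (hring v hv)
    rw [mul_one] at h4
    convert h4 using 1
    ring
  choose rep hrepC hrepN using hd.cover
  choose root hroot hcong using fun y : Subgroup.centralizer (P : Set G) =>
    exists_root_ratio N hM hd hθ η hη y.2
  let Y : G ⧸ N → Subgroup.centralizer (P : Set G) := fun q => ⟨rep q.out, hrepC _⟩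
  have hY : ∀ q, ((Y q : G) : G ⧸ N) = q := fun q =>
    (QuotientGroup.eq.2 (hrepN q.out)).symm.trans (QuotientGroup.out_eq' q)
  have hYmul : ∀ a b, (Y a : G) * Y b * (Y (a * b) : G)⁻¹ ∈ N := fun a b => by
    rw [← QuotientGroup.eq_one_iff, QuotientGroup.mk_mul, QuotientGroup.mk_mul,
      QuotientGroup.mk_inv, hY, hY, hY, mul_inv_cancel]
  have hlmul : ∀ a b, root (Y (a * b)) = root (Y a) * root (Y b) := by
    intro a b
    refine huniq _ _ (hroot _) (by rw [mul_pow, hroot, hroot, one_mul]) ?_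
    have h1 := (hcong (Y a)).mul hM (hring _ (Y b).2)
      (memLocalRing_of_isIntegral hM (hint _ (hroot _))) (hcong (Y b))
    exact ((hcong (Y (a * b))).symm.trans hM
      (hmul _ _ _ (Y a).2 (Y b).2 (Y (a * b)).2 (hYmul a b)).symm).trans hM h1
  have hlone : root (Y 1) = 1 := by
    have h := hlmul 1 1
    rw [one_mul] at h
    have h0 : root (Y 1) ≠ 0 := fun h0 => by
      have := hroot (Y 1)
      rw [h0, zero_pow hm0] at this
      exact zero_ne_one this
    exact (mul_left_cancel₀ h0 (h.symm.trans (mul_one _).symm))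
  let lam : G ⧸ N →* ℂ := { toFun := fun q => root (Y q), map_one' := hlone, map_mul' := hlmul }
  refine ⟨(lam.toHomUnits⁻¹).comp (QuotientGroup.mk' N), fun n hn => ?_, fun χ hχ hover => ?_⟩
  · rw [MonoidHom.comp_apply]
    exact (congrArg _ (show QuotientGroup.mk' N n = 1 from (QuotientGroup.eq_one_iff n).2 hn)).trans
      (map_one _)
  haveI : Fintype (G ⧸ N) := Fintype.ofFinite _
  obtain ⟨β, hβ⟩ := exists_eq_mul_inflate N η.2 hres χ.2 (by rw [funext hη]; exact hover)
  have hβl := eq_hom_of_ratio hM (by rw [← Subgroup.index_eq_card]; exact hm) β lam.toHomUnits⁻¹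
    fun q => by
      let y : G := Y q
      have hy : y ∈ Subgroup.centralizer (P : Set G) := (Y q).2
      have hyq : (y : G ⧸ N) = q := hY q
      have hβr : MemLocalRing M ((β : G ⧸ N → ℂ) q / (β : G ⧸ N → ℂ) 1) := by
        have := memLocalRing_ratio hM hd.index ⟨inflate N β, isIrr_inflate N β⟩ hy
        simpa [inflate, hyq] using this
      have h1 : ModM M (u y * ((β : G ⧸ N → ℂ) q / (β : G ⧸ N → ℂ) 1)) 1 := by
        have h := ratio_modM_one hM hd.index hχ hy
        rw [hβ] at h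
        convert h using 1
        simp only [hu, inflate, hyq, QuotientGroup.mk_one]
        rw [div_mul_div_comm]
      have h2 := ((hcong (Y q)).mul_right hM hβr).symm.trans hM h1
      have hl0 : lam q * ((lam.toHomUnits⁻¹ q : ℂˣ) : ℂ) = 1 := by
        rw [MonoidHom.inv_apply, ← MonoidHom.coe_toHomUnits lam q, Units.mul_inv]
      have h3 := h2.mul_left hM (a := ((lam.toHomUnits⁻¹ q : ℂˣ) : ℂ))
        (memLocalRing_of_isIntegral hM
          (IsChar.isIntegral (CharInduce.isCharacter_hom lam.toHomUnits⁻¹) q))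
      rw [mul_one] at h3
      refine Eq.mp (congrArg (fun z => ModM M z _) ?_) h3
      rw [← mul_assoc, mul_comm _ (root (Y q))]
      show lam q * _ * _ = _
      rw [hl0, one_mul]
  rw [hβ]
  funext g
  simp only [inflate, hβl]
  rfl

end Cfsg.Agent.H81
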