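import Cfsg.Agent.H81.Power
import Cfsg.Agent.H81.Gallagher
import Cfsg.Agent.BlockBasic.Center
import Cfsg.Agent.H35.Extend
import Cfsg.Agent.PGroups.Basic

/-!
# Galois-fixed characters over a fixed character, odd index
-/

open scoped ComplexConjugate
open Cfsg.Agent.CharBasic Cfsg.Agent.CharInduce

namespace Cfsg.Agent.H81

universe u

variable {G : Type u} [Group G] [Fintype G] (N : Subgroup G) [N.Normal]

/-- `z ↦ z ^ (k + 1)` kills an odd quotient. -/
theorem pow_succ_mem_of_odd_index (hidx : Odd N.index) {k : ℕ}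
    (hk₂ : ∀ g : G, Odd (orderOf g) → g ^ k = g⁻¹) (g : G) : g ^ (k + 1) ∈ N := by
  obtain ⟨a, m, hm, ham⟩ := Nat.exists_eq_pow_mul_and_not_dvd (orderOf_pos g).ne' 2 (by norm_num)
  have hodd : Odd (orderOf (g ^ 2 ^ a)) := by
    refine Odd.of_dvd_nat (n := m) (Nat.odd_iff.2 (Nat.two_dvd_ne_zero.1 hm))
      (orderOf_dvd_of_pow_eq_one ?_)
    rw [← pow_mul, ← ham, pow_orderOf_eq_one]
  have h1 : (g ^ (k + 1)) ^ 2 ^ a = 1 := by
    rw [← pow_mul, mul_comm, pow_mul, pow_succ, hk₂ _ hodd, inv_mul_cancel]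
  rw [← QuotientGroup.eq_one_iff, ← orderOf_eq_one_iff]
  have h2 : orderOf ((g ^ (k + 1) : G) : G ⧸ N) ∣ 2 ^ a := orderOf_dvd_of_pow_eq_one (by
    rw [← QuotientGroup.mk_pow, h1, QuotientGroup.mk_one])
  have h3 : orderOf ((g ^ (k + 1) : G) : G ⧸ N) ∣ N.index := by
    rw [Subgroup.index_eq_card]; exact orderOf_dvd_natCard _
  exact Nat.eq_one_of_dvd_coprimes ((Nat.coprime_two_left.2 hidx).pow_left a) h2 h3

/-- A real element of an odd quotient is trivial. -/
theorem mem_of_conj_eq_pow (hidx : Odd N.index) {k : ℕ}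
    (hk₂ : ∀ g : G, Odd (orderOf g) → g ^ k = g⁻¹) {x g n : G} (hn : n ∈ N)
    (h : x * g * x⁻¹ = n * g ^ k) : g ∈ N := by
  have hq : (x : G ⧸ N) * g * (x : G ⧸ N)⁻¹ = (g : G ⧸ N)⁻¹ := by
    have h1 : (g : G ⧸ N) ^ k * g = 1 := by
      rw [← pow_succ, ← QuotientGroup.mk_pow, QuotientGroup.eq_one_iff]
      exact pow_succ_mem_of_odd_index N hidx hk₂ g
    rw [← eq_inv_of_mul_eq_one_left h1, ← QuotientGroup.mk_pow, ← QuotientGroup.mk_inv,
      ← QuotientGroup.mk_mul, ← QuotientGroup.mk_mul, h, QuotientGroup.mk_mul,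
      (QuotientGroup.eq_one_iff n).2 hn, one_mul]
  generalize (x : G ⧸ N) = a, hb : (g : G ⧸ N) = b at hq
  have hodd : Odd (Nat.card (G ⧸ N)) := by rw [← Subgroup.index_eq_card]; exact hidx
  have hsq : Commute (a ^ 2) b := by
    refine mul_inv_eq_iff_eq_mul.1 ?_
    calc a ^ 2 * b * (a ^ 2)⁻¹ = a * (a * b * a⁻¹) * a⁻¹ := by
          rw [pow_two, mul_inv_rev]; simp only [mul_assoc]
      _ = b := by
          rw [hq, ← inv_inv b]
          have h2 := congrArg Inv.inv hq
          simp only [mul_inv_rev, inv_inv, mul_assoc] at h2 ⊢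
          exact h2
  obtain ⟨j, hj⟩ := exists_pow_eq_self_of_coprime
    ((Nat.coprime_two_left.2 hodd).coprime_dvd_right (orderOf_dvd_natCard a))
  have hab : a * b * a⁻¹ = b := by
    rw [mul_inv_eq_iff_eq_mul]
    exact hj ▸ (hsq.pow_left j).eq
  rw [hab, ← mul_eq_one_iff_eq_inv, ← pow_two] at hq
  rw [← QuotientGroup.eq_one_iff, hb, ← orderOf_eq_one_iff]
  exact Nat.eq_one_of_dvd_coprimes (Nat.coprime_two_left.2 hodd) (orderOf_dvd_of_pow_eq_one hq)
    (orderOf_dvd_natCard b)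

variable [Fintype N] {θ : N → ℂ} (hθ : IsIrrCharacter N θ) (hinv : ∀ x : G, conjFun N θ x = θ)

include hθ hinv in
theorem res_eq_mul {χ : G → ℂ} (hχ : IsIrrCharacter G χ)
    (h : classInner (fun n : N => χ n) θ ≠ 0) (n : N) :
    χ n = classInner (fun n : N => χ n) θ * θ n := by
  classical
  have h1 := clifford N hχ hθ h
  have himg : Finset.univ.image (conjFun N θ) = {θ} := by
    ext ψ
    simp only [Finset.mem_image, Finset.mem_univ, true_and, Finset.mem_singleton, hinv]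
    exact ⟨fun ⟨_, h⟩ => h.symm, fun h => ⟨1, h.symm⟩⟩
  rw [himg, Finset.sum_singleton] at h1
  exact congrFun h1 n

include hθ hinv in
/-- `∑_χ ⟨χ_N, θ⟩ / χ(1) · χ(a) conj χ(b)` is a sum over the coset of `a`. -/
theorem kernel_over (a b : G) :
    ∑ χ : IrrCharacter G, classInner (fun n : N => (χ : G → ℂ) n) θ / (χ : G → ℂ) 1 *
        ((χ : G → ℂ) a * conj ((χ : G → ℂ) b)) =
      (Nat.card N : ℂ)⁻¹ * ∑ n : N, conj (θ n) *
        (Nat.card {x : G // x * b * x⁻¹ = n * a} : ℂ) := by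
  classical
  simp only [← second_orthogonality_count, Finset.mul_sum]
  rw [Finset.sum_comm]
  refine Finset.sum_congr rfl fun χ _ => ?_
  let c : G → ℂ := extendByZero N (fun n => conj (θ n))
  have hc : IsClassFunction G c := by
    intro g x
    by_cases hg : g ∈ N
    · rw [show c (x * g * x⁻¹) = conjFun N (fun n => conj (θ n)) x ⟨g, hg⟩ from
        extendByZero_conjFun N _ x ⟨g, hg⟩]
      show conj (conjFun N θ x ⟨g, hg⟩) = c g
      rw [hinv, ← extendByZero_of_mem (fun n => conj (θ n)) hg]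
    · show extendByZero N _ _ = extendByZero N _ _
      rw [extendByZero_of_not_mem _ hg, extendByZero_of_not_mem]
      exact fun h => hg (by simpa [mul_assoc] using Subgroup.Normal.conj_mem ‹N.Normal› _ h x⁻¹)
  have hω : BlockBasic.omega (χ : G → ℂ) (BlockBasic.ofFun c) =
      (Nat.card N : ℂ) * classInner (fun n : N => (χ : G → ℂ) n) θ / (χ : G → ℂ) 1 := by
    rw [BlockBasic.omega, classInner_def]
    congr 1
    simp only [BlockBasic.chiLin, BlockBasic.coeff_ofFun, c]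
    rw [sum_extendByZero_mul, ← mul_assoc, mul_inv_cancel₀ (card_ne_zero_complex N), one_mul]
    exact Finset.sum_congr rfl fun n _ => mul_comm _ _
  have hlin := BlockBasic.chiLin_central_mul χ.2 (BlockBasic.isCentralElt_ofFun hc)
    (MonoidAlgebra.single a 1)
  have hl : BlockBasic.chiLin (χ : G → ℂ) (BlockBasic.ofFun c * MonoidAlgebra.single a 1) =
      ∑ n : N, conj (θ n) * (χ : G → ℂ) (n * a) := by
    simp only [BlockBasic.chiLin, MonoidAlgebra.coeff_mul_single_apply, BlockBasic.coeff_ofFun, mul_one]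
    rw [← sum_extendByZero_mul (fun n => conj (θ n)) fun x => (χ : G → ℂ) (x * a)]
    refine Fintype.sum_equiv (Equiv.mulRight a⁻¹) _ _ fun y => ?_
    simp [c]
  rw [hl, hω, BlockBasic.chiLin_single, one_mul] at hlin
  calc _ = (Nat.card N : ℂ)⁻¹ * ((Nat.card N : ℂ) *
        classInner (fun n : N => (χ : G → ℂ) n) θ / (χ : G → ℂ) 1 * (χ : G → ℂ) a) *
        conj ((χ : G → ℂ) b) := by
        have := card_ne_zero_complex N
        field_simp
    _ = _ := by
        rw [← hlin, Finset.mul_sum, Finset.sum_mul]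
        exact Finset.sum_congr rfl fun n _ => by ring

include hθ hinv in
/-- There is exactly one fixed irreducible character over `θ`. -/
theorem card_fixed_over (hidx : Odd N.index) {k : ℕ} (hk : Nat.Coprime k (Nat.card G))
    (hk₂ : ∀ g : G, Odd (orderOf g) → g ^ k = g⁻¹) (hfix : ∀ n : N, θ (n ^ k) = θ n) :
    Nat.card {χ : IrrCharacter G // classInner (fun n : N => (χ : G → ℂ) n) θ ≠ 0 ∧
      ∀ g : G, (χ : G → ℂ) (g ^ k) = (χ : G → ℂ) g} = 1 := by
  classical
  obtain ⟨d, hd0, hd⟩ := IsIrr.exists_degree hθ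
  have hd' : (d : ℂ) ≠ 0 := by exact_mod_cast hd0.ne'
  set W : IrrCharacter G → ℂ := fun χ => classInner (fun n : N => (χ : G → ℂ) n) θ / (χ : G → ℂ) 1
  set e : IrrCharacter G → ℂ := fun χ => classInner (fun n : N => (χ : G → ℂ) n) θ
  have hWe : ∀ χ, e χ ≠ 0 → (χ : G → ℂ) 1 = e χ * d ∧ W χ = 1 / d := by
    intro χ hχ
    have h1 := res_eq_mul N hθ hinv χ.2 hχ 1
    rw [hd, Subgroup.coe_one] at h1
    refine ⟨h1, ?_⟩
    show e χ / (χ : G → ℂ) 1 = 1 / d
    rw [h1, ← div_div, div_self hχ]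
  have hcard : ∀ (χ : IrrCharacter G), classInner ((powIrr hk χ : IrrCharacter G) : G → ℂ)
      (χ : G → ℂ) = if (∀ g : G, (χ : G → ℂ) (g ^ k) = (χ : G → ℂ) g) then 1 else 0 := by
    intro χ
    rw [classInner_irr (powIrr hk χ).2 χ.2]
    exact if_congr ⟨fun h g => congrFun h g, fun h => funext h⟩ rfl rfl
  -- first evaluation
  have hX1 : ∑ χ : IrrCharacter G, W χ * classInner ((powIrr hk χ : IrrCharacter G) : G → ℂ) (χ : G → ℂ)
      = ((Nat.card {χ : IrrCharacter G // e χ ≠ 0 ∧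
          ∀ g : G, (χ : G → ℂ) (g ^ k) = (χ : G → ℂ) g} : ℕ) : ℂ) / d := by
    rw [Nat.card_eq_fintype_card, Fintype.card_subtype, div_eq_mul_inv, Finset.natCast_card_filter,
      Finset.sum_mul]
    refine Finset.sum_congr rfl fun χ _ => ?_
    rw [hcard]
    by_cases hχ : e χ = 0
    · have : W χ = 0 := by show e χ / _ = 0; rw [hχ, zero_div]
      simp [this, hχ]
    · rw [(hWe χ hχ).2]
      split_ifs <;> simp_all
  -- second evaluation
  have hzero : ∀ g : G, g ∉ N →
      ∑ χ : IrrCharacter G, W χ * ((χ : G → ℂ) (g ^ k) * conj ((χ : G → ℂ) g)) = 0 := by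
    intro g hg
    rw [kernel_over N hθ hinv]
    refine mul_eq_zero_of_right _ (Finset.sum_eq_zero fun n _ => ?_)
    haveI : IsEmpty {x : G // x * g * x⁻¹ = n * g ^ k} :=
      ⟨fun x => hg (mem_of_conj_eq_pow N hidx hk₂ n.2 x.2)⟩
    simp
  have hin : ∀ χ : IrrCharacter G, ∑ g ∈ Finset.univ.filter (· ∈ N),
      W χ * ((χ : G → ℂ) (g ^ k) * conj ((χ : G → ℂ) g)) = (Nat.card N : ℂ) * (e χ * e χ / d) := by
    intro χ
    by_cases hχ : e χ = 0
    · have hW : W χ = 0 := by show e χ / _ = 0; rw [hχ, zero_div]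
      simp [hW, hχ]
    obtain ⟨m, hm⟩ := classInner_isChar_nat (IsChar.res (IsIrr.isCharacter χ.2) N)
      (IsIrr.isCharacter hθ)
    have hm' : e χ = m := hm
    have hr : ∀ n : N, (χ : G → ℂ) n = e χ * θ n := res_eq_mul N hθ hinv χ.2 hχ
    rw [Finset.sum_subtype (Finset.univ.filter (· ∈ N)) (p := (· ∈ N)) (F := inferInstance) (fun x => by simp)
      (fun g => W χ * ((χ : G → ℂ) (g ^ k) * conj ((χ : G → ℂ) g)))]
    have hsum : ∑ n : N, θ n * conj (θ n) = (Nat.card N : ℂ) := by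
      have h := classInner_irr_self hθ
      rwa [classInner_def, inv_mul_eq_one₀ (card_ne_zero_complex N), eq_comm] at h
    have hterm : ∀ n : N, W χ * ((χ : G → ℂ) ((n : G) ^ k) * conj ((χ : G → ℂ) n)) =
        (e χ * e χ / d) * (θ n * conj (θ n)) := by
      intro n
      rw [← Subgroup.coe_pow, hr, hr, hfix, (hWe χ hχ).2, map_mul, hm', Complex.conj_natCast]
      ring
    rw [mul_comm (Nat.card N : ℂ), ← hsum, Finset.mul_sum]
    refine Finset.sum_congr ?_ fun n _ => hterm n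
    ext; simp
  have hsumsq : ∑ χ : IrrCharacter G, e χ * e χ = (N.index : ℂ) := by
    have h := kernel_over N hθ hinv (1 : G) 1
    have hl : ∀ χ : IrrCharacter G, classInner (fun n : N => (χ : G → ℂ) n) θ / (χ : G → ℂ) 1 *
        ((χ : G → ℂ) 1 * conj ((χ : G → ℂ) 1)) = (d : ℂ) * (e χ * e χ) := by
      intro χ
      obtain ⟨m, -, hm⟩ := IsIrr.exists_degree χ.2
      show e χ / _ * _ = _
      by_cases hχ : e χ = 0
      · simp [hχ]
      · have h1 := (hWe χ hχ).1
        rw [hm, Complex.conj_natCast]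
        rw [hm] at h1
        rw [h1]
        field_simp
    rw [Finset.sum_congr rfl fun χ _ => hl χ, ← Finset.mul_sum] at h
    rw [Finset.sum_eq_single (1 : N)] at h
    · rw [hd, Complex.conj_natCast, show Nat.card {x : G // x * 1 * x⁻¹ = ((1 : N) : G) * 1} =
          Nat.card G from Nat.card_congr (Equiv.subtypeUnivEquiv fun x => by simp)] at h
      rw [← N.index_mul_card, Nat.cast_mul] at h
      have := card_ne_zero_complex N
      refine mul_left_cancel₀ hd' (h.trans ?_)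
      field_simp
    · intro n _ hn
      haveI : IsEmpty {x : G // x * 1 * x⁻¹ = (n : G) * 1} :=
        ⟨fun x => hn (Subtype.ext (by simpa using x.2.symm))⟩
      rw [Nat.card_of_isEmpty]
      simp
    · simp
  have hX2 : ∑ χ : IrrCharacter G, W χ * classInner ((powIrr hk χ : IrrCharacter G) : G → ℂ) (χ : G → ℂ)
      = 1 / d := by
    simp only [classInner_def, ← mul_assoc, mul_comm (W _) ((Nat.card G : ℂ)⁻¹)]
    simp only [mul_assoc, ← Finset.mul_sum]
    rw [show (∑ χ : IrrCharacter G, W χ * ∑ g : G,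
        ((powIrr hk χ : IrrCharacter G) : G → ℂ) g * conj ((χ : G → ℂ) g)) =
        ∑ χ : IrrCharacter G, (Nat.card N : ℂ) * (e χ * e χ / d) from ?_]
    · rw [← Finset.mul_sum, ← Finset.sum_div, hsumsq, ← N.index_mul_card, Nat.cast_mul]
      have h1 := card_ne_zero_complex N
      have h2 : (N.index : ℂ) ≠ 0 := by exact_mod_cast N.index_ne_zero_of_finite
      field_simp
    · simp only [Finset.mul_sum, show ∀ (χ : IrrCharacter G) (x : G),
        ((powIrr hk χ : IrrCharacter G) : G → ℂ) x = (χ : G → ℂ) (x ^ k) from fun _ _ => rfl]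
      rw [Finset.sum_comm, ← Finset.sum_filter_add_sum_filter_not Finset.univ (· ∈ N),
        Finset.sum_eq_zero (s := Finset.univ.filter (fun g => ¬ g ∈ N))
          (fun g hg => hzero g (Finset.mem_filter.1 hg).2), add_zero, Finset.sum_comm]
      exact Finset.sum_congr rfl fun χ _ => hin χ
  have := hX1.symm.trans hX2
  rw [div_left_inj' hd'] at this
  exact_mod_cast this

include hθ hinv in
theorem eq_of_fixed_over (hidx : Odd N.index) {k : ℕ} (hk : Nat.Coprime k (Nat.card G))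
    (hk₂ : ∀ g : G, Odd (orderOf g) → g ^ k = g⁻¹) (hfix : ∀ n : N, θ (n ^ k) = θ n)
    {χ ψ : G → ℂ} (hχ : IsIrrCharacter G χ) (hψ : IsIrrCharacter G ψ)
    (hχN : classInner (fun n : N => χ n) θ ≠ 0) (hψN : classInner (fun n : N => ψ n) θ ≠ 0)
    (hχk : ∀ g : G, χ (g ^ k) = χ g) (hψk : ∀ g : G, ψ (g ^ k) = ψ g) : χ = ψ := by
  haveI := (Nat.card_eq_one_iff_unique.1 (card_fixed_over N hθ hinv hidx hk hk₂ hfix)).1
  have h := Subsingleton.elim (α := {φ : IrrCharacter G //
    classInner (fun n : N => (φ : G → ℂ) n) θ ≠ 0 ∧ ∀ g : G, (φ : G → ℂ) (g ^ k) = (φ : G → ℂ) g})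
    ⟨⟨χ, hχ⟩, hχN, hχk⟩ ⟨⟨ψ, hψ⟩, hψN, hψk⟩
  exact congrArg (fun z => ((z : IrrCharacter G) : G → ℂ)) (congrArg Subtype.val h)

include hθ in
/-- An extension can be moved to a fixed one. -/
theorem exists_fixed_of_extension (hidx : Odd N.index) {k : ℕ} (hk : Nat.Coprime k (Nat.card G))
    (hk₂ : ∀ g : G, Odd (orderOf g) → g ^ k = g⁻¹) (hfix : ∀ n : N, θ (n ^ k) = θ n)
    {η : G → ℂ} (hη : IsIrrCharacter G η) (hres : ∀ n : N, η n = θ n) :
    ∃ χ : G → ℂ, IsIrrCharacter G χ ∧ (∀ n : N, χ n = θ n) ∧ ∀ g : G, χ (g ^ k) = χ g := by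
  classical
  have hres' : IsIrrCharacter N (fun n : N => η n) := by rw [funext hres]; exact hθ
  obtain ⟨l, hlN, hl⟩ := exists_hom_of_extension N hη hres' (isIrr_comp_pow hk hη) fun n => by
    show η ((n : G) ^ k) = η n
    rw [← Subgroup.coe_pow, hres, hres, hfix]
  obtain ⟨c, hc⟩ : ∃ c, N.index + 1 = 2 * c := by
    obtain ⟨j, hj⟩ := hidx
    exact ⟨j + 1, by omega⟩
  have hlm : ∀ g : G, l g ^ N.index = 1 := fun g => by
    rw [← map_pow]; exact hlN _ (Subgroup.pow_index_mem N g)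
  let μ : G →* ℂˣ := l ^ c
  have hμN : ∀ n ∈ N, μ n = 1 := fun n hn => by simp [μ, hlN n hn]
  have hirr : IsIrrCharacter (G ⧸ N)
      (fun q => ((QuotientGroup.lift N μ (fun n hn => hμN n hn) q : ℂˣ) : ℂ)) :=
    haveI := Fintype.ofFinite (G ⧸ N)
    CharInduce.isIrrCharacter_hom _
  have hnew := isIrr_mul_inflate N hη hres' ⟨_, hirr⟩
  refine ⟨fun g => η g * (μ g : ℂ), hnew, fun n => ?_, fun g => ?_⟩
  · show η n * (μ n : ℂ) = θ n
    rw [hμN n n.2, Units.val_one, mul_one, hres]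
  have hsq : μ g * μ g = l g := by
    show l g ^ c * l g ^ c = l g
    rw [← pow_add, ← two_mul, ← hc, pow_succ, hlm, one_mul]
  have hk1 : μ g ^ (k + 1) = 1 := by
    rw [← map_pow]; exact hμN _ (pow_succ_mem_of_odd_index N hidx hk₂ g)
  show η (g ^ k) * (μ (g ^ k) : ℂ) = η g * (μ g : ℂ)
  rw [show η (g ^ k) = η g * (l g : ℂ) from congrFun hl g, mul_assoc, ← Units.val_mul, ← hsq,
    map_pow, mul_assoc (μ g) (μ g), ← pow_succ', hk1, mul_one]

omit [Fintype N] in
/-- Transport to a subgroup containing `N`. -/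
theorem res_data {H : Subgroup G} (hNH : N ≤ H) {θ : N → ℂ} (hθ : IsIrrCharacter N θ)
    (hinv : ∀ x : G, conjFun N θ x = θ) {k : ℕ} (hfix : ∀ n : N, θ (n ^ k) = θ n) :
    IsIrrCharacter (N.subgroupOf H) (fun n => θ (Subgroup.subgroupOfEquivOfLe hNH n)) ∧
    (∀ x : H, conjFun (N.subgroupOf H) (fun n => θ (Subgroup.subgroupOfEquivOfLe hNH n)) x =
      fun n => θ (Subgroup.subgroupOfEquivOfLe hNH n)) ∧
    ∀ n : N.subgroupOf H, θ (Subgroup.subgroupOfEquivOfLe hNH (n ^ k)) =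
      θ (Subgroup.subgroupOfEquivOfLe hNH n) := by
  refine ⟨CharInduce.IsIrr.comp hθ (Subgroup.subgroupOfEquivOfLe hNH).toMonoidHom
    (Subgroup.subgroupOfEquivOfLe hNH).surjective, fun x => funext fun n => ?_, fun n => ?_⟩
  · exact congrFun (hinv x) ⟨_, n.2⟩
  · rw [map_pow, hfix]

/-- Extension through a quotient of odd prime power order. -/
theorem exists_fixed_extension_prime_pow (p : ℕ) [Fact p.Prime] (j : ℕ) :
    ∀ (G : Type u) [Group G] [Fintype G] (N : Subgroup G) [N.Normal] (θ : N → ℂ),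
      IsIrrCharacter N θ → (∀ x : G, conjFun N θ x = θ) → N.index = p ^ j → Odd N.index →
      ∀ k : ℕ, Nat.Coprime k (Nat.card G) → (∀ g : G, Odd (orderOf g) → g ^ k = g⁻¹) →
      (∀ n : N, θ (n ^ k) = θ n) →
      ∃ χ : G → ℂ, IsIrrCharacter G χ ∧ (∀ n : N, χ n = θ n) ∧ ∀ g : G, χ (g ^ k) = χ g := by
  induction j with
  | zero =>
    intro G _ _ N _ θ hθ _ hN _ k _ _ hfix
    rw [pow_zero, Subgroup.index_eq_one] at hN
    have hmem : ∀ g : G, g ∈ N := fun g => hN ▸ Subgroup.mem_top g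
    let f : G →* N := MonoidHom.id G |>.codRestrict N hmem
    exact ⟨fun g => θ (f g), CharInduce.IsIrr.comp hθ f fun n => ⟨n, Subtype.ext rfl⟩,
      fun n => congrArg θ (Subtype.ext rfl),
      fun g => (congrArg θ (map_pow f g k)).trans (hfix _)⟩
  | succ j ih =>
    intro G _ _ N _ θ hθ hinv hN hodd k hk hk₂ hfix
    classical
    have hcard : Nat.card (G ⧸ N) = p ^ (j + 1) := by rw [← Subgroup.index_eq_card, hN]
    obtain ⟨K, hK⟩ := Sylow.exists_subgroup_card_pow_prime (G := G ⧸ N) p (n := j)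
      (hcard ▸ pow_dvd_pow p (Nat.le_succ j))
    have hKi : K.index = p := by
      have h := K.card_mul_index
      rw [hK, hcard, pow_succ] at h
      exact Nat.eq_of_mul_eq_mul_left (pow_pos (Fact.out : p.Prime).pos j) h
    haveI : K.Normal := PGroups.normal_of_index_eq (IsPGroup.of_card hcard) hKi
    let L := K.comap (QuotientGroup.mk' N)
    haveI : L.Normal := inferInstanceAs (K.comap (QuotientGroup.mk' N)).Normal
    have hLi : L.index = p := by
      rw [Subgroup.index_comap_of_surjective _ (QuotientGroup.mk'_surjective N), hKi]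
    have hNL : N ≤ L := fun n hn => by
      show (n : G ⧸ N) ∈ K
      rw [(QuotientGroup.eq_one_iff n).2 hn]; exact K.one_mem
    haveI : (N.subgroupOf L).Normal := inferInstance
    have hrel : (N.subgroupOf L).index = p ^ j := by
      have h := Subgroup.relIndex_mul_index hNL
      rw [hLi, hN, pow_succ] at h
      exact Nat.eq_of_mul_eq_mul_right (Fact.out : p.Prime).pos h
    have hoddp : Odd (p : ℕ) := by
      rw [hN, Nat.odd_pow_iff (Nat.succ_ne_zero j)] at hodd; exact hodd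
    obtain ⟨hθ', hinv', hfix'⟩ := res_data N hNL hθ hinv hfix
    haveI := Fintype.ofFinite L
    haveI := Fintype.ofFinite (N.subgroupOf L)
    have hkL := coprime_subgroup hk L
    have hk₂L : ∀ g : L, Odd (orderOf g) → g ^ k = g⁻¹ := fun g hg => Subtype.ext
      (by simpa using hk₂ (g : G) (by rwa [Subgroup.orderOf_coe]))
    have hoddL : Odd (N.subgroupOf L).index := by rw [hrel]; exact hoddp.pow
    obtain ⟨η, hη, hηN, hηk⟩ := ih L (N.subgroupOf L) _ hθ' hinv' hrel hoddL k hkL hk₂L hfix'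
    have hover : ∀ (φ : L → ℂ), (∀ n : N, φ ⟨n, hNL n.2⟩ = θ n) →
        classInner (fun n : N.subgroupOf L => φ n)
          (fun n => θ (Subgroup.subgroupOfEquivOfLe hNL n)) ≠ 0 := by
      intro φ hφ
      rw [show (fun n : N.subgroupOf L => φ n) = fun n => θ (Subgroup.subgroupOfEquivOfLe hNL n)
        from funext fun n => hφ ⟨_, n.2⟩, classInner_irr_self hθ']
      exact one_ne_zero
    have hηN' : ∀ n : N, η ⟨n, hNL n.2⟩ = θ n := fun n => hηN ⟨⟨n, hNL n.2⟩, n.2⟩
    have hηinv : ∀ x : G, conjFun L η x = η := by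
      intro x
      refine eq_of_fixed_over (N.subgroupOf L) hθ' hinv' hoddL hkL hk₂L hfix'
        (isIrrCharacter_conjFun L hη x) hη (hover _ fun n => ?_) (hover _ hηN') (fun g => ?_) hηk
      · show η ⟨x * n * x⁻¹, _⟩ = θ n
        rw [← congrFun (hinv x) n]
        exact hηN' ⟨_, Subgroup.Normal.conj_mem ‹N.Normal› _ n.2 x⟩
      · rw [← congrFun (conjFun_comp_pow η x k) g, funext hηk]
    obtain ⟨m, ρ, hρ, hρη⟩ := hη
    obtain ⟨χ₀, hχ₀, hχ₀L⟩ := H35.Extend.exists_extension_cyclic (N := L) ρ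
      (fun g l => by rw [hρη]; exact congrFun (hηinv g) l)
      (isCyclic_of_prime_card (p := p) (by rw [← Subgroup.index_eq_card, hLi]))
    obtain ⟨χ, hχ, hχL, hχk⟩ := exists_fixed_of_extension L ⟨m, ρ, hρ, hρη⟩
      (by rw [hLi]; exact hoddp) hk hk₂ hηk hχ₀ (fun l => by rw [hχ₀L, hρη])
    exact ⟨χ, hχ, fun n => (hχL ⟨n, hNL n.2⟩).trans (hηN' n), hχk⟩

include hθ hinv in
/-- An invariant fixed character of a normal subgroup of odd index has a fixed extension. -/
theorem exists_fixed_extension (hidx : Odd N.index) {k : ℕ} (hk : Nat.Coprime k (Nat.card G))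
    (hk₂ : ∀ g : G, Odd (orderOf g) → g ^ k = g⁻¹) (hfix : ∀ n : N, θ (n ^ k) = θ n) :
    ∃ χ : G → ℂ, IsIrrCharacter G χ ∧ (∀ n : N, χ n = θ n) ∧ ∀ g : G, χ (g ^ k) = χ g := by
  classical
  obtain ⟨m, ρ, hρ, hρθ⟩ := hθ
  obtain ⟨χ₀, hχ₀, hχ₀N⟩ := H35.Extend.exists_extension_local (N := N) ρ
    (fun g n => by rw [hρθ]; exact congrFun (hinv g) n) (fun p hp => by
      haveI : Fact p.Prime := ⟨hp⟩
      obtain ⟨Q⟩ : Nonempty (Sylow p (G ⧸ N)) := inferInstance
      let P := (Q : Subgroup (G ⧸ N)).comap (QuotientGroup.mk' N)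
      have hNP : N ≤ P := fun n hn => by
        show (n : G ⧸ N) ∈ (Q : Subgroup (G ⧸ N))
        rw [(QuotientGroup.eq_one_iff n).2 hn]; exact one_mem _
      obtain ⟨j, hj⟩ := IsPGroup.iff_card.1 Q.isPGroup'
      have hPi : P.index = (Q : Subgroup (G ⧸ N)).index :=
        Subgroup.index_comap_of_surjective _ (QuotientGroup.mk'_surjective N)
      have hrel : (N.subgroupOf P).index = p ^ j := by
        have h := Subgroup.relIndex_mul_index hNP
        rw [hPi, Subgroup.index_eq_card (H := N), ← (Q : Subgroup (G ⧸ N)).card_mul_index, hj] at h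
        exact Nat.eq_of_mul_eq_mul_right
          (Nat.pos_of_ne_zero Subgroup.index_ne_zero_of_finite) h
      obtain ⟨hθ', hinv', hfix'⟩ := res_data N hNP ⟨m, ρ, hρ, hρθ⟩ hinv hfix
      haveI := Fintype.ofFinite P
      obtain ⟨η, hη, hηN, -⟩ := exists_fixed_extension_prime_pow p j P (N.subgroupOf P) _ hθ' hinv'
        hrel (by rw [hrel]; exact hidx.of_dvd_nat (by
          rw [← hrel]; exact Subgroup.relIndex_dvd_index_of_normal N P)) k (coprime_subgroup hk P)
        (fun g hg => Subtype.ext (by simpa using hk₂ (g : G) (by rwa [Subgroup.orderOf_coe]))) hfix'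
      obtain ⟨l, σ, hσ, rfl⟩ := hη
      obtain ⟨σ', hσ'⟩ := H35.Extend.exists_conj_restrict (Subgroup.inclusion hNP) ρ σ
        (fun a => by rw [hρθ]; exact hηN ⟨⟨a, hNP a.2⟩, a.2⟩)
      exact ⟨P, hNP, σ', fun h => Q.not_dvd_index (hPi ▸ h), hσ'⟩)
  exact exists_fixed_of_extension N ⟨m, ρ, hρ, hρθ⟩ hidx hk hk₂ hfix hχ₀
    (fun n => by rw [hχ₀N, hρθ])

end Cfsg.Agent.H81
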