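import Cfsg.Agent.CharBasic.Orth
import Mathlib.NumberTheory.Cyclotomic.Gal
import Mathlib.RingTheory.Norm.Transitivity
import Mathlib.RingTheory.IntegralClosure.IntegrallyClosed
import Mathlib.RingTheory.RootsOfUnity.Complex
import Mathlib.Analysis.SpecialFunctions.Log.Basic

/-!
# The sum of `‖χ‖²` over the generators of a cyclic subgroup
-/

open Module

namespace Cfsg.Agent.H81

/-- The product of an integer combination of roots of unity over its Galois conjugates is
a rational integer, non-zero if the combination is. -/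
theorem one_le_norm_prod_rootsum {n m : ℕ} [NeZero n] {ζ : ℂ} (hζ : IsPrimitiveRoot ζ n)
    (e : Fin m → ℕ) {k : ℕ} (hk : Nat.Coprime k n) (hne : ∑ i, (ζ ^ k) ^ e i ≠ 0) :
    1 ≤ ‖∏ η ∈ primitiveRoots n ℂ, ∑ i, η ^ e i‖ := by
  classical
  haveI : NeZero ((n : ℕ) : ℚ) := ⟨by exact_mod_cast NeZero.ne n⟩
  let K := CyclotomicField n ℚ
  haveI : IsCyclotomicExtension {n} ℚ K := CyclotomicField.isCyclotomicExtension n ℚ
  have hzK := IsCyclotomicExtension.zeta_spec n ℚ K
  set z := IsCyclotomicExtension.zeta n ℚ K with hz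
  haveI : FiniteDimensional ℚ K := IsCyclotomicExtension.finiteDimensional {n} ℚ K
  have hirr : Irreducible (Polynomial.cyclotomic n ℚ) :=
    Polynomial.cyclotomic.irreducible_rat (NeZero.pos n)
  let x : K := ∑ i, z ^ e i
  have hprod : ∏ σ : K →ₐ[ℚ] ℂ, σ x = ∏ η ∈ primitiveRoots n ℂ, ∑ i, η ^ e i := by
    rw [← Finset.prod_coe_sort (primitiveRoots n ℂ) fun η => ∑ i, η ^ e i]
    refine Fintype.prod_equiv (hzK.embeddingsEquivPrimitiveRoots ℂ hirr) _ _ fun σ => ?_
    simp [x, map_sum, hz]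
  have hnorm := Algebra.norm_eq_prod_embeddings ℚ ℂ x
  have hxint : IsIntegral ℤ x :=
    IsIntegral.sum _ fun i _ => IsIntegral.pow (hzK.isIntegral (NeZero.pos n)) _
  obtain ⟨N, hN⟩ := IsIntegrallyClosed.isIntegral_iff.1 (Algebra.isIntegral_norm ℚ hxint)
  have hx0 : x ≠ 0 := by
    intro h0
    have hmem : ζ ^ k ∈ primitiveRoots n ℂ :=
      (mem_primitiveRoots (NeZero.pos n)).2 (hζ.pow_of_coprime k hk)
    obtain ⟨σ, hσ⟩ := (hzK.embeddingsEquivPrimitiveRoots ℂ hirr).surjective ⟨_, hmem⟩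
    have := congrArg σ h0
    rw [map_zero] at this
    refine hne ?_
    rw [show ζ ^ k = σ z from (congrArg Subtype.val hσ).symm.trans (by simp)]
    simpa [x, map_sum] using this
  have hN0 : N ≠ 0 := fun h => by
    rw [h, map_zero] at hN
    exact (Algebra.norm_ne_zero_iff.2 hx0) hN.symm
  rw [← hprod, ← hnorm, ← hN]
  rw [show algebraMap ℚ ℂ (algebraMap ℤ ℚ N) = (N : ℂ) by simp, Complex.norm_intCast]
  exact_mod_cast Int.one_le_abs hN0

/-- The values of a character at the powers of `g`, as integer polynomials in a root of unity. -/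
theorem exists_exponents {G : Type*} [Group G] [Finite G] {χ : G → ℂ}
    (hχ : Cfsg.IsCharacter G χ) (g : G) :
    ∃ (m : ℕ) (ζ : ℂ) (e : Fin m → ℕ), IsPrimitiveRoot ζ (orderOf g) ∧
      ∀ k, χ (g ^ k) = ∑ i, (ζ ^ k) ^ e i := by
  obtain ⟨m, ρ, rfl⟩ := hχ
  haveI : NeZero (orderOf g) := ⟨(orderOf_pos g).ne'⟩
  have hζ := Complex.isPrimitiveRoot_exp (orderOf g) (NeZero.ne _)
  obtain ⟨b, μ, hb, hμ, -⟩ := CharBasic.exists_eigenbasis_rep ρ g
  have he : ∀ i, ∃ a, a < orderOf g ∧ _ ^ a = μ i := fun i => hζ.eq_pow_of_pow_eq_one (hμ i)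
  choose e _ hζe using he
  refine ⟨_, _, e, hζ, fun k => ?_⟩
  refine CharBasic.trace_eq_sum_of_eigenbasis b _ _ fun i => ?_
  rw [← pow_mul, Nat.mul_comm, pow_mul, hζe, map_pow]
  induction k with
  | zero => simp
  | succ k ih => rw [pow_succ', Module.End.mul_apply, ih, map_smul, hb, smul_smul, pow_succ]

/-- A character value and its Galois conjugates vanish together. -/
theorem char_pow_ne_zero {G : Type*} [Group G] [Finite G] {χ : G → ℂ}
    (hχ : Cfsg.IsCharacter G χ) {g : G} (hg : χ g ≠ 0) {k : ℕ} (hk : Nat.Coprime k (orderOf g)) :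
    χ (g ^ k) ≠ 0 := by
  intro h0
  obtain ⟨m, ζ, e, hζ, hval⟩ := exists_exponents hχ g
  haveI : NeZero (orderOf g) := ⟨(orderOf_pos g).ne'⟩
  have h1 := one_le_norm_prod_rootsum hζ e (Nat.coprime_one_left _)
    (by rw [← hval, pow_one]; exact hg)
  rw [Finset.prod_eq_zero ((mem_primitiveRoots (NeZero.pos _)).2 (hζ.pow_of_coprime k hk))
    ((hval k).symm.trans h0), norm_zero] at h1
  exact not_lt.2 h1 one_pos

/-- Burnside's inequality: if `χ g ≠ 0`, the average of `‖χ (g ^ k)‖ ^ 2` over `k` prime to the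
order of `g` is at least one. -/
theorem card_le_sum_norm_sq {G : Type*} [Group G] [Finite G] {χ : G → ℂ}
    (hχ : Cfsg.IsCharacter G χ) {g : G} (hg : χ g ≠ 0) :
    (((Finset.range (orderOf g)).filter (fun k => Nat.Coprime k (orderOf g))).card : ℝ) ≤
      ∑ k ∈ (Finset.range (orderOf g)).filter (fun k => Nat.Coprime k (orderOf g)),
        ‖χ (g ^ k)‖ ^ 2 := by
  classical
  obtain ⟨m, ζ, e, hζ, hval⟩ := exists_exponents hχ g
  set n := orderOf g with hn
  haveI : NeZero n := ⟨(orderOf_pos g).ne'⟩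
  set S := (Finset.range n).filter (fun k => Nat.Coprime k n)
  have hone : 1 ≤ ‖∏ η ∈ primitiveRoots n ℂ, ∑ i, η ^ e i‖ :=
    one_le_norm_prod_rootsum hζ e (Nat.coprime_one_left n) (by rw [← hval, pow_one]; exact hg)
  have hbij : ∏ k ∈ S, χ (g ^ k) = ∏ η ∈ primitiveRoots n ℂ, ∑ i, η ^ e i := by
    refine Finset.prod_bij (fun k _ => ζ ^ k) ?_ ?_ ?_ (fun k _ => hval k)
    · intro k hk
      exact (mem_primitiveRoots (NeZero.pos n)).2 (hζ.pow_of_coprime k (Finset.mem_filter.1 hk).2)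
    · intro a ha b hb hab
      exact hζ.pow_inj (Finset.mem_range.1 (Finset.mem_filter.1 ha).1)
        (Finset.mem_range.1 (Finset.mem_filter.1 hb).1) hab
    · intro η hη
      obtain ⟨i, hi, hc, rfl⟩ :=
        hζ.isPrimitiveRoot_iff.1 ((mem_primitiveRoots (NeZero.pos n)).1 hη)
      exact ⟨i, Finset.mem_filter.2 ⟨Finset.mem_range.2 hi, hc⟩, rfl⟩
  rw [← hbij, norm_prod] at hone
  have hpos : ∀ k ∈ S, 0 < ‖χ (g ^ k)‖ := by
    intro k hk
    refine lt_of_le_of_ne (norm_nonneg _) fun h0 => ?_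
    rw [Finset.prod_eq_zero hk h0.symm] at hone
    exact not_lt.2 hone one_pos
  have hlog : 0 ≤ ∑ k ∈ S, Real.log (‖χ (g ^ k)‖ ^ 2) := by
    rw [← Real.log_prod fun k hk => (pow_pos (hpos k hk) 2).ne', Finset.prod_pow]
    exact Real.log_nonneg (one_le_pow₀ hone)
  have hle : ∑ k ∈ S, Real.log (‖χ (g ^ k)‖ ^ 2) ≤
      ∑ k ∈ S, (‖χ (g ^ k)‖ ^ 2 - 1) :=
    Finset.sum_le_sum fun k hk => Real.log_le_sub_one_of_pos (pow_pos (hpos k hk) 2)
  simp only [Finset.sum_sub_distrib, Finset.sum_const, nsmul_eq_mul, mul_one] at hle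
  linarith

/-- Burnside's inequality summed over a set closed under taking generators. -/
theorem card_le_sum_norm_sq_of_closed {G : Type*} [Group G] [Finite G] {χ : G → ℂ}
    (hχ : Cfsg.IsCharacter G χ) (A : Finset G) (h0 : ∀ g ∈ A, χ g ≠ 0)
    (hcl : ∀ g ∈ A, ∀ k : ℕ, Nat.Coprime k (orderOf g) → g ^ k ∈ A) :
    (A.card : ℝ) ≤ ∑ g ∈ A, ‖χ g‖ ^ 2 := by
  classical
  suffices 0 ≤ ∑ g ∈ A, (‖χ g‖ ^ 2 - 1) by
    simpa [Finset.sum_sub_distrib, sub_nonneg] using this
  rw [← Finset.sum_fiberwise_of_maps_to (g := fun g => Subgroup.zpowers g)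
    (fun g hg => Finset.mem_image_of_mem _ hg)]
  refine Finset.sum_nonneg fun H hH => ?_
  obtain ⟨g, hg, rfl⟩ := Finset.mem_image.1 hH
  set n := orderOf g with hn
  have hfib : A.filter (fun h => Subgroup.zpowers h = Subgroup.zpowers g) =
      ((Finset.range n).filter (fun k => Nat.Coprime k n)).image (fun k => g ^ k) := by
    ext h
    simp only [Finset.mem_filter, Finset.mem_image, Finset.mem_range]
    constructor
    · rintro ⟨_, hh⟩
      have hmem : h ∈ Subgroup.zpowers g := hh ▸ Subgroup.mem_zpowers h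
      rw [mem_zpowers_iff_mem_range_orderOf, Finset.mem_image] at hmem
      obtain ⟨k, hk, rfl⟩ := hmem
      refine ⟨k, ⟨Finset.mem_range.1 hk, ?_⟩, rfl⟩
      have ho : orderOf (g ^ k) = n := by
        rw [← Nat.card_zpowers, hh, Nat.card_zpowers]
      rw [orderOf_pow, Nat.div_eq_self] at ho
      rcases ho with ho | ho
      · exact absurd ho (orderOf_pos g).ne'
      · rwa [Nat.coprime_comm, Nat.coprime_iff_gcd_eq_one]
    · rintro ⟨k, ⟨_, hk⟩, rfl⟩
      refine ⟨hcl g hg k hk, Subgroup.eq_of_le_of_card_ge (by simp) ?_⟩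
      rw [Nat.card_zpowers, Nat.card_zpowers, hk.symm.orderOf_pow]
  rw [hfib, Finset.sum_image fun a ha b hb hab => pow_injOn_Iio_orderOf
    (Finset.mem_range.1 (Finset.mem_filter.1 ha).1) (Finset.mem_range.1 (Finset.mem_filter.1 hb).1)
    hab]
  simpa [Finset.sum_sub_distrib, sub_nonneg] using card_le_sum_norm_sq hχ (h0 g hg)

end Cfsg.Agent.H81
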