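import Cfsg.Agent.H33.PermCharacter
import Cfsg.Agent.H43.Irreducible
import Cfsg.Agent.H43.Virtual
import Cfsg.Agent.CharInduce.Ops
import Mathlib.GroupTheory.GroupAction.MultipleTransitivity
import Mathlib.Data.Sym.Sym2

/-!
# Three irreducible characters of four-fold transitive groups

With `f` the number of fixed points and `s` the number of points moved in two-cycles they are
`f - 1`, `(f ^ 2 - 3 f + s) / 2` and `(f ^ 2 - 3 f + 2 - s) / 2`.
-/

set_option linter.unusedSectionVars false

namespace Cfsg.Agent.H81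

open MulAction Cfsg.Agent.CharBasic
open scoped ComplexConjugate

variable {G : Type*} [Group G] [Fintype G] {Ω : Type*} [Fintype Ω] [DecidableEq Ω] [MulAction G Ω]

variable (Ω) in
/-- The number of fixed points. -/
def fixCount (g : G) : ℕ := (Finset.univ.filter fun a : Ω => g • a = a).card

variable (Ω) in
/-- The number of points in two-cycles. -/
def swapCount (g : G) : ℕ :=
  (Finset.univ.filter fun a : Ω => g • a ≠ a ∧ g • (g • a) = a).card

/-- In a transitive action, on average exactly one embedding is moved by `τ`. -/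
theorem sum_card_twisted {k : ℕ} [IsMultiplyPretransitive G Ω k] (hk : k ≤ Fintype.card Ω)
    (τ : Equiv.Perm (Fin k)) :
    ∑ g : G, (Finset.univ.filter fun e : Fin k ↪ Ω => ∀ i, g • e i = e (τ i)).card =
      Fintype.card G := by
  classical
  have key : ∀ e : Fin k ↪ Ω,
      (Finset.univ.filter fun g : G => ∀ i, g • e i = e (τ i)).card * Fintype.card (Fin k ↪ Ω) =
        Fintype.card G := by
    intro e
    obtain ⟨g0, hg0⟩ := exists_smul_eq G e (τ.toEmbedding.trans e)
    have h0 : ∀ i, g0 • e i = e (τ i) := fun i => congrArg (fun x : Fin k ↪ Ω => x i) hg0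
    rw [← Nat.card_eq_fintype_card (α := G), ← H33.orbit_card_congr (G := G) e]
    congr 1
    rw [Nat.card_eq_fintype_card, ← Fintype.card_subtype]
    refine Fintype.card_congr ((Equiv.mulLeft g0⁻¹).subtypeEquiv fun g => ?_)
    rw [mem_stabilizer_iff, Equiv.coe_mulLeft, mul_smul, inv_smul_eq_iff, hg0]
    exact ⟨fun h => Function.Embedding.ext h, fun h i => congrArg (fun x : Fin k ↪ Ω => x i) h⟩
  have hne : 0 < Fintype.card (Fin k ↪ Ω) := by
    rw [Fintype.card_embedding_eq, Fintype.card_fin]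
    exact Nat.pos_of_ne_zero fun h => by
      rw [Nat.descFactorial_eq_zero_iff_lt] at h
      omega
  refine Nat.eq_of_mul_eq_mul_right hne ?_
  have hswap : ∑ g : G, (Finset.univ.filter fun e : Fin k ↪ Ω => ∀ i, g • e i = e (τ i)).card =
      ∑ e : Fin k ↪ Ω, (Finset.univ.filter fun g : G => ∀ i, g • e i = e (τ i)).card := by
    simp only [Finset.card_filter]
    exact Finset.sum_comm
  rw [hswap, Finset.sum_mul, Finset.sum_congr rfl fun e _ => key e, Finset.sum_const,
    Finset.card_univ, smul_eq_mul, mul_comm]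

theorem card_fixed_embedding (k : ℕ) (g : G) :
    (Finset.univ.filter fun e : Fin k ↪ Ω => ∀ i, g • e i = e ((1 : Equiv.Perm (Fin k)) i)).card =
      (fixCount Ω g).descFactorial k := by
  rw [fixCount, ← Fintype.card_subtype, ← Fintype.card_subtype]
  rw [show (Fintype.card {a : Ω // g • a = a}).descFactorial k =
      Fintype.card (Fin k ↪ {a : Ω // g • a = a}) by rw [Fintype.card_embedding_eq, Fintype.card_fin]]
  exact Fintype.card_congr
    { toFun := fun e => ⟨fun i => ⟨e.1 i, e.2 i⟩, fun i j h =>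
        e.1.injective (congrArg Subtype.val h)⟩
      invFun := fun e => ⟨e.trans (Function.Embedding.subtype _), fun i => (e i).2⟩
      left_inv := fun e => Subtype.ext (Function.Embedding.ext fun i => rfl)
      right_inv := fun e => Function.Embedding.ext fun i => rfl }

theorem swap_spec {g : G} {a : Ω} (h : g • a ≠ a ∧ g • (g • a) = a) :
    g • (g • a) ≠ g • a := fun h' => h.1 (h.2 ▸ h').symm

theorem fixed_ne_swap {g : G} {a c : Ω} (ha : g • a ≠ a ∧ g • (g • a) = a) (hc : g • c = c) :
    c ≠ a ∧ c ≠ g • a :=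
  ⟨fun h => ha.1 (h ▸ hc), fun h => swap_spec ha (h ▸ hc)⟩

theorem card_twisted_two (g : G) :
    (Finset.univ.filter fun e : Fin 2 ↪ Ω => ∀ i, g • e i = e (Equiv.swap 0 1 i)).card =
      swapCount Ω g := by
  rw [swapCount, ← Fintype.card_subtype, ← Fintype.card_subtype]
  refine Fintype.card_congr
    { toFun := fun e => ⟨e.1 0, ?_, ?_⟩
      invFun := fun a => ⟨⟨![a.1, g • a.1], ?_⟩, ?_⟩
      left_inv := ?_
      right_inv := fun a => rfl }
  · rw [e.2 0]; simp
  · rw [e.2 0, Equiv.swap_apply_left, e.2 1, Equiv.swap_apply_right]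
  · intro i j h
    have h0 := a.2.1
    fin_cases i <;> fin_cases j <;> first | rfl | (exfalso; simp [h0, Ne.symm h0] at h)
  · intro i
    fin_cases i
    · rfl
    · exact a.2.2
  · intro e
    refine Subtype.ext (Function.Embedding.ext fun i => ?_)
    fin_cases i
    · rfl
    · show g • e.1 0 = e.1 1
      rw [e.2 0, Equiv.swap_apply_left]

theorem card_twisted_three (g : G) :
    (Finset.univ.filter fun e : Fin 3 ↪ Ω => ∀ i, g • e i = e (Equiv.swap 0 1 i)).card =
      swapCount Ω g * fixCount Ω g := by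
  rw [swapCount, fixCount, ← Fintype.card_subtype, ← Fintype.card_subtype, ← Fintype.card_subtype,
    ← Fintype.card_prod]
  refine Fintype.card_congr
    { toFun := fun e => (⟨e.1 0, ?_, ?_⟩, ⟨e.1 2, ?_⟩)
      invFun := fun a => ⟨⟨![a.1.1, g • a.1.1, a.2.1], ?_⟩, ?_⟩
      left_inv := ?_
      right_inv := fun a => rfl }
  · rw [e.2 0]; simp
  · rw [e.2 0, Equiv.swap_apply_left, e.2 1, Equiv.swap_apply_right]
  · rw [e.2 2, Equiv.swap_apply_of_ne_of_ne (by decide) (by decide)]
  · intro i j h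
    have h0 := a.1.2.1
    obtain ⟨h1, h2⟩ := fixed_ne_swap a.1.2 a.2.2
    fin_cases i <;> fin_cases j <;>
      first | rfl | (exfalso; simp [h0, Ne.symm h0, h1, Ne.symm h1, h2, Ne.symm h2] at h)
  · intro i
    fin_cases i
    · rfl
    · exact a.1.2.2
    · exact a.2.2
  · intro e
    refine Subtype.ext (Function.Embedding.ext fun i => ?_)
    fin_cases i
    · rfl
    · show g • e.1 0 = e.1 1
      rw [e.2 0, Equiv.swap_apply_left]
    · rfl

theorem card_twisted_four (g : G) :
    (Finset.univ.filter fun e : Fin 4 ↪ Ω => ∀ i, g • e i = e (Equiv.swap 0 1 i)).card =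
      swapCount Ω g * (fixCount Ω g).descFactorial 2 := by
  rw [swapCount, fixCount, ← Fintype.card_subtype, ← Fintype.card_subtype, ← Fintype.card_subtype]
  rw [show (Fintype.card {a : Ω // g • a = a}).descFactorial 2 =
      Fintype.card (Fin 2 ↪ {a : Ω // g • a = a}) by rw [Fintype.card_embedding_eq, Fintype.card_fin],
    ← Fintype.card_prod]
  refine Fintype.card_congr
    { toFun := fun e => (⟨e.1 0, ?_, ?_⟩, ⟨![⟨e.1 2, ?_⟩, ⟨e.1 3, ?_⟩], ?_⟩)
      invFun := fun a => ⟨⟨![a.1.1, g • a.1.1, (a.2 0).1, (a.2 1).1], ?_⟩, ?_⟩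
      left_inv := ?_
      right_inv := ?_ }
  · rw [e.2 0]; simp
  · rw [e.2 0, Equiv.swap_apply_left, e.2 1, Equiv.swap_apply_right]
  · rw [e.2 2, Equiv.swap_apply_of_ne_of_ne (by decide) (by decide)]
  · rw [e.2 3, Equiv.swap_apply_of_ne_of_ne (by decide) (by decide)]
  · intro i j h
    fin_cases i <;> fin_cases j <;>
      first | rfl | (exfalso; simp [Subtype.ext_iff, e.1.injective.eq_iff] at h)
  · intro i j h
    have h0 := a.1.2.1
    obtain ⟨h1, h2⟩ := fixed_ne_swap a.1.2 (a.2 0).2
    obtain ⟨h3, h4⟩ := fixed_ne_swap a.1.2 (a.2 1).2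
    have h5 : (a.2 0).1 ≠ (a.2 1).1 := fun he => by
      simpa using a.2.injective (Subtype.ext he)
    fin_cases i <;> fin_cases j <;>
      first | rfl | (exfalso; simp [h0, Ne.symm h0, h1, Ne.symm h1, h2, Ne.symm h2, h3, Ne.symm h3,
        h4, Ne.symm h4, h5, Ne.symm h5] at h)
  · intro i
    fin_cases i
    · rfl
    · exact a.1.2.2
    · exact (a.2 0).2
    · exact (a.2 1).2
  · intro e
    refine Subtype.ext (Function.Embedding.ext fun i => ?_)
    fin_cases i
    · rfl
    · show g • e.1 0 = e.1 1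
      rw [e.2 0, Equiv.swap_apply_left]
    · rfl
    · rfl
  · intro a
    refine Prod.ext rfl (Function.Embedding.ext fun i => ?_)
    fin_cases i <;> rfl

theorem card_twisted_double (g : G) :
    (Finset.univ.filter fun e : Fin 4 ↪ Ω =>
        ∀ i, g • e i = e ((Equiv.swap (0 : Fin 4) 1 * Equiv.swap 2 3 : Equiv.Perm (Fin 4)) i)).card =
      swapCount Ω g * (swapCount Ω g - 2) := by
  set τ : Equiv.Perm (Fin 4) := Equiv.swap (0 : Fin 4) 1 * Equiv.swap 2 3
  have t0 : τ 0 = 1 := by decide
  have t1 : τ 1 = 0 := by decide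
  have t2 : τ 2 = 3 := by decide
  have t3 : τ 3 = 2 := by decide
  set S := Finset.univ.filter fun a : Ω => g • a ≠ a ∧ g • (g • a) = a with hS
  have hfib : ∀ a ∈ S, ((S.erase a).erase (g • a)).card = S.card - 2 := by
    intro a ha
    have ha' := (Finset.mem_filter.1 ha).2
    rw [Finset.card_erase_of_mem, Finset.card_erase_of_mem ha, Nat.sub_sub]
    exact Finset.mem_erase.2 ⟨ha'.1, Finset.mem_filter.2 ⟨Finset.mem_univ _, swap_spec ha',
      congrArg (g • ·) ha'.2⟩⟩
  rw [swapCount, ← hS]
  have hcard : (S.sigma fun a => (S.erase a).erase (g • a)).card = S.card * (S.card - 2) := by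
    rw [Finset.card_sigma, Finset.sum_congr rfl hfib, Finset.sum_const, smul_eq_mul]
  rw [← hcard]
  refine Finset.card_bij' (fun e _ => ⟨e 0, e 2⟩)
    (fun x hx => ⟨![x.1, g • x.1, x.2, g • x.2], ?_⟩) ?_ ?_ ?_ ?_
  · simp only [Finset.mem_sigma, Finset.mem_erase, hS, Finset.mem_filter, Finset.mem_univ,
      true_and] at hx
    obtain ⟨hx1, hx2, hx3, hx4⟩ := hx
    have h5 : g • x.2 ≠ x.1 := fun h => hx2 (by rw [← h, hx4.2])
    have h6 : g • x.2 ≠ g • x.1 := fun h => hx3 (MulAction.injective g h)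
    intro i j h
    fin_cases i <;> fin_cases j <;>
      first | rfl | (exfalso; simp [hx1.1, Ne.symm hx1.1, hx4.1, Ne.symm hx4.1, h5, Ne.symm h5,
        h6, Ne.symm h6, hx2, Ne.symm hx2, hx3, Ne.symm hx3] at h)
  · intro e he
    have he' := (Finset.mem_filter.1 he).2
    have h0 : g • e 0 = e 1 := (he' 0).trans (by rw [t0])
    have h1 : g • e 1 = e 0 := (he' 1).trans (by rw [t1])
    have h2 : g • e 2 = e 3 := (he' 2).trans (by rw [t2])
    have h3 : g • e 3 = e 2 := (he' 3).trans (by rw [t3])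
    simp [hS, h0, h1, h2, h3, e.injective.eq_iff]
  · intro x hx
    simp only [Finset.mem_sigma, Finset.mem_erase, hS, Finset.mem_filter, Finset.mem_univ,
      true_and] at hx
    obtain ⟨hx1, hx2, hx3, hx4⟩ := hx
    refine Finset.mem_filter.2 ⟨Finset.mem_univ _, fun i => ?_⟩
    fin_cases i <;> simp [t0, t1, t2, t3, hx1.2, hx4.2]
  · intro e he
    have he' := (Finset.mem_filter.1 he).2
    refine Function.Embedding.ext fun i => ?_
    fin_cases i
    · rfl
    · exact (he' 0).trans (by rw [t0]; rfl)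
    · rfl
    · exact (he' 2).trans (by rw [t2]; rfl)
  · intro x hx
    rfl

theorem cast_descFactorial_three (m : ℕ) :
    ((m.descFactorial 3 : ℕ) : ℂ) = (m : ℂ) * ((m : ℂ) - 1) * ((m : ℂ) - 2) := by
  rcases m with _ | _ | m <;> simp [Nat.descFactorial] <;> ring

theorem cast_descFactorial_four (m : ℕ) :
    ((m.descFactorial 4 : ℕ) : ℂ) = (m : ℂ) * ((m : ℂ) - 1) * ((m : ℂ) - 2) * ((m : ℂ) - 3) := by
  rcases m with _ | _ | _ | m <;> simp [Nat.descFactorial] <;> ring

variable (Ω) in
/-- `f`, as a complex number. -/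
def fixC (g : G) : ℂ := (fixCount Ω g : ℂ)

variable (Ω) in
/-- `s`, as a complex number. -/
def swapC (g : G) : ℂ := (swapCount Ω g : ℂ)

theorem fixC_eq_permChar : fixC Ω (G := G) = H33.permChar G Ω := by
  funext g
  rw [fixC, fixCount, H33.permChar, Nat.card_eq_fintype_card, ← Fintype.card_subtype]
  exact congrArg _ (Fintype.card_congr (Equiv.refl _))

/-- The second exterior and symmetric powers give generalized characters. -/
theorem isGen_half (Ω : Type*) [Fintype Ω] [DecidableEq Ω] [MulAction G Ω] :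
    Cfsg.IsGeneralizedCharacter G
      (fun g => ((fixC Ω g) ^ 2 + fixC Ω g + swapC Ω g) / 2) := by
  classical
  letI act : MulAction G (Sym2 Ω) :=
    { smul := fun g => Sym2.map (g • ·)
      one_smul := fun z => by
        show Sym2.map ((1 : G) • ·) z = z
        rw [show ((1 : G) • · : Ω → Ω) = id from funext (one_smul G), Sym2.map_id]
        rfl
      mul_smul := fun g h z => by
        show Sym2.map ((g * h) • ·) z = Sym2.map (g • ·) (Sym2.map (h • ·) z)
        rw [Sym2.map_map]
        exact congrArg (Sym2.map · z) (funext (mul_smul g h)) }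
  haveI : Fintype (Sym2 Ω) := inferInstance
  have h : (fun g => ((fixC Ω g) ^ 2 + fixC Ω g + swapC Ω g) / 2) = H33.permChar G (Sym2 Ω) := by
    funext g
    set D := Finset.univ.filter fun z : Sym2 Ω => g • z = z
    set C := (Finset.univ : Finset (Ω × Ω)).filter fun x => g • s(x.1, x.2) = s(x.1, x.2)
    have hC : C.card + fixCount Ω g = 2 * D.card := by
      have hfib : C.card = ∑ z ∈ D, (C.filter fun x => s(x.1, x.2) = z).card := by
        refine Finset.card_eq_sum_card_fiberwise fun x hx => ?_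
        simpa [C, D] using hx
      have hdiag : fixCount Ω g = ∑ z ∈ D, if z.IsDiag then 1 else 0 := by
        rw [← Finset.card_filter, fixCount]
        refine Finset.card_bij (fun a _ => s(a, a)) ?_ ?_ ?_
        · intro a ha
          have ha' := (Finset.mem_filter.1 ha).2
          refine Finset.mem_filter.2 ⟨Finset.mem_filter.2 ⟨Finset.mem_univ _, ?_⟩, rfl⟩
          show Sym2.map _ s(a, a) = _
          rw [Sym2.map_mk, ha']
        · intro a _ b _ hab
          simpa using hab
        · intro z hz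
          induction z using Sym2.ind with
          | h a b =>
            obtain ⟨hz1, hz2⟩ := Finset.mem_filter.1 hz
            have hab : a = b := hz2
            subst hab
            refine ⟨a, Finset.mem_filter.2 ⟨Finset.mem_univ _, ?_⟩, rfl⟩
            have h1 : s(g • a, g • a) = s(a, a) := (Finset.mem_filter.1 hz1).2
            simpa using h1
      rw [hfib, hdiag, ← Finset.sum_add_distrib, mul_comm, ← smul_eq_mul, ← Finset.sum_const]
      refine Finset.sum_congr rfl fun z hz => ?_
      induction z using Sym2.ind with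
      | h a b =>
        have hz' : g • s(a, b) = s(a, b) := (Finset.mem_filter.1 hz).2
        by_cases hab : a = b
        · subst hab
          rw [if_pos (Sym2.mk_isDiag_iff.2 rfl)]
          have : (C.filter fun x => s(x.1, x.2) = s(a, a)) = {(a, a)} := by
            ext ⟨c, d⟩
            simp [C]
            rintro rfl rfl
            exact hz'
          rw [this, Finset.card_singleton]
        · rw [if_neg (fun h => hab (Sym2.mk_isDiag_iff.1 h))]
          have : (C.filter fun x => s(x.1, x.2) = s(a, b)) = {(a, b), (b, a)} := by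
            ext ⟨c, d⟩
            simp only [C, Finset.mem_filter, Finset.mem_univ, true_and, Finset.mem_insert,
              Finset.mem_singleton, Prod.mk.injEq, Sym2.eq_iff]
            constructor
            · exact fun h => h.2
            · rintro (⟨rfl, rfl⟩ | ⟨rfl, rfl⟩)
              · exact ⟨hz', Or.inl ⟨rfl, rfl⟩⟩
              · exact ⟨by rw [Sym2.eq_swap]; exact hz', Or.inr ⟨rfl, rfl⟩⟩
          rw [this, Finset.card_pair (fun h => hab (congrArg Prod.fst h))]
    have hC2 : C.card = fixCount Ω g ^ 2 + swapCount Ω g := by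
      have hsplit : C = ((Finset.univ.filter fun a : Ω => g • a = a) ×ˢ
          (Finset.univ.filter fun a : Ω => g • a = a)) ∪
          ((Finset.univ.filter fun a : Ω => g • a ≠ a ∧ g • (g • a) = a).image
            fun a => (a, g • a)) := by
        ext ⟨a, b⟩
        simp only [C, Finset.mem_filter, Finset.mem_univ, true_and, Finset.mem_union,
          Finset.mem_product, Finset.mem_image]
        show s(g • a, g • b) = s(a, b) ↔ _
        rw [Sym2.eq_iff]
        constructor
        · rintro (⟨h1, h2⟩ | ⟨h1, h2⟩)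
          · exact Or.inl ⟨h1, h2⟩
          · by_cases hab : g • a = a
            · have hba : b = a := h1 ▸ hab
              exact Or.inl ⟨hab, by rw [hba]; exact hab⟩
            · exact Or.inr ⟨a, ⟨hab, by rw [h1, h2]⟩, by rw [h1]⟩
        · rintro (⟨h1, h2⟩ | ⟨c, ⟨-, hc⟩, hcab⟩)
          · exact Or.inl ⟨h1, h2⟩
          · obtain ⟨rfl, rfl⟩ := Prod.mk.injEq .. ▸ hcab
            exact Or.inr ⟨rfl, hc⟩
      rw [hsplit, Finset.card_union_of_disjoint, Finset.card_product,
        Finset.card_image_of_injective _ (fun a b h => congrArg Prod.fst h), fixCount, swapCount, sq]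
      rw [Finset.disjoint_left]
      intro x hx hx'
      obtain ⟨a, ha, rfl⟩ := Finset.mem_image.1 hx'
      exact (Finset.mem_filter.1 ha).2.1 (Finset.mem_filter.1 (Finset.mem_product.1 hx).1).2
    have hD : H33.permChar G (Sym2 Ω) g = (D.card : ℂ) := by
      rw [H33.permChar, Nat.card_eq_fintype_card, ← Fintype.card_subtype]
      exact congrArg _ (Fintype.card_congr (Equiv.refl _))
    have h2 : (fixC Ω g) ^ 2 + fixC Ω g + swapC Ω g = 2 * (D.card : ℂ) := by
      have := congrArg (Nat.cast : ℕ → ℂ) hC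
      rw [hC2] at this
      push_cast at this
      simp only [fixC, swapC]
      linear_combination this
    rw [hD, h2]
    ring
  rw [h]
  exact H43.gen_of_char H33.isCharacter_permChar

variable [IsMultiplyPretransitive G Ω 4] (h4 : 4 ≤ Fintype.card Ω)

include h4

theorem moments :
    ∑ g : G, fixC Ω g = Fintype.card G ∧
    ∑ g : G, (fixC Ω g) ^ 2 = 2 * (Fintype.card G : ℂ) ∧
    ∑ g : G, (fixC Ω g) ^ 3 = 5 * (Fintype.card G : ℂ) ∧
    ∑ g : G, (fixC Ω g) ^ 4 = 15 * (Fintype.card G : ℂ) ∧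
    ∑ g : G, swapC Ω g = Fintype.card G ∧
    ∑ g : G, swapC Ω g * fixC Ω g = Fintype.card G ∧
    ∑ g : G, swapC Ω g * (fixC Ω g) ^ 2 = 2 * (Fintype.card G : ℂ) ∧
    ∑ g : G, (swapC Ω g) ^ 2 = 3 * (Fintype.card G : ℂ) := by
  have h4' : 4 ≤ Nat.card Ω := by rwa [Nat.card_eq_fintype_card]
  haveI : IsMultiplyPretransitive G Ω 1 := isMultiplyPretransitive_of_le (n := 4) (by omega) h4'
  haveI : IsMultiplyPretransitive G Ω 2 := isMultiplyPretransitive_of_le (n := 4) (by omega) h4'
  haveI : IsMultiplyPretransitive G Ω 3 := isMultiplyPretransitive_of_le (n := 4) (by omega) h4'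
  have cast_sum : ∀ F : G → ℕ, ∑ g, F g = Fintype.card G →
      ∑ g, (F g : ℂ) = (Fintype.card G : ℂ) := fun F hF => by exact_mod_cast hF
  have a1 : ∑ g : G, fixC Ω g = Fintype.card G := by
    have h := sum_card_twisted (G := G) (Ω := Ω) (k := 1) (by omega) 1
    simp only [card_fixed_embedding, Nat.descFactorial_one] at h
    exact cast_sum _ h
  have a2 : ∑ g : G, fixC Ω g * (fixC Ω g - 1) = Fintype.card G := by
    have h := cast_sum _ (sum_card_twisted (G := G) (Ω := Ω) (k := 2) (by omega) 1)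
    simpa only [card_fixed_embedding, Nat.cast_descFactorial_two, fixC] using h
  have a3 : ∑ g : G, fixC Ω g * (fixC Ω g - 1) * (fixC Ω g - 2) = Fintype.card G := by
    have h := cast_sum _ (sum_card_twisted (G := G) (Ω := Ω) (k := 3) (by omega) 1)
    simpa only [card_fixed_embedding, cast_descFactorial_three, fixC] using h
  have a4 : ∑ g : G, fixC Ω g * (fixC Ω g - 1) * (fixC Ω g - 2) * (fixC Ω g - 3) =
      Fintype.card G := by
    have h := cast_sum _ (sum_card_twisted (G := G) (Ω := Ω) (k := 4) (by omega) 1)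
    simpa only [card_fixed_embedding, cast_descFactorial_four, fixC] using h
  have b1 : ∑ g : G, swapC Ω g = Fintype.card G := by
    have h := sum_card_twisted (G := G) (Ω := Ω) (k := 2) (by omega) (Equiv.swap 0 1)
    simp only [card_twisted_two] at h
    exact cast_sum _ h
  have b2 : ∑ g : G, swapC Ω g * fixC Ω g = Fintype.card G := by
    have h := sum_card_twisted (G := G) (Ω := Ω) (k := 3) (by omega) (Equiv.swap 0 1)
    simp only [card_twisted_three] at h
    have := cast_sum _ h
    simpa only [Nat.cast_mul, fixC, swapC] using this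
  have b3 : ∑ g : G, swapC Ω g * (fixC Ω g * (fixC Ω g - 1)) = Fintype.card G := by
    have h := sum_card_twisted (G := G) (Ω := Ω) (k := 4) (by omega) (Equiv.swap 0 1)
    simp only [card_twisted_four] at h
    have := cast_sum _ h
    simpa only [Nat.cast_mul, Nat.cast_descFactorial_two, fixC, swapC] using this
  have b4 : ∑ g : G, swapC Ω g * (swapC Ω g - 2) = Fintype.card G := by
    have h := sum_card_twisted (G := G) (Ω := Ω) (k := 4) (by omega)
      (Equiv.swap (0 : Fin 4) 1 * Equiv.swap 2 3)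
    simp only [card_twisted_double] at h
    have := cast_sum _ h
    have hs : ∀ g : G, ((swapCount Ω g * (swapCount Ω g - 2) : ℕ) : ℂ) =
        swapC Ω g * (swapC Ω g - 2) := by
      intro g
      rcases Nat.eq_zero_or_pos (swapCount Ω g) with h0 | h0
      · simp [swapC, h0]
      · obtain ⟨a, ha⟩ := Finset.card_pos.1 h0
        have ha' := (Finset.mem_filter.1 ha).2
        have h2 : 1 < swapCount Ω g := Finset.one_lt_card.2
          ⟨a, ha, g • a, Finset.mem_filter.2 ⟨Finset.mem_univ _, swap_spec ha',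
            congrArg (g • ·) ha'.2⟩, ha'.1.symm⟩
        rw [Nat.cast_mul, Nat.cast_sub (show 2 ≤ swapCount Ω g by omega)]
        rfl
    simpa only [hs] using this
  have a2' : ∑ g : G, fixC Ω g ^ 2 - ∑ g : G, fixC Ω g = Fintype.card G := by
    rw [← a2, ← Finset.sum_sub_distrib]
    exact Finset.sum_congr rfl fun g _ => by ring
  have a3' : ∑ g : G, fixC Ω g ^ 3 - 3 * ∑ g : G, fixC Ω g ^ 2 + 2 * ∑ g : G, fixC Ω g =
      Fintype.card G := by
    rw [← a3, Finset.mul_sum, Finset.mul_sum, ← Finset.sum_sub_distrib, ← Finset.sum_add_distrib]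
    exact Finset.sum_congr rfl fun g _ => by ring
  have a4' : ∑ g : G, fixC Ω g ^ 4 - 6 * ∑ g : G, fixC Ω g ^ 3 + 11 * ∑ g : G, fixC Ω g ^ 2 -
      6 * ∑ g : G, fixC Ω g = Fintype.card G := by
    rw [← a4, Finset.mul_sum, Finset.mul_sum, Finset.mul_sum, ← Finset.sum_sub_distrib,
      ← Finset.sum_add_distrib, ← Finset.sum_sub_distrib]
    exact Finset.sum_congr rfl fun g _ => by ring
  have b3' : ∑ g : G, swapC Ω g * fixC Ω g ^ 2 - ∑ g : G, swapC Ω g * fixC Ω g =
      Fintype.card G := by
    rw [← b3, ← Finset.sum_sub_distrib]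
    exact Finset.sum_congr rfl fun g _ => by ring
  have b4' : ∑ g : G, swapC Ω g ^ 2 - 2 * ∑ g : G, swapC Ω g = Fintype.card G := by
    rw [← b4, Finset.mul_sum, ← Finset.sum_sub_distrib]
    exact Finset.sum_congr rfl fun g _ => by ring
  have c2 : ∑ g : G, (fixC Ω g) ^ 2 = 2 * (Fintype.card G : ℂ) := by linear_combination a2' + a1
  have c3 : ∑ g : G, (fixC Ω g) ^ 3 = 5 * (Fintype.card G : ℂ) := by
    linear_combination a3' + 3 * c2 - 2 * a1
  have c4 : ∑ g : G, (fixC Ω g) ^ 4 = 15 * (Fintype.card G : ℂ) := by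
    linear_combination a4' + 6 * c3 - 11 * c2 + 6 * a1
  refine ⟨a1, c2, c3, c4, b1, b2, ?_, ?_⟩
  · linear_combination b3' + b2
  · linear_combination b4' + 2 * b1

theorem classInner_real (φ : G → ℂ) (hφ : ∀ g, conj (φ g) = φ g) (c : ℂ)
    (h : ∑ g, φ g ^ 2 = c * (Fintype.card G : ℂ)) : Cfsg.classInner φ φ = c := by
  rw [classInner_def]
  simp only [hφ, ← sq, h]
  rw [Nat.card_eq_fintype_card]
  have : (Fintype.card G : ℂ) ≠ 0 := Nat.cast_ne_zero.2 Fintype.card_ne_zero
  field_simp

theorem irr_of_norm (φ : G → ℂ) (hgen : Cfsg.IsGeneralizedCharacter G φ)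
    (hφ : ∀ g, conj (φ g) = φ g) (h : ∑ g, φ g ^ 2 = (Fintype.card G : ℂ))
    (h1 : 0 ≤ (φ 1).re) : Cfsg.IsIrrCharacter G φ := by
  obtain ⟨z, hz⟩ := H43.gen_one_int hgen
  have hz0 : 0 ≤ z := by
    rw [hz, Complex.intCast_re] at h1
    exact_mod_cast h1
  refine H43.irr_of_signed_pos (H43.signed_of_norm_one hgen (classInner_real h4 φ hφ 1 (by rw [h, one_mul])))
    (r := z.toNat) ?_
  rw [hz, ← Int.cast_natCast, Int.toNat_of_nonneg hz0]

theorem isIrr_std : Cfsg.IsIrrCharacter G (fun g => fixC Ω g - 1) := by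
  obtain ⟨a1, c2, -⟩ := moments (G := G) h4
  refine irr_of_norm h4 _ ?_ (fun g => by simp [fixC]) ?_ ?_
  · rw [fixC_eq_permChar]
    exact H43.gen_sub (H43.gen_of_char H33.isCharacter_permChar)
      (H43.gen_of_char (CharInduce.IsChar.one))
  · simp only [sub_sq, one_pow, mul_one, Finset.sum_add_distrib, Finset.sum_sub_distrib,
      ← Finset.mul_sum, Finset.sum_const, Finset.card_univ, nsmul_eq_mul]
    linear_combination c2 - 2 * a1
  · have h : (1 : ℝ) ≤ (fixCount Ω (1 : G) : ℝ) := by
      have : fixCount Ω (1 : G) = Fintype.card Ω := by simp [fixCount, one_smul]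
      rw [this]
      exact_mod_cast (by omega : 1 ≤ Fintype.card Ω)
    simpa [fixC] using h

theorem one_values : fixC Ω (1 : G) = Fintype.card Ω ∧ swapC Ω (1 : G) = 0 := by
  constructor <;> simp [fixC, swapC, fixCount, swapCount, one_smul]

theorem isIrr_sym : Cfsg.IsIrrCharacter G
    (fun g => (fixC Ω g ^ 2 - 3 * fixC Ω g + swapC Ω g) / 2) := by
  obtain ⟨a1, c2, c3, c4, b1, b2, b3, b4⟩ := moments (G := G) h4
  refine irr_of_norm h4 _ ?_ (fun g => by simp [fixC, swapC, Complex.conj_ofNat]) ?_ ?_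
  · have hf : Cfsg.IsGeneralizedCharacter G (fixC Ω (G := G)) :=
      fixC_eq_permChar (G := G) (Ω := Ω) ▸ H43.gen_of_char H33.isCharacter_permChar
    convert H43.gen_sub (H43.gen_sub (isGen_half (G := G) Ω) hf) hf using 1
    funext g
    simp only [Pi.sub_apply]
    ring
  · rw [Finset.sum_congr rfl fun g _ => show ((fixC Ω g ^ 2 - 3 * fixC Ω g + swapC Ω g) / 2) ^ 2 =
      (1 / 4 : ℂ) * fixC Ω g ^ 4 - (3 / 2) * fixC Ω g ^ 3 + (9 / 4) * fixC Ω g ^ 2 +
        (1 / 2) * (swapC Ω g * fixC Ω g ^ 2) - (3 / 2) * (swapC Ω g * fixC Ω g) +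
          (1 / 4) * swapC Ω g ^ 2 by ring]
    simp only [Finset.sum_add_distrib, Finset.sum_sub_distrib, ← Finset.mul_sum]
    linear_combination (1 / 4 : ℂ) * c4 - (3 / 2 : ℂ) * c3 + (9 / 4 : ℂ) * c2 + (1 / 2 : ℂ) * b3 -
      (3 / 2 : ℂ) * b2 + (1 / 4 : ℂ) * b4
  · obtain ⟨e1, e2⟩ := one_values (G := G) (Ω := Ω) h4
    have h : (4 : ℝ) ≤ (Fintype.card Ω : ℝ) := by exact_mod_cast h4
    simp only [e1, e2, add_zero, Complex.div_ofNat_re, Complex.sub_re, sq, Complex.mul_re,
      Complex.natCast_re, Complex.natCast_im, Complex.re_ofNat, Complex.im_ofNat]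
    nlinarith

theorem isIrr_alt : Cfsg.IsIrrCharacter G
    (fun g => (fixC Ω g ^ 2 - 3 * fixC Ω g + 2 - swapC Ω g) / 2) := by
  obtain ⟨a1, c2, c3, c4, b1, b2, b3, b4⟩ := moments (G := G) h4
  refine irr_of_norm h4 _ ?_ (fun g => by simp [fixC, swapC, Complex.conj_ofNat]) ?_ ?_
  · have hf : Cfsg.IsGeneralizedCharacter G (fixC Ω (G := G)) :=
      fixC_eq_permChar (G := G) (Ω := Ω) ▸ H43.gen_of_char H33.isCharacter_permChar
    have hff : Cfsg.IsGeneralizedCharacter G (fixC Ω (G := G) * fixC Ω (G := G)) :=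
      fixC_eq_permChar (G := G) (Ω := Ω) ▸ H43.gen_of_char
        (CharInduce.IsChar.mul H33.isCharacter_permChar H33.isCharacter_permChar)
    convert H43.gen_add (H43.gen_sub (H43.gen_sub hff (isGen_half (G := G) Ω)) hf)
      (H43.gen_of_char (CharInduce.IsChar.one (G := G))) using 1
    funext g
    simp only [Pi.sub_apply, Pi.add_apply, Pi.mul_apply]
    ring
  · rw [Finset.sum_congr rfl fun g _ =>
      show ((fixC Ω g ^ 2 - 3 * fixC Ω g + 2 - swapC Ω g) / 2) ^ 2 =
      (1 / 4 : ℂ) * fixC Ω g ^ 4 - (3 / 2) * fixC Ω g ^ 3 + (13 / 4) * fixC Ω g ^ 2 -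
        3 * fixC Ω g + 1 - (1 / 2) * (swapC Ω g * fixC Ω g ^ 2) +
          (3 / 2) * (swapC Ω g * fixC Ω g) - swapC Ω g + (1 / 4) * swapC Ω g ^ 2 by ring]
    simp only [Finset.sum_add_distrib, Finset.sum_sub_distrib, ← Finset.mul_sum, Finset.sum_const,
      Finset.card_univ, nsmul_eq_mul, mul_one]
    linear_combination (1 / 4 : ℂ) * c4 - (3 / 2 : ℂ) * c3 + (13 / 4 : ℂ) * c2 - 3 * a1 -
      (1 / 2 : ℂ) * b3 + (3 / 2 : ℂ) * b2 - b1 + (1 / 4 : ℂ) * b4
  · obtain ⟨e1, e2⟩ := one_values (G := G) (Ω := Ω) h4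
    have h : (4 : ℝ) ≤ (Fintype.card Ω : ℝ) := by exact_mod_cast h4
    simp only [e1, e2, sub_zero, Complex.div_ofNat_re, Complex.sub_re, Complex.add_re, sq,
      Complex.mul_re, Complex.natCast_re, Complex.natCast_im, Complex.re_ofNat, Complex.im_ofNat]
    nlinarith

end Cfsg.Agent.H81
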