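import Cfsg.Agent.CharInduce.Ops
import Cfsg.Agent.H81.AlgInt
import Mathlib.Data.ZMod.Basic
import Mathlib.LinearAlgebra.Trace
import Mathlib.Data.Nat.Factorization.Induction

/-!
# Adams operations: `g ↦ χ (g ^ k)` is irreducible for `k` prime to the group order
-/

open scoped ComplexConjugate
open Module

namespace Cfsg.Agent.H81

/-- Entries of a matrix power as a sum over walks. -/
theorem matrix_pow_apply {n : ℕ} (A : Matrix (Fin n) (Fin n) ℂ) :
    ∀ (k : ℕ) (a b : Fin n), (A ^ (k + 1)) a b =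
      ∑ i : Fin k → Fin n, ∏ t : Fin (k + 1),
        A ((Fin.cons a i : Fin (k + 1) → Fin n) t) ((Fin.snoc i b : Fin (k + 1) → Fin n) t) := by
  intro k
  induction k with
  | zero => intro a b; simp [Fin.snoc]
  | succ k ih =>
    intro a b
    rw [pow_succ', Matrix.mul_apply]
    simp only [ih, Finset.mul_sum]
    rw [← Fintype.sum_prod_type']
    refine Fintype.sum_equiv (Fin.consEquiv fun _ => Fin n) _ _ fun x => ?_
    rw [Fin.prod_univ_succ (n := k + 1)]
    simp only [Fin.consEquiv, Equiv.coe_fn_mk, Fin.cons_zero, Fin.cons_succ]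
    rw [← Fin.cons_snoc_eq_snoc_cons, Fin.cons_zero]
    simp only [Fin.cons_succ]

/-- The trace of a matrix power as a sum over closed walks. -/
theorem matrix_trace_pow {n : ℕ} (A : Matrix (Fin n) (Fin n) ℂ) (q : ℕ) [NeZero q] :
    (A ^ q).trace = ∑ f : ZMod q → Fin n, ∏ t, A (f t) (f (t + 1)) := by
  obtain ⟨k, rfl⟩ : ∃ k, q = k + 1 := ⟨q - 1, (Nat.succ_pred (NeZero.ne q)).symm⟩
  rw [Matrix.trace]
  simp only [Matrix.diag_apply, matrix_pow_apply]
  rw [← Fintype.sum_prod_type']
  refine Fintype.sum_equiv (Fin.consEquiv fun _ => Fin n) _ _ fun x => ?_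
  show _ = ∏ t : Fin (k + 1), A ((Fin.cons x.1 x.2 : Fin (k + 1) → Fin n) t)
    ((Fin.cons x.1 x.2 : Fin (k + 1) → Fin n) (t + 1))
  refine Finset.prod_congr rfl fun t _ => ?_
  congr 1
  refine Fin.lastCases ?_ (fun j => ?_) t
  · simp
  · rw [Fin.snoc_castSucc, show (j.castSucc + 1 : Fin (k + 1)) = j.succ from
      Fin.coeSucc_eq_succ, Fin.cons_succ]

universe u

variable {G : Type u} [Group G] [Fintype G]

/-- For a prime `q`, the function `g ↦ χ (g ^ q)` is a generalized character. -/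
theorem isGen_comp_pow_prime {χ : G → ℂ} (hχ : Cfsg.IsCharacter G χ) {q : ℕ} (hq : q.Prime) :
    Cfsg.IsGeneralizedCharacter G (fun g => χ (g ^ q)) := by
  classical
  haveI : Fact q.Prime := ⟨hq⟩
  have hcl : Cfsg.IsClassFunction G (fun g => χ (g ^ q)) := fun g h => by
    show χ ((h * g * h⁻¹) ^ q) = χ (g ^ q)
    rw [conj_pow]
    exact CharBasic.IsChar.isClassFunction hχ _ _
  refine CharInduce.isGeneralizedCharacter_of_coeff hcl fun ψ => ?_
  obtain ⟨n, ρ, rfl⟩ := hχ
  let A : G → Matrix (Fin n) (Fin n) ℂ := fun g => LinearMap.toMatrix' (ρ g)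
  have hA1 : A 1 = 1 := by simp [A, Module.End.one_eq_id]
  have hAmul : ∀ g h, A (g * h) = A g * A h := fun g h => by
    simp [A, LinearMap.toMatrix'_comp, Module.End.mul_eq_comp]
  have hApow : ∀ g (k : ℕ), A (g ^ k) = A g ^ k := by
    intro g k
    induction k with
    | zero => simp [hA1]
    | succ k ih => rw [pow_succ, pow_succ, hAmul, ih]
  have htr : ∀ g, ρ.character g = (A g).trace := fun g => by
    rw [Representation.character, LinearMap.trace_eq_matrix_trace ℂ (Pi.basisFun ℂ (Fin n))]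
    rfl
  let T : Type := ZMod q → Fin n
  let B : G → Matrix T T ℂ := fun g => Matrix.of fun i j => ∏ t, A g (i t) (j t)
  have hBmul : ∀ g h, B (g * h) = B g * B h := by
    intro g h
    ext i j
    simp only [B, Matrix.mul_apply, Matrix.of_apply, hAmul, ← Finset.prod_mul_distrib]
    rw [Finset.prod_univ_sum]
    rw [Fintype.piFinset_univ]
  have hB1 : B 1 = 1 := by
    ext i j
    simp only [B, hA1, Matrix.of_apply, Matrix.one_apply]
    by_cases h : i = j
    · simp [h]
    · obtain ⟨t, ht⟩ := Function.ne_iff.1 h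
      rw [if_neg h]
      exact Finset.prod_eq_zero (Finset.mem_univ t) (if_neg ht)
  let R : Representation ℂ G (T → ℂ) :=
    { toFun := fun g => Matrix.toLin' (B g)
      map_one' := by rw [hB1, Matrix.toLin'_one]; rfl
      map_mul' := fun g h => by rw [hBmul, Matrix.toLin'_mul]; rfl }
  -- the cyclic shift
  let σ : ZMod q → T ≃ T := fun m =>
    (Equiv.addRight m).arrowCongr (Equiv.refl (Fin n))
  have hσ : ∀ m i t, σ m i t = i (t - m) := fun m i t => by
    simp [σ, Equiv.arrowCongr, sub_eq_add_neg]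
  let c : Module.End ℂ (T → ℂ) := LinearMap.funLeft ℂ ℂ (σ 1)
  have hcm : ∀ m : ℕ, ∀ v i, (c ^ m) v i = v (σ (m : ZMod q) i) := by
    intro m
    induction m with
    | zero =>
      intro v i
      exact congrArg v (funext fun t => by rw [hσ]; simp)
    | succ m ih =>
      intro v i
      rw [pow_succ, Module.End.mul_apply, ih]
      simp only [c, LinearMap.funLeft_apply]
      refine congrArg v (funext fun t => ?_)
      simp only [hσ]
      congr 1
      push_cast
      ring
  have hcomm : ∀ g, Commute (R g) c := by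
    intro g
    refine LinearMap.ext fun v => funext fun i => ?_
    simp only [Module.End.mul_apply, c, LinearMap.funLeft_apply]
    show (B g).mulVec (v ∘ σ 1) i = (B g).mulVec v (σ 1 i)
    simp only [Matrix.mulVec, dotProduct, Function.comp_apply]
    refine Fintype.sum_equiv (σ 1) _ _ fun j => ?_
    congr 1
    simp only [B, Matrix.of_apply]
    exact Fintype.prod_equiv (Equiv.addRight (1 : ZMod q)) _ _ fun t => by
      simp [σ, Equiv.arrowCongr]
  -- traces
  have htrace : ∀ m : ℕ, (m : ZMod q) ≠ 0 → ∀ g,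
      LinearMap.trace ℂ _ (c ^ m * R g) = ρ.character (g ^ q) := by
    intro m hm g
    rw [LinearMap.trace_eq_matrix_trace ℂ (Pi.basisFun ℂ T), htr, hApow, matrix_trace_pow]
    simp only [Matrix.trace, Matrix.diag_apply, LinearMap.toMatrix_apply, Pi.basisFun_repr,
      Pi.basisFun_apply, Module.End.mul_apply, hcm]
    let μ : ZMod q ≃ ZMod q := Equiv.mulRight₀ (m : ZMod q) hm
    refine Fintype.sum_equiv (μ.symm.arrowCongr (Equiv.refl (Fin n))) _ _ fun i => ?_
    show (B g).mulVec (Pi.single i 1) (σ m i) = _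
    rw [Matrix.mulVec_single_one]
    simp only [Matrix.col_apply, B, Matrix.of_apply]
    refine Fintype.prod_equiv (μ.symm.trans (Equiv.subRight (1 : ZMod q))) _ _ fun t => ?_
    show A g (σ m i t) (i t) = A g (i (μ (μ.symm t - 1))) (i (μ (μ.symm t - 1 + 1)))
    rw [hσ]
    have h1 : μ (μ.symm t - 1) = t - (m : ZMod q) := by
      rw [show μ (μ.symm t - 1) = μ (μ.symm t) - μ 1 from sub_mul _ _ _, μ.apply_symm_apply,
        show μ 1 = (m : ZMod q) from one_mul _]
    rw [h1, sub_add_cancel, μ.apply_symm_apply]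
  -- eigenspaces
  have hcq : c ^ q = 1 := by
    refine LinearMap.ext fun v => funext fun i => ?_
    rw [hcm]
    simp [σ, Equiv.arrowCongr, Function.comp_def]
  have hsq : Squarefree (Polynomial.X ^ q - Polynomial.C (1 : ℂ)) :=
    (Polynomial.separable_X_pow_sub_C (1 : ℂ) (by exact_mod_cast hq.ne_zero) one_ne_zero).squarefree
  have hss : c.IsSemisimple :=
    Module.End.isSemisimple_of_squarefree_aeval_eq_zero hsq (by simp [hcq])
  have hint : DirectSum.IsInternal fun μ : ℂ => c.eigenspace μ :=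
    (DirectSum.isInternal_submodule_iff_iSupIndep_and_iSup_eq_top _).2
      ⟨c.eigenspaces_iSupIndep, hss.iSup_eigenspace_eq_top⟩
  let E : ℂ → Subrepresentation R := fun μ => ⟨c.eigenspace μ, fun g v hv => by
    rw [Module.End.mem_eigenspace_iff] at hv ⊢
    rw [← Module.End.mul_apply, ← (hcomm g).eq, Module.End.mul_apply, hv, map_smul]⟩
  have hroot : ∀ μ : ℂ, c.eigenspace μ ≠ ⊥ → μ ^ q = 1 := by
    intro μ hμ
    obtain ⟨v, hv, hv0⟩ := Submodule.exists_mem_ne_zero_of_ne_bot hμ
    have h := (show Module.End.HasEigenvector c μ v from ⟨hv, hv0⟩).pow_apply q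
    rw [hcq, Module.End.one_apply] at h
    have : ((1 : ℂ) - μ ^ q) • v = 0 := by rw [sub_smul, one_smul, ← h, sub_self]
    exact (sub_eq_zero.1 ((smul_eq_zero.1 this).resolve_right hv0)).symm
  have hfin : {μ : ℂ | c.eigenspace μ ≠ ⊥}.Finite :=
    (Polynomial.nthRootsFinset q (1 : ℂ)).finite_toSet.subset fun μ hμ =>
      (Polynomial.mem_nthRootsFinset hq.pos 1).2 (hroot μ hμ)
  let S := hfin.toFinset
  have hdec : ∀ m : ℕ, ∀ g, LinearMap.trace ℂ _ (c ^ m * R g) =
      ∑ μ ∈ S, μ ^ m * (E μ).toRepresentation.character g := by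
    intro m g
    have hmaps : ∀ μ, Set.MapsTo (c ^ m * R g) (c.eigenspace μ) (c.eigenspace μ) := by
      intro μ v hv
      simp only [SetLike.mem_coe, Module.End.mem_eigenspace_iff] at hv ⊢
      have hc' : Commute (c ^ m * R g) c := (Commute.refl c).pow_left m |>.mul_left (hcomm g)
      rw [← Module.End.mul_apply c, ← hc'.eq, Module.End.mul_apply, hv, map_smul]
    rw [LinearMap.trace_eq_sum_trace_restrict' hint hfin hmaps]
    refine Finset.sum_congr rfl fun μ _ => ?_
    rw [show μ ^ m * (E μ).toRepresentation.character g =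
        LinearMap.trace ℂ _ (μ ^ m • (E μ).toRepresentation g) from by
      rw [map_smul, smul_eq_mul]; rfl]
    congr 1
    refine LinearMap.ext fun v => Subtype.ext ?_
    show (c ^ m) (R g v) = μ ^ m • R g v
    have hv : c (R g v) = μ • R g v :=
      Module.End.mem_eigenspace_iff.1 ((E μ).apply_mem_toSubmodule g v.2)
    clear hmaps
    induction m with
    | zero => simp
    | succ m ih => rw [pow_succ, Module.End.mul_apply, hv, map_smul, ih, smul_smul, pow_succ']
  have hk : ∀ μ : ℂ, ∃ k : ℕ,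
      Cfsg.classInner (E μ).toRepresentation.character (ψ : G → ℂ) = (k : ℂ) := fun μ =>
    CharBasic.classInner_isChar_nat (CharBasic.isCharacter_character _)
      (CharBasic.IsIrr.isCharacter ψ.2)
  choose k hk using hk
  set a := fun g => ρ.character (g ^ q) with ha
  have hcoef : ∀ m : ℕ, (m : ZMod q) ≠ 0 →
      Cfsg.classInner a (ψ : G → ℂ) = ∑ μ ∈ S, μ ^ m * (k μ : ℂ) := by
    intro m hm
    have : a = ∑ μ ∈ S, μ ^ m • (E μ).toRepresentation.character := funext fun g => by
      rw [Finset.sum_apply, ha]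
      simp only [Pi.smul_apply, smul_eq_mul]
      rw [← htrace m hm g, hdec]
    rw [this, CharBasic.classInner_sum_left]
    exact Finset.sum_congr rfl fun μ _ => by rw [CharBasic.classInner_smul_left, hk]
  have hintg : IsIntegral ℤ (Cfsg.classInner a (ψ : G → ℂ)) := by
    rw [hcoef 1 (by simp)]
    refine IsIntegral.sum _ fun μ hμ =>
      IsIntegral.mul ?_ (by simpa using (isIntegral_algebraMap (R := ℤ) (A := ℂ) (x := (k μ : ℤ))))
    rw [pow_one]
    exact IsIntegral.of_pow hq.pos (by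
      rw [hroot μ (hfin.mem_toFinset.1 hμ)]; exact isIntegral_one)
  -- rationality
  let w : ℂ → ℤ := fun μ => if μ = 1 then (q : ℤ) - 1 else -1
  have hw : ∀ μ ∈ S, ∑ m ∈ Finset.Ico 1 q, μ ^ m = (w μ : ℂ) := by
    intro μ hμ
    simp only [w]
    split_ifs with h1
    · simp [h1, Nat.cast_sub hq.one_le]
    · have hg : ∑ m ∈ Finset.range q, μ ^ m = 0 := by
        rw [geom_sum_eq h1, hroot μ (hfin.mem_toFinset.1 hμ), sub_self, zero_div]
      rw [← Finset.sum_range_add_sum_Ico _ hq.one_le, Finset.sum_range_one, pow_zero] at hg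
      push_cast
      linear_combination hg
  have hsum : ((q : ℂ) - 1) * Cfsg.classInner a (ψ : G → ℂ) =
      ((∑ μ ∈ S, w μ * (k μ : ℤ) : ℤ) : ℂ) := by
    have h : ∑ m ∈ Finset.Ico 1 q, Cfsg.classInner a (ψ : G → ℂ) =
        ∑ m ∈ Finset.Ico 1 q, ∑ μ ∈ S, μ ^ m * (k μ : ℂ) := by
      refine Finset.sum_congr rfl fun m hm => hcoef m ?_
      rw [Ne, ZMod.natCast_eq_zero_iff]
      exact fun hd => absurd (Nat.le_of_dvd (Finset.mem_Ico.1 hm).1 hd)
        (not_le.2 (Finset.mem_Ico.1 hm).2)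
    rw [Finset.sum_comm, Finset.sum_const, Nat.card_Ico, nsmul_eq_mul,
      Nat.cast_sub hq.one_le, Nat.cast_one] at h
    rw [h]
    push_cast
    exact Finset.sum_congr rfl fun μ hμ => by rw [← Finset.sum_mul, hw μ hμ]
  have hq1 : (q : ℂ) - 1 ≠ 0 := sub_ne_zero.2 (by exact_mod_cast hq.one_lt.ne')
  set Z : ℤ := ∑ μ ∈ S, w μ * (k μ : ℤ)
  have hrat : Cfsg.classInner a (ψ : G → ℂ) = (((Z : ℚ) / ((q : ℚ) - 1) : ℚ) : ℂ) := by
    push_cast
    rw [eq_div_iff hq1, mul_comm]
    exact hsum
  obtain ⟨z, hz⟩ := int_of_isIntegral_ratCast (hrat ▸ hintg)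
  exact ⟨z, by rw [hrat, ← hz]; simp⟩

omit [Fintype G] in
/-- `g ↦ χ (g ^ k)` is irreducible when `k` is prime to the group order. -/
theorem isIrr_comp_pow [Finite G] {k : ℕ} (hk : Nat.Coprime k (Nat.card G)) {χ : G → ℂ}
    (hχ : Cfsg.IsIrrCharacter G χ) : Cfsg.IsIrrCharacter G (fun g => χ (g ^ k)) := by
  cases nonempty_fintype G
  revert χ
  refine Nat.recOnMul (motive := fun k => Nat.Coprime k (Nat.card G) → ∀ {χ : G → ℂ},
    Cfsg.IsIrrCharacter G χ → Cfsg.IsIrrCharacter G (fun g => χ (g ^ k))) ?_ ?_ ?_ ?_ k hk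
  · intro h0 χ hχ
    have hG : Nat.card G = 1 := by simpa using h0
    haveI := (Nat.card_eq_one_iff_unique.1 hG).1
    rwa [show (fun g => χ (g ^ 0)) = χ from funext fun g => congrArg χ (Subsingleton.elim _ _)]
  · intro _ χ hχ
    simpa using hχ
  · intro q hq hco χ hχ
    have hgen := isGen_comp_pow_prime (CharBasic.IsIrr.isCharacter hχ) hq
    have hnorm : Cfsg.classInner (fun g => χ (g ^ q)) (fun g => χ (g ^ q)) = 1 := by
      rw [← CharBasic.classInner_irr_self hχ, Cfsg.classInner, Cfsg.classInner]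
      congr 1
      exact Fintype.sum_bijective (· ^ q) (powCoprime hco.symm).bijective _ _ fun g => rfl
    obtain ⟨ψ, h | h⟩ := CharInduce.IsGen.eq_irr_or_neg hgen hnorm
    · exact h ▸ ψ.2
    · exfalso
      obtain ⟨a, ha, hχ1⟩ := CharBasic.IsIrr.exists_degree hχ
      obtain ⟨b, hb, hψ1⟩ := CharBasic.IsIrr.exists_degree ψ.2
      have := congrFun h 1
      simp only [one_pow, Pi.neg_apply, hχ1, hψ1] at this
      have h' : ((a + b : ℕ) : ℂ) = 0 := by push_cast; rw [this]; ring
      have : a + b = 0 := by exact_mod_cast h'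
      omega
  · intro a b ha hb hab χ hχ
    have := hb (Nat.Coprime.coprime_mul_left hab) (ha (Nat.Coprime.coprime_mul_right hab) hχ)
    simpa [← pow_mul, mul_comm] using this

end Cfsg.Agent.H81
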