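import Cfsg.Agent.BlockBasic.Kernel
import Cfsg.Agent.BlockBasic.Center
import Cfsg.Agent.H81.FixedOver

/-!
# The principal block of a central product with `p`-group intersection
-/

open scoped ComplexConjugate
open Cfsg.Agent.BlockBasic

namespace Cfsg.Agent.H81

universe u

variable {G : Type u} [Group G] {U₁ U₂ : Subgroup G}

theorem normal_of_commuting_sup (hcomm : ∀ u ∈ U₁, ∀ v ∈ U₂, u * v = v * u) (hgen : U₁ ⊔ U₂ = ⊤) :
    U₁.Normal := by
  rw [← Subgroup.normalizer_eq_top_iff, eq_top_iff, ← hgen, sup_le_iff]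
  refine ⟨Subgroup.le_normalizer, ?_⟩
  intro v hv
  exact Subgroup.centralizer_le_normalizer _
    (Subgroup.mem_centralizer_iff.2 fun u hu => hcomm u hu v hv)

theorem exists_mul_eq (hcomm : ∀ u ∈ U₁, ∀ v ∈ U₂, u * v = v * u) (hgen : U₁ ⊔ U₂ = ⊤) (g : G) :
    ∃ a ∈ U₁, ∃ b ∈ U₂, g = a * b := by
  haveI := normal_of_commuting_sup hcomm hgen
  have h : g ∈ U₁ ⊔ U₂ := hgen ▸ Subgroup.mem_top g
  rw [Subgroup.mem_sup_of_normal_left] at h
  obtain ⟨a, ha, b, hb, h⟩ := h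
  exact ⟨a, ha, b, hb, h.symm⟩

/-- Two elements of one factor are conjugate in the group exactly when they are in the factor. -/
theorem isConj_iff_of_commuting (hcomm : ∀ u ∈ U₁, ∀ v ∈ U₂, u * v = v * u) (hgen : U₁ ⊔ U₂ = ⊤)
    (a : U₁) (h : G) : IsConj (a : G) h ↔ ∃ b : U₁, IsConj a b ∧ (b : G) = h := by
  constructor
  · intro hh
    obtain ⟨c, rfl⟩ := isConj_iff.1 hh
    obtain ⟨x, hx, y, hy, rfl⟩ := exists_mul_eq hcomm hgen c
    refine ⟨⟨x, hx⟩ * a * ⟨x, hx⟩⁻¹, isConj_iff.2 ⟨⟨x, hx⟩, rfl⟩, ?_⟩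
    show x * a * x⁻¹ = x * y * a * (x * y)⁻¹
    calc x * a * x⁻¹ = x * ((a : G) * y) * y⁻¹ * x⁻¹ := by group
      _ = _ := by rw [hcomm a a.2 y hy]; group
  · rintro ⟨b, hb, rfl⟩
    obtain ⟨c, hc⟩ := isConj_iff.1 hb
    exact isConj_iff.2 ⟨c, congrArg Subtype.val hc⟩

variable [Fintype G] [Fintype U₁]

theorem classSize_subgroup (hcomm : ∀ u ∈ U₁, ∀ v ∈ U₂, u * v = v * u) (hgen : U₁ ⊔ U₂ = ⊤)
    (a : U₁) :
    (Subgroup.centralizer ({(a : G)} : Set G)).index =
      (Subgroup.centralizer ({a} : Set U₁)).index := by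
  classical
  rw [← card_class, ← card_class]
  refine Eq.trans ?_ (Finset.card_image_of_injective _ Subtype.val_injective)
  congr 1
  ext h
  simp only [Finset.mem_filter, Finset.mem_univ, true_and, Finset.mem_image]
  exact isConj_iff_of_commuting hcomm hgen a h

/-- The central character of a constituent on a factor. -/
theorem centralChar_factor (hcomm : ∀ u ∈ U₁, ∀ v ∈ U₂, u * v = v * u) (hgen : U₁ ⊔ U₂ = ⊤)
    (χ : IrrCharacter G) (ψ : IrrCharacter U₁)
    (hover : classInner (fun u : U₁ => (χ : G → ℂ) u) (ψ : U₁ → ℂ) ≠ 0) (a : U₁) :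
    centralChar (χ : G → ℂ) (a : G) = centralChar (ψ : U₁ → ℂ) a := by
  haveI := normal_of_commuting_sup hcomm hgen
  have hinv : ∀ x : G, CharInduce.conjFun U₁ (ψ : U₁ → ℂ) x = (ψ : U₁ → ℂ) := fun x => by
    funext b
    obtain ⟨c, hc, d, hd, rfl⟩ := exists_mul_eq hcomm hgen x
    simp only [CharInduce.conjFun]
    refine Eq.trans (congrArg (ψ : U₁ → ℂ) (Subtype.ext ?_))
      (CharBasic.IsIrr.isClassFunction ψ.2 b ⟨c, hc⟩)
    show c * d * b * (c * d)⁻¹ = c * b * c⁻¹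
    calc c * d * b * (c * d)⁻¹ = c * (d * (b : G)) * d⁻¹ * c⁻¹ := by group
      _ = _ := by rw [← hcomm b b.2 d hd]; group
  have h1 := res_eq_mul U₁ ψ.2 hinv χ.2 hover a
  have h2 := res_eq_mul U₁ ψ.2 hinv χ.2 hover 1
  rw [Subgroup.coe_one] at h2
  rw [centralChar, centralChar, classSize_subgroup hcomm hgen, h1, h2, mul_left_comm,
    mul_div_mul_left _ _ hover]

omit [Fintype U₁] in
/-- The value on a product of commuting factors. -/
theorem apply_mul_factor (hcomm : ∀ u ∈ U₁, ∀ v ∈ U₂, u * v = v * u) (hgen : U₁ ⊔ U₂ = ⊤)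
    (χ : IrrCharacter G) {u v : G} (hu : u ∈ U₁) (hv : v ∈ U₂) :
    (χ : G → ℂ) (u * v) * (χ : G → ℂ) 1 = (χ : G → ℂ) u * (χ : G → ℂ) v := by
  classical
  have hcl := CharBasic.IsIrr.isClassFunction χ.2
  have hlin := chiLin_central_mul χ.2 (isCentralElt_classSum v) (MonoidAlgebra.single u 1)
  rw [chiLin_single, one_mul, omega_classSum hcl] at hlin
  have hl : chiLin (χ : G → ℂ) (classSum v * MonoidAlgebra.single u 1) =
      ((Subgroup.centralizer ({v} : Set G)).index : ℂ) * (χ : G → ℂ) (u * v) := by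
    simp only [chiLin, MonoidAlgebra.coeff_mul_single_apply, classSum, coeff_ofFun, mul_one,
      ite_mul, one_mul, zero_mul]
    rw [← Fintype.sum_equiv (Equiv.mulRight u) (fun y => if IsConj v y then (χ : G → ℂ) (y * u) else 0)
      _ (fun y => by simp), ← Finset.sum_filter,
      Finset.sum_congr rfl (g := fun _ => (χ : G → ℂ) (u * v)) fun y hy => ?_]
    · rw [Finset.sum_const, nsmul_eq_mul, ← card_class v]
      congr!
    · obtain ⟨x, rfl⟩ := isConj_iff.1 (Finset.mem_filter.1 hy).2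
      obtain ⟨c, hc, d, hd, rfl⟩ := exists_mul_eq hcomm hgen x
      have e1 : c * d * v * (c * d)⁻¹ = d * v * d⁻¹ := by
        calc c * d * v * (c * d)⁻¹ = c * (d * v * d⁻¹) * c⁻¹ := by group
          _ = (d * v * d⁻¹) * c * c⁻¹ := by
            rw [hcomm c hc _ (U₂.mul_mem (U₂.mul_mem hd hv) (U₂.inv_mem hd))]
          _ = _ := by group
      rw [e1, show d * v * d⁻¹ * u = d * (u * v) * d⁻¹ by
        calc d * v * d⁻¹ * u = d * v * (d⁻¹ * u) := by group
          _ = d * v * (u * d⁻¹) := by rw [hcomm u hu d⁻¹ (U₂.inv_mem hd)]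
          _ = d * (v * u) * d⁻¹ := by group
          _ = _ := by rw [hcomm u hu v hv]]
      exact hcl _ _
  rw [hl, centralChar] at hlin
  have h0 : ((Subgroup.centralizer ({v} : Set G)).index : ℂ) ≠ 0 :=
    Nat.cast_ne_zero.2 Subgroup.index_ne_zero_of_finite
  have h1 := irr_one_ne_zero χ.2
  field_simp at hlin
  linear_combination hlin

omit [Fintype G] [Fintype U₁] in
theorem not_dvd_of_pReg_mem [Finite G] {p : ℕ} [Fact p.Prime] {z : G}
    (hz : ∃ k, orderOf z = p ^ k) (h : ¬ p ∣ orderOf z) : z = 1 := by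
  obtain ⟨k, hk⟩ := hz
  rcases k with _ | k
  · rwa [pow_zero, orderOf_eq_one_iff] at hk
  · exact absurd (hk ▸ dvd_pow_self p k.succ_ne_zero) h

omit [Fintype U₁] in
/-- Regular parts multiply: classes of regular elements of the factors multiply bijectively. -/
theorem centralChar_mul_factor {p : ℕ} [Fact p.Prime]
    (hcomm : ∀ u ∈ U₁, ∀ v ∈ U₂, u * v = v * u) (hgen : U₁ ⊔ U₂ = ⊤)
    (hZ : IsPGroup p ↥(U₁ ⊓ U₂)) (χ : IrrCharacter G) {u v : G} (hu : u ∈ U₁) (hv : v ∈ U₂)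
    (hu' : ¬ p ∣ orderOf u) (hv' : ¬ p ∣ orderOf v) :
    centralChar (χ : G → ℂ) (u * v) = centralChar (χ : G → ℂ) u * centralChar (χ : G → ℂ) v := by
  classical
  have hN₁ := normal_of_commuting_sup hcomm hgen
  have hN₂ := normal_of_commuting_sup (U₁ := U₂) (U₂ := U₁)
    (fun a ha b hb => (hcomm b hb a ha).symm) (by rw [sup_comm]; exact hgen)
  have hord : ∀ {a b : G}, IsConj a b → orderOf a = orderOf b := fun {a b} h => by
    obtain ⟨c, rfl⟩ := isConj_iff.1 h
    exact (MulEquiv.orderOf_eq (MulAut.conj c) a).symm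
  have hidx : (Subgroup.centralizer ({u * v} : Set G)).index =
      (Subgroup.centralizer ({u} : Set G)).index * (Subgroup.centralizer ({v} : Set G)).index := by
    simp only [← card_class]
    rw [← Finset.card_product]
    symm
    refine Finset.card_bij (fun x _ => x.1 * x.2) (fun x hx => ?_) (fun x hx y hy he => ?_)
      (fun w hw => ?_)
    · simp only [Finset.mem_product, Finset.mem_filter, Finset.mem_univ, true_and] at hx ⊢
      obtain ⟨c, hc⟩ := isConj_iff.1 hx.1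
      obtain ⟨d, hd⟩ := isConj_iff.1 hx.2
      obtain ⟨c₁, hc₁, c₂, hc₂, rfl⟩ := exists_mul_eq hcomm hgen c
      obtain ⟨d₁, hd₁, d₂, hd₂, rfl⟩ := exists_mul_eq hcomm hgen d
      refine isConj_iff.2 ⟨c₁ * d₂, ?_⟩
      rw [← hc, ← hd]
      have a1 : c₁ * c₂ * u * (c₁ * c₂)⁻¹ = c₁ * u * c₁⁻¹ := by
        calc c₁ * c₂ * u * (c₁ * c₂)⁻¹ = c₁ * (c₂ * u) * c₂⁻¹ * c₁⁻¹ := by group
          _ = _ := by rw [← hcomm u hu c₂ hc₂]; group
      have a2 : d₁ * d₂ * v * (d₁ * d₂)⁻¹ = d₂ * v * d₂⁻¹ := by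
        calc d₁ * d₂ * v * (d₁ * d₂)⁻¹ = d₁ * (d₂ * v * d₂⁻¹) * d₁⁻¹ := by group
          _ = (d₂ * v * d₂⁻¹) * d₁ * d₁⁻¹ := by
            rw [hcomm d₁ hd₁ _ (U₂.mul_mem (U₂.mul_mem hd₂ hv) (U₂.inv_mem hd₂))]
          _ = _ := by group
      rw [a1, a2]
      calc c₁ * d₂ * (u * v) * (c₁ * d₂)⁻¹ = c₁ * (d₂ * u) * (v * d₂⁻¹) * c₁⁻¹ := by group
        _ = c₁ * u * ((d₂ * v * d₂⁻¹) * c₁⁻¹) := by rw [← hcomm u hu d₂ hd₂]; group
        _ = _ := by
            rw [← hcomm c₁⁻¹ (U₁.inv_mem hc₁) _ (U₂.mul_mem (U₂.mul_mem hd₂ hv) (U₂.inv_mem hd₂))]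
            group
    · simp only [Finset.mem_product, Finset.mem_filter, Finset.mem_univ, true_and] at hx hy
      have hmem : ∀ (W : Subgroup G), W.Normal → ∀ {a b : G}, a ∈ W → IsConj a b → b ∈ W := by
        intro W hW a b ha h
        obtain ⟨c, rfl⟩ := isConj_iff.1 h
        exact hW.conj_mem a ha c
      have hx1 := hmem U₁ hN₁ hu hx.1
      have hy1 := hmem U₁ hN₁ hu hy.1
      have hx2 := hmem U₂ hN₂ hv hx.2
      have hy2 := hmem U₂ hN₂ hv hy.2
      set z := y.1⁻¹ * x.1 with hz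
      have hz' : z = y.2 * x.2⁻¹ := by
        rw [hz, inv_mul_eq_iff_eq_mul, ← mul_assoc, eq_mul_inv_iff_mul_eq]; exact he
      have hzU : z ∈ U₁ ⊓ U₂ :=
        ⟨U₁.mul_mem (U₁.inv_mem hy1) hx1, hz' ▸ U₂.mul_mem hy2 (U₂.inv_mem hx2)⟩
      have hzc : Commute y.1 z := by rw [hz']; exact hcomm _ hy1 _ (hz' ▸ hzU.2 : y.2 * x.2⁻¹ ∈ U₂)
      have hxz : x.1 = y.1 * z := by rw [hz, mul_inv_cancel_left]
      have hzk : ∃ k, orderOf z = p ^ k := by
        obtain ⟨k, hk⟩ := IsPGroup.iff_orderOf.1 hZ ⟨z, hzU⟩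
        exact ⟨k, by rw [← hk, Subgroup.orderOf_mk]⟩
      have hz1 : z = 1 := by
        have h1 : pPart (p := p) x.1 = 1 := (pPart_eq_one_iff _).2 (by rw [← hord hx.1]; exact hu')
        rw [hxz, hzc.eq] at h1
        rwa [pPart_mul_of hzc.symm hzk (by rw [← hord hy.1]; exact hu')] at h1
      refine Prod.ext (by rw [hxz, hz1, mul_one]) ?_
      rw [hz1, eq_comm, mul_inv_eq_one] at hz'
      exact hz'.symm
    · simp only [Finset.mem_filter, Finset.mem_univ, true_and] at hw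
      obtain ⟨c, rfl⟩ := isConj_iff.1 hw
      refine ⟨(c * u * c⁻¹, c * v * c⁻¹), ?_, by group⟩
      simp only [Finset.mem_product, Finset.mem_filter, Finset.mem_univ, true_and]
      exact ⟨isConj_iff.2 ⟨c, rfl⟩, isConj_iff.2 ⟨c, rfl⟩⟩
  have h1 := irr_one_ne_zero χ.2
  have h2 := apply_mul_factor hcomm hgen χ hu hv
  rw [centralChar, centralChar, centralChar, hidx]
  push_cast
  field_simp
  linear_combination
    ((Subgroup.centralizer ({u} : Set G)).index : ℂ) * ((Subgroup.centralizer ({v} : Set G)).index : ℂ) * h2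

variable [Fintype U₂]

theorem mem_principalBlock_central_product {p : ℕ} [Fact p.Prime] {M : Ideal AlgInt}
    (hM : IsPModular p M) (hcomm : ∀ u ∈ U₁, ∀ v ∈ U₂, u * v = v * u) (hgen : U₁ ⊔ U₂ = ⊤)
    (hZ : IsPGroup p ↥(U₁ ⊓ U₂)) (χ : IrrCharacter G) (ψ₁ : IrrCharacter U₁) (ψ₂ : IrrCharacter U₂)
    (h₁ : classInner (fun u : U₁ => (χ : G → ℂ) u) (ψ₁ : U₁ → ℂ) ≠ 0)
    (h₂ : classInner (fun u : U₂ => (χ : G → ℂ) u) (ψ₂ : U₂ → ℂ) ≠ 0) :
    χ ∈ principalBlock M G ↔ ψ₁ ∈ principalBlock M U₁ ∧ ψ₂ ∈ principalBlock M U₂ := by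
  classical
  have hcomm' : ∀ u ∈ U₂, ∀ v ∈ U₁, u * v = v * u := fun a ha b hb => (hcomm b hb a ha).symm
  have hgen' : U₂ ⊔ U₁ = ⊤ := by rw [sup_comm]; exact hgen
  let one : IrrCharacter G := trivialIrr
  have ho₁ : classInner (fun u : U₁ => (one : G → ℂ) u)
      ((trivialIrr : IrrCharacter U₁) : U₁ → ℂ) ≠ 0 := by
    show classInner ((trivialIrr : IrrCharacter U₁) : U₁ → ℂ) _ ≠ 0
    rw [CharBasic.classInner_irr_self (trivialIrr : IrrCharacter U₁).2]
    exact one_ne_zero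
  have ho₂ : classInner (fun u : U₂ => (one : G → ℂ) u)
      ((trivialIrr : IrrCharacter U₂) : U₂ → ℂ) ≠ 0 := by
    show classInner ((trivialIrr : IrrCharacter U₂) : U₂ → ℂ) _ ≠ 0
    rw [CharBasic.classInner_irr_self (trivialIrr : IrrCharacter U₂).2]
    exact one_ne_zero
  have e₁ := centralChar_factor hcomm hgen χ ψ₁ h₁
  have e₂ := centralChar_factor hcomm' hgen' χ ψ₂ h₂
  have o₁ := centralChar_factor hcomm hgen one _ ho₁
  have o₂ := centralChar_factor hcomm' hgen' one _ ho₂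
  constructor
  · intro h
    refine ⟨fun a => ?_, fun a => ?_⟩
    · show MemLocalIdeal M (centralChar ((trivialIrr : IrrCharacter U₁) : U₁ → ℂ) a - _)
      rw [← o₁, ← e₁]
      exact h _
    · show MemLocalIdeal M (centralChar ((trivialIrr : IrrCharacter U₂) : U₂ → ℂ) a - _)
      rw [← o₂, ← e₂]
      exact h _
  · rintro ⟨k₁, k₂⟩
    show SameBlock M (one : G → ℂ) (χ : G → ℂ)
    refine sameBlock_of_congr_regular hM fun g hg => ?_
    obtain ⟨a, ha, b, hb, rfl⟩ := exists_mul_eq hcomm hgen g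
    obtain ⟨a', hya, hca, hka, hna⟩ := isPPart_pPart (p := p) a
    obtain ⟨b', hyb, hcb, hkb, hnb⟩ := isPPart_pPart (p := p) b
    have hmem : ∀ (W : Subgroup G) (x : G), x ∈ W →
        pPart (p := p) x ∈ W ∧ pReg (p := p) x ∈ W := by
      intro W x hx
      obtain ⟨y, hy, hc, ⟨k, hk⟩, hn⟩ := isPPart_pPart (p := p) x
      obtain ⟨v, m, hm, hvm⟩ := Nat.exists_eq_pow_mul_and_not_dvd (orderOf_pos x).ne' p
        (Fact.out : p.Prime).ne_one
      have hp : pPart (p := p) x ∈ W := by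
        have hy' : y ^ orderOf y = 1 := pow_orderOf_eq_one y
        obtain ⟨j, hj⟩ := exists_pow_eq_self_of_coprime (x := pPart (p := p) x) (n := orderOf y)
          (by rw [hk]; exact (((Fact.out : p.Prime).coprime_iff_not_dvd.2 hn).pow_left k).symm)
        have : x ^ orderOf y = pPart (p := p) x ^ orderOf y := by
          conv_lhs => rw [← hy]
          rw [hc.mul_pow, hy', mul_one]
        rw [← hj, ← this]
        exact W.pow_mem (W.pow_mem hx _) _
      exact ⟨hp, W.mul_mem (W.inv_mem hp) hx⟩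
    have hra : pReg (p := p) a = a' := inv_mul_eq_iff_eq_mul.2 hya.symm
    have hrb : pReg (p := p) b = b' := inv_mul_eq_iff_eq_mul.2 hyb.symm
    have ha' : a' ∈ U₁ := hra ▸ (hmem U₁ a ha).2
    have hb' : b' ∈ U₂ := hrb ▸ (hmem U₂ b hb).2
    have hap := (hmem U₁ a ha).1
    have hbp := (hmem U₂ b hb).1
    set x := pPart (p := p) a
    set y := pPart (p := p) b
    have hreg : ¬ p ∣ orderOf (a' * b') := fun hd => by
      have hc : Commute a' b' := hcomm _ ha' _ hb'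
      rcases (Nat.Prime.dvd_mul Fact.out).1 (hd.trans hc.orderOf_mul_dvd_mul_orderOf) with h | h
      exacts [hna h, hnb h]
    have hxy : ∃ k, orderOf (x * y) = p ^ k := by
      obtain ⟨i, hi⟩ := hka
      obtain ⟨j, hj⟩ := hkb
      have hc : Commute x y := hcomm _ hap _ hbp
      have hd := hc.orderOf_mul_dvd_mul_orderOf
      rw [hi, hj, ← pow_add] at hd
      obtain ⟨l, -, hl⟩ := (Nat.dvd_prime_pow Fact.out).1 hd
      exact ⟨l, hl⟩
    have hsplit : a * b = x * y * (a' * b') := by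
      rw [← hya, ← hyb]
      calc x * a' * (y * b') = x * (a' * y) * b' := by group
        _ = x * (y * a') * b' := by rw [hcomm _ ha' _ hbp]
        _ = _ := by group
    have hcc : Commute (x * y) (a' * b') := by
      have q1 : Commute x (a' * b') := hca.mul_right (hcomm _ hap _ hb')
      have q2 : Commute y (a' * b') := Commute.mul_right (Commute.symm (hcomm _ ha' _ hbp)) hcb
      exact q1.mul_left q2
    have hone : x * y = 1 := by
      have h0 := (pPart_eq_one_iff (p := p) (a * b)).2 hg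
      rwa [hsplit, pPart_mul_of hcc hxy hreg] at h0
    rw [hsplit, hone, one_mul, centralChar_mul_factor hcomm hgen hZ one ha' hb' hna hnb,
      centralChar_mul_factor hcomm hgen hZ χ ha' hb' hna hnb]
    have t₁ : MemLocalIdeal M (centralChar (one : G → ℂ) a' - centralChar (χ : G → ℂ) a') := by
      rw [show a' = ((⟨a', ha'⟩ : U₁) : G) from rfl, o₁, e₁]; exact k₁ _
    have t₂ : MemLocalIdeal M (centralChar (one : G → ℂ) b' - centralChar (χ : G → ℂ) b') := by
      rw [show b' = ((⟨b', hb'⟩ : U₂) : G) from rfl, o₂, e₂]; exact k₂ _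
    have := memLocalIdeal_add hM
      (memLocalIdeal_mul hM (memLocalRing_centralChar hM one.2 a') t₂)
      (memLocalIdeal_mul hM (memLocalRing_centralChar hM χ.2 b') t₁)
    convert this using 1
    ring

end Cfsg.Agent.H81
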