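import Mathlib.Analysis.Fourier.FiniteAbelian.PontryaginDuality
import Mathlib.GroupTheory.SemidirectProduct
import Mathlib.GroupTheory.Solvable
import Mathlib.GroupTheory.Perm.Cycle.Type
import Mathlib.LinearAlgebra.Matrix.ToLin

/-!
# Solvable groups inside groups of central type

A group is carried by a twisted basis if some full matrix algebra has a basis indexed by it that
multiplies like the group up to roots of unity. Such groups are closed under a symplectic wreath
construction, hence contain every solvable group.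
-/

universe u

namespace Cfsg.Agent.H81

/-- A basis of a full matrix algebra indexed by `K`, multiplicative up to `m`-th roots of unity. -/
def HasTwistedBasis (m : ℕ) (K : Type u) [Group K] [Fintype K] : Prop :=
  ∃ (ι : Type u) (_ : Fintype ι) (_ : DecidableEq ι) (M : K → Matrix ι ι ℂ) (c : K → K → ℂ),
    LinearIndependent ℂ M ∧ Fintype.card K = Fintype.card ι ^ 2 ∧ M 1 = 1 ∧
      ∀ x y, c x y ^ m = 1 ∧ M x * M y = c x y • M (x * y)

namespace CentralTypeStep

variable (K : Type u) [Group K] (A : Type u) [AddCommGroup A]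

/-- Left translation of functions. -/
def shift (k : K) : (K → A) →+ (K → A) where
  toFun u x := u (k⁻¹ * x)
  map_zero' := rfl
  map_add' _ _ := rfl

variable {K A}

theorem shift_shift (k l : K) (u : K → A) : shift K A k (shift K A l u) = shift K A (k * l) u :=
  funext fun x => congrArg u (by simp [mul_assoc])

theorem shift_one (u : K → A) : shift K A 1 u = u := funext fun x => congrArg u (by simp)

variable (K A)

/-- Functions and their characters. -/
abbrev Phase := Multiplicative ((K → A) × AddChar (K → A) ℂ)

/-- The action of one element on functions and their characters. -/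
noncomputable def actEquiv (k : K) : MulAut (Phase K A) where
  toFun v := Multiplicative.ofAdd
    (shift K A k v.toAdd.1, v.toAdd.2.compAddMonoidHom (shift K A k⁻¹))
  invFun v := Multiplicative.ofAdd
    (shift K A k⁻¹ v.toAdd.1, v.toAdd.2.compAddMonoidHom (shift K A k))
  left_inv v := by
    refine Multiplicative.toAdd.injective (Prod.ext ?_ (DFunLike.ext _ _ fun u => ?_))
    · exact (shift_shift _ _ _).trans (by rw [inv_mul_cancel, shift_one])
    · show v.toAdd.2 (shift K A k⁻¹ (shift K A k u)) = _
      rw [shift_shift, inv_mul_cancel, shift_one]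
  right_inv v := by
    refine Multiplicative.toAdd.injective (Prod.ext ?_ (DFunLike.ext _ _ fun u => ?_))
    · exact (shift_shift _ _ _).trans (by rw [mul_inv_cancel, shift_one])
    · show v.toAdd.2 (shift K A k (shift K A k⁻¹ u)) = _
      rw [shift_shift, mul_inv_cancel, shift_one]
  map_mul' v w := by
    refine Multiplicative.toAdd.injective (Prod.ext (map_add _ _ _) (DFunLike.ext _ _ fun u => ?_))
    rfl

/-- The action on functions and their characters. -/
noncomputable def act : K →* MulAut (Phase K A) where
  toFun := actEquiv K A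
  map_one' := by
    refine MulEquiv.ext fun v => Multiplicative.toAdd.injective
      (Prod.ext (shift_one _) (DFunLike.ext _ _ fun u => ?_))
    show v.toAdd.2 (shift K A (1 : K)⁻¹ u) = _
    rw [inv_one, shift_one]
    rfl
  map_mul' k l := by
    refine MulEquiv.ext fun v => Multiplicative.toAdd.injective
      (Prod.ext (shift_shift _ _ _).symm (DFunLike.ext _ _ fun u => ?_))
    show v.toAdd.2 (shift K A (k * l)⁻¹ u) = v.toAdd.2 (shift K A l⁻¹ (shift K A k⁻¹ u))
    rw [shift_shift, mul_inv_rev]

/-- The enlarged group. -/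
abbrev Big := SemidirectProduct (Phase K A) K (act K A)

variable {K A} {ι : Type u} [Fintype ι] [DecidableEq ι] [Fintype K] [DecidableEq K] [Fintype A]
  [DecidableEq A]

/-- The twisted basis of the enlarged group. -/
noncomputable def bigMat (M : K → Matrix ι ι ℂ) (x : Big K A) :
    Matrix ((K → A) × ι) ((K → A) × ι) ℂ :=
  Matrix.of fun p q => if p.1 = x.left.toAdd.1 + shift K A x.right q.1 then
    x.left.toAdd.2 p.1 * M x.right p.2 q.2 else 0

omit [Fintype ι] in
theorem bigMat_apply (M : K → Matrix ι ι ℂ) (x : Big K A) (u w : K → A) (i j : ι) :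
    bigMat M x (u, i) (w, j) = if u = x.left.toAdd.1 + shift K A x.right w then
      x.left.toAdd.2 u * M x.right i j else 0 := rfl

theorem bigMat_one (M : K → Matrix ι ι ℂ) (hM : M 1 = 1) : bigMat M (1 : Big K A) = 1 := by
  ext ⟨u, i⟩ ⟨w, j⟩
  rw [bigMat_apply, Matrix.one_apply]
  simp only [SemidirectProduct.one_left, SemidirectProduct.one_right, toAdd_one, Prod.fst_zero,
    Prod.snd_zero, zero_add, shift_one, AddChar.zero_apply, one_mul, hM, Matrix.one_apply,
    Prod.mk.injEq]
  split_ifs <;> simp_all

theorem bigMat_mul (M : K → Matrix ι ι ℂ) (c : K → K → ℂ)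
    (hc : ∀ x y, M x * M y = c x y • M (x * y)) (x y : Big K A) :
    bigMat M x * bigMat M y =
      (c x.right y.right * y.left.toAdd.2 (shift K A x.right⁻¹ (-x.left.toAdd.1))) •
        bigMat M (x * y) := by
  classical
  ext ⟨u, i⟩ ⟨w, j⟩
  obtain ⟨t, ht⟩ : ∃ t : K → A, t = y.left.toAdd.1 + shift K A y.right w := ⟨_, rfl⟩
  have key : u = (x * y).left.toAdd.1 + shift K A (x * y).right w ↔
      u = x.left.toAdd.1 + shift K A x.right t := by
    show u = (x.left.toAdd.1 + shift K A x.right y.left.toAdd.1) +
      shift K A (x.right * y.right) w ↔ _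
    rw [ht, map_add, shift_shift, add_assoc]
  rw [Matrix.smul_apply, bigMat_apply, Matrix.mul_apply, Fintype.sum_prod_type,
    Finset.sum_eq_single t]
  · simp only [bigMat_apply, ← ht, if_true, key]
    split_ifs with h
    · have hsh : shift K A x.right⁻¹ u =
          shift K A x.right⁻¹ x.left.toAdd.1 + t := by
        rw [h, map_add, shift_shift x.right⁻¹, inv_mul_cancel, shift_one]
      have hb : (x * y).left.toAdd.2 u =
          x.left.toAdd.2 u * y.left.toAdd.2 (shift K A x.right⁻¹ u) := rfl
      rw [hb, hsh, AddChar.map_add_eq_mul, smul_eq_mul]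
      have hm := congrFun (congrFun (hc x.right y.right) i) j
      rw [Matrix.mul_apply, Matrix.smul_apply, smul_eq_mul] at hm
      have hneg : y.left.toAdd.2 (shift K A x.right⁻¹ (-x.left.toAdd.1)) *
          y.left.toAdd.2 (shift K A x.right⁻¹ x.left.toAdd.1) = 1 := by
        rw [← AddChar.map_add_eq_mul, ← map_add, neg_add_cancel, map_zero,
          AddChar.map_zero_eq_one]
      calc ∑ l, x.left.toAdd.2 u * M x.right i l * (y.left.toAdd.2 t * M y.right l j)
          = x.left.toAdd.2 u * y.left.toAdd.2 t * ∑ l, M x.right i l * M y.right l j := by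
            rw [Finset.mul_sum]; exact Finset.sum_congr rfl fun l _ => by ring
        _ = _ := by
            rw [hm]
            show _ = c x.right y.right * _ * (_ * M (x.right * y.right) i j)
            linear_combination (-(c x.right y.right * x.left.toAdd.2 u * y.left.toAdd.2 t *
              M (x.right * y.right) i j)) * hneg
    · simp
  · intro b _ hb
    exact Finset.sum_eq_zero fun l _ => by rw [bigMat_apply M y, if_neg (fun h => hb (h.trans ht.symm)), mul_zero]
  · exact fun h => absurd (Finset.mem_univ _) h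

theorem linearIndependent_bigMat [Fintype (Big K A)] (M : K → Matrix ι ι ℂ)
    (hM : LinearIndependent ℂ M) : LinearIndependent ℂ (bigMat (A := A) M) := by
  classical
  rw [Fintype.linearIndependent_iff] at hM ⊢
  intro g hg x
  let G' : (K → A) → AddChar (K → A) ℂ → K → ℂ :=
    fun a b k => g ⟨Multiplicative.ofAdd (a, b), k⟩
  have h1 : ∀ (u w : K → A) (k : K),
      ∑ b, G' (u - shift K A k w) b k * b u = 0 := by
    intro u w
    refine hM _ (Matrix.ext fun i j => ?_)
    have h2 := congrFun (congrFun hg (u, i)) (w, j)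
    simp only [Matrix.sum_apply, Matrix.smul_apply, smul_eq_mul, Matrix.zero_apply] at h2 ⊢
    rw [← h2]
    simp only [Finset.sum_mul]
    let e : ((K → A) × AddChar (K → A) ℂ) × K ≃ Big K A :=
      (Equiv.prodCongr Multiplicative.ofAdd (Equiv.refl K)).trans SemidirectProduct.equivProd.symm
    rw [← e.sum_comp fun z => g z * bigMat M z (u, i) (w, j), Fintype.sum_prod_type]
    conv_rhs => rw [Finset.sum_comm]
    refine Finset.sum_congr rfl fun k _ => ?_
    rw [Fintype.sum_prod_type, Finset.sum_eq_single (u - shift K A k w)]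
    · refine Finset.sum_congr rfl fun b _ => ?_
      show _ = g (e ((u - shift K A k w, b), k)) *
        if u = (u - shift K A k w) + shift K A k w then b u * M k i j else 0
      rw [sub_add_cancel, if_pos rfl, mul_assoc]
      rfl
    · intro a _ ha
      refine Finset.sum_eq_zero fun b _ => ?_
      show g (e ((a, b), k)) * (if u = a + shift K A k w then b u * M k i j else 0) = 0
      rw [if_neg (fun h => ha (by rw [h]; abel)), mul_zero]
    · exact fun h => absurd (Finset.mem_univ _) h
  obtain ⟨⟨a0, b0⟩, k0⟩ := x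
  have h3 : ∑ b, G' a0 b k0 • (⇑b : (K → A) → ℂ) = 0 := by
    funext u
    have := h1 u (shift K A k0⁻¹ (u - a0)) k0
    rw [shift_shift, mul_inv_cancel, shift_one, sub_sub_cancel] at this
    simpa [Finset.sum_apply] using this
  exact Fintype.linearIndependent_iff.1 (AddChar.linearIndependent (K → A) ℂ)
    (fun b => G' a0 b k0) h3 b0

end CentralTypeStep

open CentralTypeStep

/-- The Krasner–Kaloujnine embedding into the enlarged group. -/
theorem exists_hom_big {G K A : Type u} [Group G] [Group K] [AddCommGroup A] (φ : G →* K)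
    (ψ : G → A) (hψ : ∀ x y, φ x = 1 → φ y = 1 → ψ (x * y) = ψ x + ψ y)
    (hinj : ∀ x, φ x = 1 → ψ x = 0 → x = 1) : ∃ f : G →* Big K A, Function.Injective f := by
  classical
  let r : K → K := fun k => (Quotient.mk (QuotientGroup.rightRel φ.range) k).out
  have hmem : ∀ k, k * (r k)⁻¹ ∈ φ.range := fun k =>
    QuotientGroup.rightRel_apply.1 (Quotient.mk_out (s := QuotientGroup.rightRel φ.range) k)
  choose T hT using hmem
  have hr : ∀ (g : G) (k : K), r ((φ g)⁻¹ * k) = r k := by
    intro g k
    refine congrArg Quotient.out (Quotient.sound (QuotientGroup.rightRel_apply.2 ?_))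
    rw [mul_inv_rev, inv_inv, ← mul_assoc, mul_inv_cancel, one_mul]
    exact ⟨g, rfl⟩
  let t : G → K → G := fun g k => (T k)⁻¹ * g * T ((φ g)⁻¹ * k)
  have ht : ∀ g k, φ (t g k) = 1 := by
    intro g k
    simp only [t, map_mul, map_inv, hT, hr]
    group
  have hmul : ∀ g h k, t (g * h) k = t g k * t h ((φ g)⁻¹ * k) := by
    intro g h k
    simp only [t, map_mul, mul_inv_rev, mul_assoc]
    group
  refine ⟨MonoidHom.mk' (fun g => ⟨Multiplicative.ofAdd (fun k => ψ (t g k), 0), φ g⟩) ?_, ?_⟩
  · intro g h
    refine SemidirectProduct.ext ?_ (map_mul φ g h)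
    refine Multiplicative.toAdd.injective (Prod.ext (funext fun k => ?_) ?_)
    · show ψ (t (g * h) k) = ψ (t g k) + ψ (t h ((φ g)⁻¹ * k))
      rw [hmul, hψ _ _ (ht _ _) (ht _ _)]
    · refine DFunLike.ext _ _ fun u => ?_
      show (1 : ℂ) = 1 * 1
      rw [one_mul]
  · refine (injective_iff_map_eq_one _).2 fun g hg => ?_
    have h1 : φ g = 1 := congrArg SemidirectProduct.right hg
    have h2 : ψ (t g 1) = 0 :=
      congrFun (congrArg (fun x : Big K A => x.left.toAdd.1) hg) 1
    have h3 := hinj _ (ht g 1) h2
    simp only [t, h1, inv_one, one_mul] at h3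
    have h4 := congrArg (fun x => T 1 * x * (T 1)⁻¹) h3
    simpa [mul_assoc] using h4

/-- A nontrivial solvable group has a nontrivial abelian normal subgroup of prime exponent. -/
theorem exists_normal_elementary {G : Type u} [Group G] [Finite G] [Nontrivial G]
    (hsolv : Group.IsSolvable G) :
    ∃ (N : Subgroup G) (p : ℕ), N.Normal ∧ p.Prime ∧ N ≠ ⊥ ∧
      (∀ x ∈ N, ∀ y ∈ N, x * y = y * x) ∧ ∀ x ∈ N, x ^ p = 1 := by
  classical
  have hs := hsolv.solvable
  have hex : ∃ n, derivedSeries G n = ⊥ := hs
  obtain ⟨j, hj⟩ : ∃ j, Nat.find hex = j + 1 := by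
    refine Nat.exists_eq_succ_of_ne_zero fun h => ?_
    have h0 := Nat.find_spec hex
    rw [h, derivedSeries_zero] at h0
    exact top_ne_bot h0
  set A := derivedSeries G j with hA
  have hAne : A ≠ ⊥ := Nat.find_min hex (by omega)
  have hcomm : ∀ x ∈ A, ∀ y ∈ A, x * y = y * x := by
    intro x hx y hy
    have h0 := Nat.find_spec hex
    rw [hj, derivedSeries_succ, ← hA, eq_bot_iff] at h0
    exact commutatorElement_eq_one_iff_mul_comm.1
      (Subgroup.mem_bot.1 (h0 (Subgroup.commutator_mem_commutator hx hy)))
  obtain ⟨p, hp, hdvd⟩ : ∃ p, p.Prime ∧ p ∣ Nat.card A :=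
    Nat.exists_prime_and_dvd fun h => hAne (Subgroup.eq_bot_of_card_eq _ h)
  haveI := Fact.mk hp
  obtain ⟨x, hx⟩ := exists_prime_orderOf_dvd_card' p hdvd
  let N : Subgroup G :=
    { carrier := {g | g ∈ A ∧ g ^ p = 1}
      mul_mem' := fun {a b} ha hb => ⟨A.mul_mem ha.1 hb.1, by
        rw [Commute.mul_pow (hcomm a ha.1 b hb.1), ha.2, hb.2, one_mul]⟩
      one_mem' := ⟨A.one_mem, one_pow p⟩
      inv_mem' := fun {a} ha => ⟨A.inv_mem ha.1, by rw [inv_pow, ha.2, inv_one]⟩ }
  refine ⟨N, p, ⟨fun n hn g => ⟨(derivedSeries_normal G j).conj_mem n hn.1 g, ?_⟩⟩, hp, ?_,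
    fun a ha b hb => hcomm a ha.1 b hb.1, fun a ha => ha.2⟩
  · rw [conj_pow, hn.2, mul_one, mul_inv_cancel]
  · intro hbot
    have hxN : (x : G) ∈ N := ⟨x.2, by
      rw [← Subgroup.coe_pow, ← hx, pow_orderOf_eq_one, Subgroup.coe_one]⟩
    rw [hbot, Subgroup.mem_bot] at hxN
    rw [show x = 1 from Subtype.ext hxN, orderOf_one] at hx
    exact hp.ne_one hx.symm

/-- Every solvable group embeds into a group carried by a twisted basis. -/
theorem exists_embedding_twistedBasis (N : ℕ) : ∀ {G : Type u} [Group G] [Finite G],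
    Nat.card G ≤ N → Group.IsSolvable G → ∀ m : ℕ, (∀ p, p.Prime → p ∣ Nat.card G → p ∣ m) →
      ∃ (K : Type u) (_ : Group K) (_ : Fintype K), HasTwistedBasis m K ∧
        (∃ f : G →* K, Function.Injective f) ∧
        ∀ p : ℕ, p.Prime → (p ∣ Nat.card K ↔ p ∣ Nat.card G) := by
  induction N with
  | zero => exact fun h => absurd h (not_le.2 Nat.card_pos)
  | succ N ih =>
    intro G _ _ hle hsolv m hm
    classical
    rcases subsingleton_or_nontrivial G with hG | hG
    · refine ⟨PUnit.{u + 1}, inferInstance, inferInstance, ⟨PUnit.{u + 1}, inferInstance,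
        inferInstance, fun _ => 1, fun _ _ => 1, Fintype.linearIndependent_iff.2 fun g hg i => by
          simpa using congrFun (congrFun hg PUnit.unit) PUnit.unit, by simp,
        rfl, fun x y => ⟨one_pow m, by simp⟩⟩, ⟨1, Function.injective_of_subsingleton _⟩,
        fun p hp => ?_⟩
      rw [Nat.card_unique, Nat.card_unique]
    · obtain ⟨A, q, hAn, hq, hAne, hcomm, hexp⟩ := exists_normal_elementary hsolv
      have hsolv' : Group.IsSolvable (G ⧸ A) :=
        Group.isSolvable_of_surjective (QuotientGroup.mk'_surjective A)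
      have hcardG : Nat.card G = Nat.card (G ⧸ A) * Nat.card A :=
        Subgroup.card_eq_card_quotient_mul_card_subgroup A
      have hA1 : 1 < Nat.card A := (Subgroup.one_lt_card_iff_ne_bot A).2 hAne
      have hlt : Nat.card (G ⧸ A) ≤ N := by
        have := Nat.mul_le_mul_left (Nat.card (G ⧸ A)) hA1
        have h0 : 0 < Nat.card (G ⧸ A) := Nat.card_pos
        omega
      obtain ⟨K, instK, instKF, ⟨ι, instι, instιd, M, c, hli, hcard, hM1, hc⟩, ⟨f, hf⟩, hpr⟩ :=
        ih hlt hsolv' m fun p hp h => hm p hp (h.trans ⟨_, hcardG⟩)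
      letI : CommGroup A :=
        { (inferInstance : Group A) with
          mul_comm := fun x y => Subtype.ext (hcomm x x.2 y y.2) }
      haveI : Fintype (Additive A) := Fintype.ofFinite _
      haveI : Fintype (Big K (Additive A)) := Fintype.ofEquiv _ SemidirectProduct.equivProd.symm
      have hqm : q ∣ m := by
        refine hm q hq ?_
        obtain ⟨x, hx, hne⟩ := A.bot_or_exists_ne_one.resolve_left hAne
        rw [← orderOf_eq_prime (hexp x hx) hne (p := q) (hp := ⟨hq⟩)]
        exact orderOf_dvd_natCard x
      have hKc : Fintype.card (Big K (Additive A)) =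
          (Fintype.card (Additive A) ^ Fintype.card K) ^ 2 * Fintype.card K := by
        rw [Fintype.card_congr SemidirectProduct.equivProd, Fintype.card_prod,
          Fintype.card_multiplicative, Fintype.card_prod, AddChar.card_eq, Fintype.card_fun, sq]
      refine ⟨Big K (Additive A), inferInstance, inferInstance, ⟨(K → Additive A) × ι,
        inferInstance, inferInstance, bigMat M, fun x y => c x.right y.right *
          y.left.toAdd.2 (shift K (Additive A) x.right⁻¹ (-x.left.toAdd.1)),
        linearIndependent_bigMat M hli, ?_, bigMat_one M hM1,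
        fun x y => ⟨?_, bigMat_mul M c (fun a b => (hc a b).2) x y⟩⟩, ?_, fun p hp => ?_⟩
      · rw [hKc, Fintype.card_prod, Fintype.card_fun, mul_pow, hcard]
      · rw [mul_pow, (hc _ _).1, one_mul, ← AddChar.map_nsmul_eq_pow]
        refine (congrArg _ (funext fun k => ?_)).trans (AddChar.map_zero_eq_one _)
        obtain ⟨d, rfl⟩ := hqm
        refine Additive.toMul.injective ?_
        show (Additive.toMul (shift K (Additive A) x.right⁻¹ (-x.left.toAdd.1) k)) ^ (q * d) = 1
        rw [pow_mul, show ∀ a : A, a ^ q = 1 from fun a => Subtype.ext (hexp a a.2), one_pow]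
      · refine exists_hom_big (f.comp (QuotientGroup.mk' A))
          (fun g => if h : g ∈ A then Additive.ofMul (⟨g, h⟩ : A) else 0) ?_ ?_
        · intro x y hx hy
          have hx' : x ∈ A := (QuotientGroup.eq_one_iff x).1 (hf (hx.trans (map_one f).symm))
          have hy' : y ∈ A := (QuotientGroup.eq_one_iff y).1 (hf (hy.trans (map_one f).symm))
          simp only [dif_pos hx', dif_pos hy', dif_pos (A.mul_mem hx' hy')]
          rfl
        · intro x hx h0
          have hx' : x ∈ A := (QuotientGroup.eq_one_iff x).1 (hf (hx.trans (map_one f).symm))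
          simp only [dif_pos hx'] at h0
          exact congrArg Subtype.val (Additive.ofMul.injective h0)
      · have e : p ∣ Fintype.card (Additive A) ^ (Fintype.card K * 2) ↔ p ∣ Nat.card A := by
          rw [Nat.card_congr (Additive.ofMul (α := A)), Nat.card_eq_fintype_card]
          exact ⟨hp.dvd_of_dvd_pow, fun h => dvd_pow h
            (Nat.mul_ne_zero Fintype.card_ne_zero two_ne_zero)⟩
        rw [Nat.card_eq_fintype_card, hKc, hp.dvd_mul, ← pow_mul, e,
          ← Nat.card_eq_fintype_card (α := K), hpr p hp, hcardG, hp.dvd_mul, or_comm]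

end Cfsg.Agent.H81
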