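import Cfsg.Agent.CharInduce.Induce

/-!
# Injectivity of induction from the inertia subgroup
-/

open scoped ComplexConjugate
open Cfsg.Agent.CharBasic Cfsg.Agent.CharInduce

namespace Cfsg.Agent.H81

universe u

variable {G : Type u} [Group G] [Fintype G] (N : Subgroup G) [N.Normal] [Fintype N]
variable {θ : N → ℂ} (hθ : IsIrrCharacter N θ)

include hθ in
/-- A character of the inertia group restricting to `f θ` induces to one with multiplicity `f`. -/
theorem classInner_indFun_inertia_res (φ : inertia N θ → ℂ) (f : ℂ)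
    (hφ : ∀ n : N, φ ⟨n, le_inertia N (IsIrr.isClassFunction hθ) n.2⟩ = f * θ n) :
    classInner (fun n : N => indFun (inertia N θ) φ n) θ = f := by
  classical
  have hle := le_inertia N (IsIrr.isClassFunction hθ)
  have he : (fun n : N => indFun (inertia N θ) φ n) =
      ((Nat.card (inertia N θ) : ℂ)⁻¹ * f) • ∑ x : G, conjFun N θ x := by
    funext n
    simp only [indFun_apply, Pi.smul_apply, Finset.sum_apply, smul_eq_mul, Finset.mul_sum]
    refine Fintype.sum_equiv (Equiv.inv G) _ _ fun x => ?_
    have hm : x⁻¹ * (n : G) * x ∈ N := by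
      simpa using Subgroup.Normal.conj_mem ‹N.Normal› _ n.2 x⁻¹
    rw [extendByZero_of_mem φ (hle hm), hφ ⟨_, hm⟩]
    rw [mul_assoc (Nat.card (inertia N θ) : ℂ)⁻¹ f]
    congr 2
    simp only [conjFun, Equiv.inv_apply]
    congr 1
    simp
  rw [he, classInner_smul_left, classInner_sum_left]
  have hone : ∀ x : G, classInner (conjFun N θ x) θ = if x ∈ inertia N θ then (1 : ℂ) else 0 := fun x => by
    rw [classInner_irr (isIrrCharacter_conjFun N hθ x) hθ]
    exact if_congr (mem_inertia N).symm rfl rfl
  simp only [hone, Finset.sum_boole]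
  rw [← Fintype.card_subtype, ← Nat.card_eq_fintype_card]
  have h0 := card_ne_zero_complex (inertia N θ)
  show (Nat.card (inertia N θ) : ℂ)⁻¹ * f * (Nat.card (inertia N θ) : ℂ) = f
  field_simp

include hθ in
/-- Induction from the inertia group is an isometry on the characters over `θ`. -/
theorem classInner_indFun_inertia [Fintype (inertia N θ)] {φ ψ : inertia N θ → ℂ}
    (hφ : IsIrrCharacter (inertia N θ) φ) (hψ : IsIrrCharacter (inertia N θ) ψ) (a b : ℕ)
    (hφN : ∀ n : N, φ ⟨n, le_inertia N (IsIrr.isClassFunction hθ) n.2⟩ = (a : ℂ) * θ n)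
    (hψN : ∀ n : N, ψ ⟨n, le_inertia N (IsIrr.isClassFunction hθ) n.2⟩ = (b : ℂ) * θ n) :
    classInner (indFun (inertia N θ) φ) (indFun (inertia N θ) ψ) = classInner φ ψ := by
  classical
  have hch : IsCharacter G (indFun (inertia N θ) φ) := IsChar.ind _ (IsIrr.isCharacter hφ)
  have hres := IsChar.res hch (inertia N θ)
  rw [classInner_indFun_right _ _ _ (IsChar.isClassFunction hch)]
  have h0 : classInner (fun t : inertia N θ => indFun (inertia N θ) φ t) φ ≠ 0 := by
    rw [← classInner_indFun_right _ _ _ (IsChar.isClassFunction hch)]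
    intro h
    have h1 := congrFun (classInner_self_eq_zero.1 h) 1
    rw [indFun_one] at h1
    rcases mul_eq_zero.1 h1 with h2 | h2
    · exact (inertia N θ).index_ne_zero_of_finite (by exact_mod_cast h2)
    · exact IsIrr.one_ne_zero hφ h2
  obtain ⟨R, hR, hsplit⟩ := IsChar.exists_eq_add hres hφ h0
  have hle := le_inertia N (IsIrr.isClassFunction hθ)
  have hRN : classInner (fun n : N => R ⟨n, hle n.2⟩) θ = 0 := by
    have h1 := classInner_indFun_inertia_res N hθ φ a hφN
    have h2 : (fun n : N => indFun (inertia N θ) φ n) =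
        (a : ℂ) • θ + fun n : N => R ⟨n, hle n.2⟩ := by
      funext n
      have h3 := congrFun hsplit ⟨n, hle n.2⟩
      simp only [Pi.add_apply] at h3
      simp only [Pi.add_apply, Pi.smul_apply, smul_eq_mul, ← hφN n]
      exact h3
    rw [h2, classInner_add_left, classInner_smul_left, classInner_irr_self hθ, mul_one] at h1
    exact left_eq_add.1 h1.symm
  rw [hsplit, classInner_add_left]
  suffices classInner R ψ = 0 by rw [this, add_zero]
  by_contra hne
  obtain ⟨R', hR', hRsplit⟩ := IsChar.exists_eq_add hR hψ hne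
  have h4 : (fun n : N => R ⟨n, hle n.2⟩) = (b : ℂ) • θ + fun n : N => R' ⟨n, hle n.2⟩ := by
    funext n
    rw [hRsplit]
    simp only [Pi.add_apply, Pi.smul_apply, smul_eq_mul, ← hψN n]
  obtain ⟨c, hc⟩ := classInner_isChar_nat (IsChar.comp hR' (Subgroup.inclusion hle))
    (IsIrr.isCharacter hθ)
  have h5 : classInner (fun n : N => R' ⟨n, hle n.2⟩) θ = c := hc
  rw [h4, classInner_add_left, classInner_smul_left, classInner_irr_self hθ, mul_one, h5] at hRN
  have hb : b = 0 := by
    have : b + c = 0 := by exact_mod_cast hRN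
    omega
  have h6 := hψN 1
  rw [hb, Nat.cast_zero, zero_mul] at h6
  exact IsIrr.one_ne_zero hψ h6

end Cfsg.Agent.H81
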