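import Cfsg.Agent.H81.DetExt
import Cfsg.Agent.H81.CoverParity
import Cfsg.Agent.H85.EqualDegree
import Cfsg.Agent.Fusion.PComplement

/-!
# Characters fixed by cubing the 2-parts and normal 2-complements
-/

open scoped ComplexConjugate
open Cfsg.Agent.BlockBasic

namespace Cfsg.Agent.H81

universe u

variable {G : Type u} [Group G] [Fintype G]

/-- Over the principal block of a normal subgroup of `p`-power index lies only the principal
block. -/
theorem mem_principalBlock_of_pow_index {p : ℕ} [Fact p.Prime] {M : Ideal AlgInt}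
    (hM : IsPModular p M) (N : Subgroup G) [N.Normal] [Fintype N]
    (hidx : ∃ j : ℕ, N.index = p ^ j) {θ : IrrCharacter N} (hθ : θ ∈ principalBlock M N)
    {χ : IrrCharacter G} (hover : classInner (fun n : N => (χ : G → ℂ) n) (θ : N → ℂ) ≠ 0) :
    χ ∈ principalBlock M G := by
  have h1 : classInner (fun n : N => ((trivialIrr : IrrCharacter G) : G → ℂ) n)
      ((trivialIrr : IrrCharacter N) : N → ℂ) ≠ 0 := by
    show classInner ((trivialIrr : IrrCharacter N) : N → ℂ) _ ≠ 0
    rw [CharBasic.classInner_irr_self (trivialIrr : IrrCharacter N).2]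
    exact one_ne_zero
  show SameBlock M ((trivialIrr : IrrCharacter G) : G → ℂ) (χ : G → ℂ)
  refine sameBlock_of_congr_regular hM fun g hg => ?_
  have hgN := mem_of_regular hidx hg
  rw [(classInner_ne_zero_iff_centralChar _ _).1 h1 ⟨g, hgN⟩,
    (classInner_ne_zero_iff_centralChar χ θ).1 hover ⟨g, hgN⟩, ← omega_resMap_classSum,
    ← omega_resMap_classSum]
  exact omega_congr hM (CharBasic.IsIrr.isClassFunction (trivialIrr : IrrCharacter N).2)
    (CharBasic.IsIrr.isClassFunction θ.2) hθ (isCentralElt_resMap (isCentralElt_classSum _))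
    (isIntElt_resMap (isIntElt_classSum hM _))

/-- The backward direction: all fixed odd degree characters of the principal block linear. -/
theorem not_dvd_card_pResidual_of_linear {M : Ideal AlgInt} (hM : IsPModular 2 M) {k : ℕ}
    (hk₁ : ∀ g : G, (∃ j : ℕ, orderOf g = 2 ^ j) → g ^ k = g ^ 3)
    (hk₂ : ∀ g : G, Odd (orderOf g) → g ^ k = g)
    (hlinear : ∀ χ ∈ principalBlock M G, Odd (charDegree (χ : G → ℂ)) →
      (∀ g : G, (χ : G → ℂ) (g ^ k) = (χ : G → ℂ) g) → charDegree (χ : G → ℂ) = 1) :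
    ¬ 2 ∣ Nat.card (pResidual 2 G) := by
  classical
  intro hev
  haveI : Fact (Nat.Prime 2) := ⟨Nat.prime_two⟩
  set N := pResidual 2 G with hNdef
  haveI : Fintype N := Fintype.ofFinite N
  have hk := coprime_of_pow_three hk₁ hk₂
  obtain ⟨a, ha⟩ := Fusion.index_pResidual (p := 2) (G := G)
  have hN₁ : ∀ g : N, (∃ j : ℕ, orderOf g = 2 ^ j) → g ^ k = g ^ 3 := fun g hg => Subtype.ext
    (by simpa using hk₁ (g : G) (by simpa [Subgroup.orderOf_coe] using hg))
  have hN₂ : ∀ g : N, Odd (orderOf g) → g ^ k = g := fun g hg => Subtype.ext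
    (by simpa using hk₂ (g : G) (by rwa [Subgroup.orderOf_coe]))
  let α := {φ : IrrCharacter N // φ ∈ principalBlock M N ∧ Odd (charDegree (φ : N → ℂ)) ∧
      ∀ n : N, (φ : N → ℂ) (n ^ k) = (φ : N → ℂ) n}
  have hα : Even (Nat.card α) :=
    even_card_fixed_odd_degree hM (even_iff_two_dvd.2 hev) hN₁ hN₂
  -- the odd exponent of the linear characters
  set o := Nat.card N / 2 ^ (Nat.card N).factorization 2 with hodef
  have ho : Odd o := Nat.odd_iff.2 (Nat.two_dvd_ne_zero.1
    (Nat.not_dvd_ordCompl Nat.prime_two Nat.card_pos.ne'))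
  have hlin : ∀ l : N →* ℂˣ, l ^ o = 1 := fun l => by
    rw [← MonoidHom.ker_eq_top_iff, eq_top_iff, ← Fusion.pResidual_pResidual_eq_top (p := 2) (G := G)]
    refine Fusion.pResidual_le.2 fun y hy => ?_
    rw [MonoidHom.mem_ker, MonoidHom.pow_apply, ← map_pow]
    refine (congrArg l (orderOf_dvd_iff_pow_eq_one.1 ?_)).trans (map_one l)
    exact (hy.pow_right _).dvd_of_dvd_mul_left (n := o)
      (by rw [Nat.ordProj_mul_ordCompl_eq_self]; exact orderOf_dvd_natCard y)
  -- the conjugation action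
  let act : G → α → α := fun g φ => ⟨H80.conjTwist N φ.1 g⁻¹,
    ⟨sameBlock_twist (θ := (trivialIrr : IrrCharacter N)) g⁻¹ φ.2.1, by
      have : charDegree (H80.conjTwist N φ.1 g⁻¹ : N → ℂ) = charDegree (φ.1 : N → ℂ) := by
        unfold charDegree
        rw [show (H80.conjTwist N φ.1 g⁻¹ : N → ℂ) 1 =
          (φ.1 : N → ℂ) (MulAut.conjNormal g⁻¹ 1) from rfl, map_one]
      rw [this]; exact φ.2.2.1, fun n => by
      show (φ.1 : N → ℂ) (MulAut.conjNormal g⁻¹ (n ^ k)) = (φ.1 : N → ℂ) (MulAut.conjNormal g⁻¹ n)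
      rw [map_pow]; exact φ.2.2.2 _⟩⟩
  have hone : act 1 = id := funext fun φ => Subtype.ext (by
    show H80.conjTwist N φ.1 (1 : G)⁻¹ = φ.1
    rw [inv_one, conjTwist_one])
  have hmul : ∀ g h, act (g * h) = act g ∘ act h := fun g h => funext fun φ => Subtype.ext (by
    show H80.conjTwist N φ.1 (g * h)⁻¹ = H80.conjTwist N (H80.conjTwist N φ.1 h⁻¹) g⁻¹
    rw [conjTwist_conjTwist, mul_inv_rev])
  let f : G →* Equiv.Perm α :=
    { toFun := fun g =>
        { toFun := act g
          invFun := act g⁻¹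
          left_inv := fun φ => by
            show (act g⁻¹ ∘ act g) φ = φ
            rw [← hmul, inv_mul_cancel, hone]; rfl
          right_inv := fun φ => by
            show (act g ∘ act g⁻¹) φ = φ
            rw [← hmul, mul_inv_cancel, hone]; rfl }
      map_one' := Equiv.ext fun φ => congrFun hone φ
      map_mul' := fun g h => Equiv.ext fun φ => congrFun (hmul g h) φ }
  have hfN : N ≤ f.ker := fun d hd => by
    rw [MonoidHom.mem_ker]
    refine Equiv.ext fun φ => Subtype.ext (Subtype.ext (funext fun n => ?_))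
    show (φ.1 : N → ℂ) (MulAut.conjNormal d⁻¹ n) = (φ.1 : N → ℂ) n
    rw [show MulAut.conjNormal d⁻¹ n = (⟨d, hd⟩⁻¹ : N) * n * (⟨d, hd⟩⁻¹ : N)⁻¹ from
      Subtype.ext (by simp [MulAut.conjNormal_apply])]
    exact CharBasic.IsIrr.isClassFunction φ.1.2 _ _
  let F := QuotientGroup.lift N f hfN
  have hK : IsPGroup 2 F.range :=
    (Fusion.isPGroup_quotient_pResidual (p := 2) (G := G)).of_surjective F.rangeRestrict
      F.rangeRestrict_surjective
  have hfix : ∀ φ : α, φ ∈ MulAction.fixedPoints F.range α ↔ ∀ g : G, act g φ = φ := by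
    intro φ
    refine ⟨fun h g => h ⟨F g, ⟨g, rfl⟩⟩, fun h x => ?_⟩
    obtain ⟨_, q, rfl⟩ := x
    obtain ⟨g, rfl⟩ := QuotientGroup.mk'_surjective N q
    exact h g
  -- fixed points are linear
  have hlinfix : ∀ φ : α, (∀ g : G, act g φ = φ) → (φ.1 : N → ℂ) 1 = 1 := by
    intro φ hφ
    have hinv : ∀ (g : G) (m : N),
        (φ.1 : N → ℂ) ⟨g * m * g⁻¹, (inferInstance : N.Normal).conj_mem _ m.2 g⟩ = (φ.1 : N → ℂ) m := by
      intro g m
      have h := congrFun (congrArg Subtype.val (congrArg Subtype.val (hφ g⁻¹))) m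
      rw [show (act g⁻¹ φ).1 = H80.conjTwist N φ.1 g⁻¹⁻¹ from rfl, H80.conjTwist_apply] at h
      simpa [inv_inv] using h
    obtain ⟨χ, hχ, hχN, hχk⟩ := exists_fixed_extension_two N φ.1.2 hinv φ.2.2.1 ha ho hlin hk hk₁ hk₂
      φ.2.2.2
    have hdeg : charDegree χ = charDegree (φ.1 : N → ℂ) := by
      unfold charDegree
      rw [← hχN 1, Subgroup.coe_one]
    have hover : classInner (fun n : N => χ n) (φ.1 : N → ℂ) ≠ 0 := by
      rw [funext hχN, CharBasic.classInner_irr_self φ.1.2]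
      exact one_ne_zero
    have h1 := hlinear ⟨χ, hχ⟩
      (mem_principalBlock_of_pow_index hM N ⟨a, ha⟩ φ.2.1 hover) (by rw [hdeg]; exact φ.2.2.1) hχk
    rw [hdeg] at h1
    rw [apply_one_eq_charDegree, h1, Nat.cast_one]
  -- the group of invariant linear characters of the block
  obtain ⟨L, hL⟩ := H85.exists_linearGroup (G := N) hM
  let I : Subgroup (N →* ℂˣ) :=
    { carrier := {l | (∀ n, l (n ^ k) = l n) ∧ ∀ (g : G) (n : N), l (MulAut.conjNormal g n) = l n}
      one_mem' := ⟨fun _ => rfl, fun _ _ => rfl⟩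
      mul_mem' := fun {x y} hx hy => ⟨fun n => by simp [hx.1 n, hy.1 n],
        fun g n => by simp [hx.2 g n, hy.2 g n]⟩
      inv_mem' := fun {x} hx => ⟨fun n => congrArg Inv.inv (hx.1 n),
        fun g n => congrArg Inv.inv (hx.2 g n)⟩ }
  haveI := H85.finite_hom (G := N)
  have hLodd : ¬ 2 ∣ Nat.card ↥(L ⊓ I) := by
    intro h2
    obtain ⟨x, hx⟩ := exists_prime_orderOf_dvd_card' (G := ↥(L ⊓ I)) 2 h2
    have : orderOf x ∣ o := orderOf_dvd_of_pow_eq_one (Subtype.ext (hlin x.1))
    rw [hx] at this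
    exact (Nat.not_even_iff_odd.2 ho) (even_iff_two_dvd.2 this)
  let toα : ↥(L ⊓ I) → MulAction.fixedPoints F.range α := fun l =>
    ⟨⟨⟨fun n => (l.1 n : ℂ), CharInduce.isIrrCharacter_hom l.1⟩, (hL l.1).1 l.2.1, by
        simp [charDegree], fun n => congrArg Units.val (l.2.2.1 n)⟩,
      (hfix _).2 fun g => Subtype.ext (Subtype.ext (funext fun n =>
        congrArg Units.val (l.2.2.2 g⁻¹ n)))⟩
  have hbij : Function.Bijective toα := by
    constructor
    · intro x y h
      refine Subtype.ext (MonoidHom.ext fun n => Units.ext ?_)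
      exact congrFun (congrArg (fun z : MulAction.fixedPoints F.range α =>
        ((z.1.1 : IrrCharacter N) : N → ℂ)) h) n
    · intro φ
      have hφ := (hfix φ.1).1 φ.2
      obtain ⟨l, hl⟩ := CharInduce.IsChar.exists_hom_of_degree_one
        (CharBasic.IsIrr.isCharacter φ.1.1.2) (hlinfix φ.1 hφ)
      have hfun : (fun n => (l n : ℂ)) = (φ.1.1 : N → ℂ) := funext fun n => (hl n).symm
      refine ⟨⟨l, (hL l).2 (by rw [hfun]; exact φ.1.2.1),
        fun n => Units.ext (by rw [← hl, ← hl]; exact φ.1.2.2.2 n), fun g n => Units.ext ?_⟩,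
        Subtype.ext (Subtype.ext (Subtype.ext hfun))⟩
      rw [← hl, ← hl]
      have h := congrFun (congrArg Subtype.val (congrArg Subtype.val (hφ g⁻¹))) n
      rw [show (act g⁻¹ φ.1).1 = H80.conjTwist N φ.1.1 g⁻¹⁻¹ from rfl, inv_inv] at h
      exact h
  have hmod := hK.card_modEq_card_fixedPoints α
  rw [← Nat.card_eq_of_bijective _ hbij] at hmod
  have h0 : Nat.card α % 2 = 0 := Nat.even_iff.1 hα
  apply hLodd
  rw [Nat.dvd_iff_mod_eq_zero, ← hmod, h0]

end Cfsg.Agent.H81
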