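import Cfsg.Agent.H81.DetExtP
import Cfsg.Agent.H81.CubedTwo
import Cfsg.Agent.CharInduce.Transport

/-!
# Counting the fixed members of the principal block over `O^p`
-/

open scoped ComplexConjugate
open Cfsg.Agent.BlockBasic

namespace Cfsg.Agent.H81

universe u

variable {G : Type u} [Group G]

theorem coprime_of_pow_one_add [Finite G] {p k : ℕ} [hp : Fact p.Prime]
    (hk₁ : ∀ g : G, (∃ j : ℕ, orderOf g = p ^ j) → g ^ k = g ^ (1 + p))
    (hk₂ : ∀ g : G, Nat.Coprime (orderOf g) p → g ^ k = g) : Nat.Coprime k (Nat.card G) := by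
  refine Nat.coprime_of_dvd fun q hq hqk hqG => ?_
  haveI := Fact.mk hq
  obtain ⟨g, hg⟩ := exists_prime_orderOf_dvd_card' (G := G) q hqG
  have hgk : g ^ k = 1 := orderOf_dvd_iff_pow_eq_one.1 (hg ▸ hqk)
  have hg1 : g = 1 := by
    by_cases hqp : q = p
    · have h2 : g ^ p = 1 := by rw [← hqp, ← hg]; exact pow_orderOf_eq_one g
      rw [hk₁ g ⟨1, by rw [hg, pow_one, hqp]⟩, pow_add, pow_one, h2, mul_one] at hgk
      exact hgk
    · rw [hk₂ g (hg ▸ (Nat.coprime_primes hq hp.out).2 hqp)] at hgk; exact hgk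
  rw [hg1, orderOf_one] at hg
  exact hq.one_lt.ne hg

/-- The linear characters of order dividing `p` trivial on `N`. -/
theorem card_linear_pow_eq_one [Finite G] {p a : ℕ} [hp : Fact p.Prime] (N : Subgroup G) [N.Normal]
    (hcyc : IsCyclic (G ⧸ N)) (hidx : N.index = p ^ a) (ha : a ≠ 0) :
    Nat.card {l : G →* ℂˣ // (∀ n ∈ N, l n = 1) ∧ l ^ p = 1} = p := by
  classical
  haveI : NeZero p := ⟨hp.out.ne_zero⟩
  obtain ⟨q, hq⟩ := hcyc.exists_generator
  obtain ⟨g, rfl⟩ := QuotientGroup.mk'_surjective N q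
  have hord : orderOf (QuotientGroup.mk' N g) = p ^ a := by
    rw [orderOf_eq_card_of_forall_mem_zpowers hq, ← Subgroup.index_eq_card, hidx]
  refine Eq.trans (Nat.card_congr (β := rootsOfUnity p ℂ)
    { toFun := fun l => ⟨l.1 g, by
        rw [mem_rootsOfUnity, ← MonoidHom.pow_apply, l.2.2, MonoidHom.one_apply]⟩
      invFun := fun z => ⟨(monoidHomOfForallMemZpowers hq (g' := (z : ℂˣ)) (by
          rw [hord]
          exact (orderOf_dvd_of_pow_eq_one ((mem_rootsOfUnity _ _).1 z.2)).trans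
            (dvd_pow_self p ha))).comp (QuotientGroup.mk' N),
        fun n hn => by
          rw [MonoidHom.comp_apply]
          exact (congrArg _ (show QuotientGroup.mk' N n = 1 from
            (QuotientGroup.eq_one_iff n).2 hn)).trans (map_one _),
        MonoidHom.ext fun x => by
          obtain ⟨i, hi⟩ := Subgroup.mem_zpowers_iff.1 (hq (QuotientGroup.mk' N x))
          rw [MonoidHom.pow_apply, MonoidHom.comp_apply, ← hi, map_zpow,
            monoidHomOfForallMemZpowers_apply_gen, ← zpow_natCast, ← zpow_mul, mul_comm, zpow_mul,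
            zpow_natCast, (mem_rootsOfUnity _ _).1 z.2, one_zpow, MonoidHom.one_apply]⟩
      left_inv := fun l => by
        refine Subtype.ext (MonoidHom.ext fun x => ?_)
        obtain ⟨i, hi⟩ := Subgroup.mem_zpowers_iff.1 (hq (QuotientGroup.mk' N x))
        rw [MonoidHom.comp_apply, ← hi, map_zpow, monoidHomOfForallMemZpowers_apply_gen]
        rw [← map_zpow, QuotientGroup.mk'_apply, QuotientGroup.mk'_apply, QuotientGroup.eq] at hi
        have h1 := l.2.1 _ hi
        rw [map_mul, map_inv, inv_mul_eq_one, map_zpow] at h1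
        exact h1
      right_inv := fun z => Subtype.ext (monoidHomOfForallMemZpowers_apply_gen hq (by
        rw [hord]
        exact (orderOf_dvd_of_pow_eq_one ((mem_rootsOfUnity _ _).1 z.2)).trans
          (dvd_pow_self p ha))) })
    (Complex.card_rootsOfUnity p)

variable [Fintype G]

theorem card_fixed_principalBlock {p : ℕ} [hp : Fact p.Prime] {M : Ideal AlgInt}
    (hM : IsPModular p M) (P : Sylow p G) (N : Subgroup G) [hN : N.Normal]
    (hNres : N = pResidual p G) (hcyc : IsCyclic (G ⧸ N)) (hnt : N ≠ ⊤) (k : ℕ)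
    (hk₁ : ∀ g : G, (∃ j : ℕ, orderOf g = p ^ j) → g ^ k = g ^ (1 + p))
    (hk₂ : ∀ g : G, Nat.Coprime (orderOf g) p → g ^ k = g) :
    Nat.card {χ : IrrCharacter G // χ ∈ principalBlock M G ∧ ¬ p ∣ charDegree (χ : G → ℂ) ∧
        ∀ g : G, (χ : G → ℂ) (g ^ k) = (χ : G → ℂ) g} =
      p * Nat.card {θ : IrrCharacter N // θ ∈ principalBlock M N ∧ ¬ p ∣ charDegree (θ : N → ℂ) ∧
        (∀ x ∈ (P : Subgroup G), ∀ n : N,
          (θ : N → ℂ) ⟨x * n * x⁻¹, hN.conj_mem n n.2 x⟩ = (θ : N → ℂ) n) ∧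
        ∀ n : N, (θ : N → ℂ) (n ^ k) = (θ : N → ℂ) n} := by
  classical
  haveI : Fintype N := Fintype.ofFinite N
  have hk := coprime_of_pow_one_add hk₁ hk₂
  obtain ⟨a, ha⟩ : ∃ a, N.index = p ^ a := hNres ▸ Fusion.index_pResidual (p := p) (G := G)
  have ha0 : a ≠ 0 := fun h => hnt (Subgroup.index_eq_one.1 (by rw [ha, h, pow_zero]))
  have htop : pResidual p N = ⊤ := by
    subst hNres; exact Fusion.pResidual_pResidual_eq_top
  set o := Nat.card N / p ^ (Nat.card N).factorization p with hodef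
  have ho : ¬ p ∣ o := Nat.not_dvd_ordCompl hp.out Nat.card_pos.ne'
  have hlin : ∀ l : N →* ℂˣ, l ^ o = 1 := fun l => by
    rw [← MonoidHom.ker_eq_top_iff, eq_top_iff, ← htop]
    refine Fusion.pResidual_le.2 fun y hy => ?_
    rw [MonoidHom.mem_ker, MonoidHom.pow_apply, ← map_pow]
    refine (congrArg l (orderOf_dvd_iff_pow_eq_one.1 ?_)).trans (map_one l)
    exact (hy.pow_right _).dvd_of_dvd_mul_left (n := o)
      (by rw [Nat.ordProj_mul_ordCompl_eq_self]; exact orderOf_dvd_natCard y)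
  let F := {χ : IrrCharacter G // χ ∈ principalBlock M G ∧ ¬ p ∣ charDegree (χ : G → ℂ) ∧
      ∀ g : G, (χ : G → ℂ) (g ^ k) = (χ : G → ℂ) g}
  let T := {θ : IrrCharacter N // θ ∈ principalBlock M N ∧ ¬ p ∣ charDegree (θ : N → ℂ) ∧
      (∀ x ∈ (P : Subgroup G), ∀ n : N,
        (θ : N → ℂ) ⟨x * n * x⁻¹, hN.conj_mem n n.2 x⟩ = (θ : N → ℂ) n) ∧
      ∀ n : N, (θ : N → ℂ) (n ^ k) = (θ : N → ℂ) n}
  -- restriction is irreducible
  have hres : ∀ χ : F, ∃ θ : T, ∀ n : N, (χ.1 : G → ℂ) n = (θ.1 : N → ℂ) n := by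
    intro χ
    obtain ⟨θ, hθ⟩ := exists_constituent χ.1 N
    have hdeg := CharInduce.clifford_degree N χ.1.2 θ.2 hθ
    obtain ⟨e, he⟩ := CharBasic.classInner_isChar_nat
      (CharInduce.IsChar.res (CharBasic.IsIrr.isCharacter χ.1.2) N)
      (CharBasic.IsIrr.isCharacter θ.2)
    rw [show classInner (fun n : N => (χ.1 : G → ℂ) n) (θ : N → ℂ) = e from he,
      apply_one_eq_charDegree, apply_one_eq_charDegree] at hdeg
    have hdeg' : charDegree (χ.1 : G → ℂ) =
        e * (CharInduce.inertia N (θ : N → ℂ)).index * charDegree (θ : N → ℂ) := by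
      exact_mod_cast hdeg
    have hT : CharInduce.inertia N (θ : N → ℂ) = ⊤ := by
      rw [← Subgroup.index_eq_one]
      have hd : (CharInduce.inertia N (θ : N → ℂ)).index ∣ p ^ a := ha ▸ Subgroup.index_dvd_of_le
        (CharInduce.le_inertia N (CharBasic.IsIrr.isClassFunction θ.2))
      obtain ⟨i, -, hi⟩ := (Nat.dvd_prime_pow hp.out).1 hd
      rcases i with _ | i
      · simpa using hi
      · exact absurd (hdeg' ▸ ((hi.symm ▸ dvd_pow_self p i.succ_ne_zero :
          p ∣ (CharInduce.inertia N (θ : N → ℂ)).index).mul_left e).mul_right _) χ.2.2.1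
    have hinv : ∀ (x : G) (n : N),
        (θ : N → ℂ) ⟨x * n * x⁻¹, hN.conj_mem n n.2 x⟩ = (θ : N → ℂ) n := fun x n =>
      congrFun ((CharInduce.mem_inertia N).1 (hT ▸ Subgroup.mem_top x)) n
    obtain ⟨m, ρ, hρ, hρθ⟩ := θ.2
    obtain ⟨η, hη, hηN⟩ := H35.Extend.exists_extension_cyclic (N := N) ρ
      (fun g n => by rw [hρθ]; exact hinv g n) hcyc
    have hηres : IsIrrCharacter N (fun n : N => η n) := by rw [funext hηN]; exact ⟨m, ρ, hρ, rfl⟩
    obtain ⟨β, hβ⟩ := exists_eq_mul_inflate N hη hηres χ.1.2 (by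
      rw [show (fun n : N => η n) = (θ : N → ℂ) from funext fun n => by rw [hηN, hρθ]]; exact hθ)
    have hβ1 : (β : G ⧸ N → ℂ) 1 = 1 := by
      haveI := hcyc
      letI := IsCyclic.commGroup (α := G ⧸ N)
      exact CharInduce.IsIrr.degree_one_of_comm mul_comm β.2
    have hval : ∀ n : N, (χ.1 : G → ℂ) n = (θ : N → ℂ) n := fun n => by
      rw [hβ]
      show η n * inflate N β n = _
      rw [inflate, (QuotientGroup.eq_one_iff (n : G)).2 n.2, hβ1, mul_one, hηN, hρθ]
    refine ⟨⟨θ, mem_principalBlock_of_over N hM χ.2.1 hθ, fun hd => χ.2.2.1 ?_,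
      fun x _ => hinv x, fun n => ?_⟩, hval⟩
    · rw [hdeg']; exact hd.mul_left _
    · rw [← hval, ← hval, Subgroup.coe_pow]; exact χ.2.2.2 _
  choose r hr using hres
  -- the fibres
  have hfib : ∀ θ : T, Nat.card {χ : F // r χ = θ} = p := by
    intro θ
    have hinv : ∀ (x : G) (n : N),
        (θ.1 : N → ℂ) ⟨x * n * x⁻¹, hN.conj_mem n n.2 x⟩ = (θ.1 : N → ℂ) n := by
      intro x
      have hx : x ∈ CharInduce.inertia N (θ.1 : N → ℂ) := by
        have : (P : Subgroup G) ⊔ N ≤ CharInduce.inertia N (θ.1 : N → ℂ) :=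
          sup_le (fun y hy => (CharInduce.mem_inertia N).2 (funext fun n => θ.2.2.2.1 y hy n))
            (CharInduce.le_inertia N (CharBasic.IsIrr.isClassFunction θ.1.2))
        refine this ?_
        rw [hNres, Fusion.sylow_sup_pResidual]
        exact Subgroup.mem_top x
      exact congrFun ((CharInduce.mem_inertia N).1 hx)
    obtain ⟨η, hη, hηN, hηk⟩ := exists_fixed_extension_prime N θ.1.2 hinv θ.2.2.1 ha ho hlin hk
      hk₁ hk₂ θ.2.2.2.2
    have hηres : IsIrrCharacter N (fun n : N => η n) := by rw [funext hηN]; exact θ.1.2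
    have hmk : ∀ l : {l : G →* ℂˣ // (∀ n ∈ N, l n = 1) ∧ l ^ p = 1},
        ∃ χ : {χ : F // r χ = θ}, ∀ g, (χ.1.1 : G → ℂ) g = η g * (l.1 g : ℂ) := by
      intro l
      haveI := Fintype.ofFinite (G ⧸ N)
      have hβ : IsIrrCharacter (G ⧸ N)
          (fun q => ((QuotientGroup.lift N l.1 (fun n hn => l.2.1 n hn) q : ℂˣ) : ℂ)) :=
        CharInduce.isIrrCharacter_hom _
      have hirr : IsIrrCharacter G (fun g => η g * (l.1 g : ℂ)) :=
        isIrr_mul_inflate N hη hηres ⟨_, hβ⟩
      have hval : ∀ n : N, η n * (l.1 n : ℂ) = (θ.1 : N → ℂ) n := fun n => by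
        rw [l.2.1 n n.2, Units.val_one, mul_one, hηN]
      have hB : (⟨_, hirr⟩ : IrrCharacter G) ∈ principalBlock M G := by
        refine mem_principalBlock_of_pow_index hM N ⟨a, ha⟩ θ.2.1 ?_
        show classInner (fun n : N => η n * (l.1 n : ℂ)) _ ≠ 0
        rw [funext hval, CharBasic.classInner_irr_self θ.1.2]
        exact one_ne_zero
      have hd : ¬ p ∣ charDegree (fun g => η g * (l.1 g : ℂ)) := by
        rw [show charDegree (fun g => η g * (l.1 g : ℂ)) = charDegree (θ.1 : N → ℂ) by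
          unfold charDegree; rw [← hval 1, Subgroup.coe_one]]
        exact θ.2.2.1
      have hfix : ∀ g : G, η (g ^ k) * (l.1 (g ^ k) : ℂ) = η g * (l.1 g : ℂ) := by
        intro g
        rw [hηk]
        congr 2
        obtain ⟨y, hy, hc, hx, hodd⟩ := isPPart_pPart (p := p) g
        have hoy : Nat.Coprime (orderOf y) p := (hp.out.coprime_iff_not_dvd.2 hodd).symm
        rw [← hy, hc.mul_pow, map_mul, map_mul, hk₁ _ hx, hk₂ y hoy, map_pow, pow_add, pow_one,
          ← MonoidHom.pow_apply, l.2.2, MonoidHom.one_apply, mul_one]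
      refine ⟨⟨⟨⟨_, hirr⟩, hB, hd, hfix⟩, Subtype.ext (Subtype.ext (funext fun n => ?_))⟩,
        fun g => rfl⟩
      rw [← hr]
      exact hval n
    choose f hf using hmk
    rw [← card_linear_pow_eq_one N hcyc ha ha0, ← Nat.card_eq_of_bijective f ⟨fun l l' h => ?_,
      fun χ => ?_⟩]
    · haveI := Fintype.ofFinite (G ⧸ N)
      let lam : G →* ℂˣ := l'.1 * l.1⁻¹
      have hlam : ∀ n ∈ N, lam n = 1 := fun n hn => by simp [lam, l.2.1 n hn, l'.2.1 n hn]
      have hβ : IsIrrCharacter (G ⧸ N)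
          (fun q => ((QuotientGroup.lift N lam hlam q : ℂˣ) : ℂ)) :=
        CharInduce.isIrrCharacter_hom _
      have heq : ∀ g, η g * (lam g : ℂ) = η g := fun g => by
        have h1 : η g * (l.1 g : ℂ) = η g * (l'.1 g : ℂ) := by rw [← hf, ← hf, h]
        simp only [lam, MonoidHom.mul_apply, MonoidHom.inv_apply, Units.val_mul]
        rw [← mul_assoc, ← h1, mul_assoc, Units.mul_inv, mul_one]
      have h2 := classInner_mul_conj_inflate N hη hηres ⟨_, hβ⟩
      rw [show (fun g => η g * inflate N (fun q => ((QuotientGroup.lift N lam hlam q : ℂˣ) : ℂ)) g) = η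
        from funext heq, CharBasic.classInner_irr_self hη] at h2
      by_cases h3 : (fun q => ((QuotientGroup.lift N lam hlam q : ℂˣ) : ℂ)) = fun _ => 1
      · refine Subtype.ext (MonoidHom.ext fun g => ?_)
        have h4 : lam g = 1 := Units.ext (congrFun h3 (g : G ⧸ N))
        simp only [lam, MonoidHom.mul_apply, MonoidHom.inv_apply, mul_inv_eq_one] at h4
        exact h4.symm
      · rw [if_neg h3] at h2; exact absurd h2 one_ne_zero
    · obtain ⟨l, hlN, hl⟩ := exists_hom_of_extension N hη hηres χ.1.1.2 fun n => by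
        rw [hr, χ.2, hηN]
      refine ⟨⟨l, hlN, ?_⟩, Subtype.ext (Subtype.ext (Subtype.ext (funext fun g => ?_)))⟩
      · have hone : ∀ g, η g * (l (g ^ k) : ℂ) = η g * (l g : ℂ) := fun g => by
          have := χ.1.2.2.2 g
          rw [hl] at this
          simpa [hηk] using this
        haveI := Fintype.ofFinite (G ⧸ N)
        have hlp : ∀ g, l (g ^ k) = l g * l g ^ p := by
          intro g
          obtain ⟨y, hy, hc, hx, hodd⟩ := isPPart_pPart (p := p) g
          have hoy : Nat.Coprime (orderOf y) p := (hp.out.coprime_iff_not_dvd.2 hodd).symm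
          have hyN : y ∈ N := hNres ▸ Fusion.mem_pResidual hoy
          rw [← hy, hc.mul_pow, map_mul, map_mul, hk₁ _ hx, hk₂ y hoy, map_pow, hlN y hyN,
            pow_add, pow_one]
          simp
        have hlam : ∀ n ∈ N, (l ^ p) n = 1 := fun n hn => by
          rw [MonoidHom.pow_apply, hlN n hn, one_pow]
        have hβ : IsIrrCharacter (G ⧸ N)
            (fun q => ((QuotientGroup.lift N (l ^ p) hlam q : ℂˣ) : ℂ)) :=
          CharInduce.isIrrCharacter_hom _
        have heq : ∀ g, η g * ((l ^ p) g : ℂ) = η g := fun g => by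
          have h1 := hone g
          rw [hlp, Units.val_mul, ← mul_assoc, mul_right_comm] at h1
          exact mul_right_cancel₀ (Units.ne_zero (l g)) h1
        have h2 := classInner_mul_conj_inflate N hη hηres ⟨_, hβ⟩
        rw [show (fun g => η g * inflate N (fun q => ((QuotientGroup.lift N (l ^ p) hlam q : ℂˣ) : ℂ)) g)
          = η from funext heq, CharBasic.classInner_irr_self hη] at h2
        by_cases h3 : (fun q => ((QuotientGroup.lift N (l ^ p) hlam q : ℂˣ) : ℂ)) = fun _ => 1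
        · exact MonoidHom.ext fun g => Units.ext (congrFun h3 (g : G ⧸ N))
        · rw [if_neg h3] at h2; exact absurd h2 one_ne_zero
      · rw [hf]
        exact (congrFun hl g).symm
  show Nat.card F = p * Nat.card T
  haveI : Fintype T := Fintype.ofFinite T
  rw [← Nat.card_congr (Equiv.sigmaFiberEquiv r), Nat.card_sigma]
  simp only [hfib, Finset.sum_const, Finset.card_univ, smul_eq_mul, Nat.card_eq_fintype_card]
  ring

end Cfsg.Agent.H81
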