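import Cfsg.Agent.H81.DadePair
import Cfsg.Agent.H35.Extend
import Cfsg.Agent.PGroups.Basic

/-!
# Members of the principal block of `N` extend
-/

open scoped ComplexConjugate
open Cfsg.Agent.BlockBasic Cfsg.Agent.CharBasic

namespace Cfsg.Agent.H81

universe u

variable {p : ℕ} {M : Ideal AlgInt}

theorem IsDadePair.subgroupOf {G : Type u} [Group G] {N P : Subgroup G} (hd : IsDadePair p N P)
    (H : Subgroup G) (hNH : N ≤ H) : IsDadePair p (N.subgroupOf H) (P.subgroupOf H) where
  le := fun _ hx => hd.le hx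
  index := fun h => hd.index (h.trans
    (Dvd.intro _ (Subgroup.relIndex_mul_index (hd.le.trans hNH))))
  cover := fun g => by
    obtain ⟨y, hy, hgy⟩ := hd.cover g
    have hyH : y ∈ H := by
      have h := H.mul_mem g.2 (hNH hgy)
      rwa [mul_inv_cancel_left] at h
    exact ⟨⟨y, hyH⟩, Subgroup.mem_centralizer_iff.2 fun x hx =>
      Subtype.ext (Subgroup.mem_centralizer_iff.1 hy x hx), hgy⟩

/-- Extension to an intermediate subgroup with abelian quotient. -/
theorem exists_extension_sub {G : Type u} [Group G] [Fintype G] [Fact p.Prime]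
    (hM : IsPModular p M) {N P : Subgroup G} [N.Normal] [Fintype N] (hd : IsDadePair p N P)
    (H : Subgroup G) (hNH : N ≤ H)
    (hcomm : ∀ a b : H ⧸ N.subgroupOf H, a * b = b * a) {θ : IrrCharacter N}
    (hθ : θ ∈ principalBlock M N) :
    ∃ χ : IrrCharacter H, χ ∈ principalBlock M H ∧
      ∀ n : N, (χ : H → ℂ) ⟨n, hNH n.2⟩ = (θ : N → ℂ) n := by
  haveI := Fintype.ofFinite H
  haveI := Fintype.ofFinite (N.subgroupOf H)
  obtain ⟨χ, hχ, hχN⟩ := exists_extension_comm hM (N.subgroupOf H) (hd.subgroupOf H hNH) hcomm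
    (H83.irrComp_mem_principalBlock (Subgroup.subgroupOfEquivOfLe hNH) hθ)
  refine ⟨χ, hχ, fun n => (hχN ⟨⟨n, hNH n.2⟩, n.2⟩).trans ?_⟩
  rw [H83.irrComp_apply]
  exact congrArg (θ : N → ℂ) (Subtype.ext rfl)

theorem comm_quotient_zpowers {G : Type u} [Group G] (N : Subgroup G) [N.Normal] (y : G) :
    ∀ a b : ↥(N ⊔ Subgroup.zpowers y) ⧸ N.subgroupOf (N ⊔ Subgroup.zpowers y), a * b = b * a := by
  set H := N ⊔ Subgroup.zpowers y
  let yH : H := ⟨y, Subgroup.mem_sup_right (Subgroup.mem_zpowers y)⟩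
  have hgen : ∀ a : H ⧸ N.subgroupOf H, ∃ i : ℤ, a = (yH : H ⧸ N.subgroupOf H) ^ i := by
    intro a
    obtain ⟨x, rfl⟩ := QuotientGroup.mk'_surjective _ a
    have hx : (x : G) ∈ N ⊔ Subgroup.zpowers y := x.2
    rw [Subgroup.mem_sup_of_normal_left] at hx
    obtain ⟨n, hn, z, hz, he⟩ := hx
    obtain ⟨i, rfl⟩ := Subgroup.mem_zpowers_iff.1 hz
    refine ⟨i, ?_⟩
    rw [← QuotientGroup.mk_zpow, QuotientGroup.mk'_apply, QuotientGroup.eq, Subgroup.mem_subgroupOf]
    show (x : G)⁻¹ * (yH ^ i : H) ∈ N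
    rw [Subgroup.coe_zpow, ← he]
    show (n * y ^ i)⁻¹ * y ^ i ∈ N
    have := Subgroup.Normal.conj_mem ‹N.Normal› _ (N.inv_mem hn) (y ^ i)⁻¹
    simpa [mul_assoc] using this
  intro a b
  obtain ⟨i, rfl⟩ := hgen a
  obtain ⟨j, rfl⟩ := hgen b
  rw [← zpow_add, ← zpow_add, add_comm]

/-- Members of the principal block of `N` are invariant. -/
theorem invariant_of_principal {G : Type u} [Group G] [Fintype G] [Fact p.Prime]
    (hM : IsPModular p M) (N : Subgroup G) {P : Subgroup G} [hN : N.Normal] [Fintype N]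
    (hd : IsDadePair p N P) {θ : IrrCharacter N} (hθ : θ ∈ principalBlock M N) (g : G) (n : N) :
    (θ : N → ℂ) ⟨g * n * g⁻¹, hN.conj_mem n n.2 g⟩ = (θ : N → ℂ) n := by
  obtain ⟨y, -, hgy⟩ := hd.cover g
  set H := N ⊔ Subgroup.zpowers y
  have hNH : N ≤ H := le_sup_left
  obtain ⟨χ, -, hχ⟩ := exists_extension_sub hM hd H hNH (comm_quotient_zpowers N y) hθ
  have hy : y ∈ H := Subgroup.mem_sup_right (Subgroup.mem_zpowers y)
  have hg : g ∈ H := by
    have h := H.mul_mem hy (H.inv_mem (hNH hgy))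
    rwa [mul_inv_rev, inv_inv, mul_inv_cancel_left] at h
  rw [← hχ, ← hχ n]
  exact IsIrr.isClassFunction χ.2 ⟨n, hNH n.2⟩ ⟨g, hg⟩

/-- Extension through a quotient of prime power order. -/
theorem exists_extension_prime_power [Fact p.Prime] (hM : IsPModular p M) (q : ℕ) [Fact q.Prime]
    (j : ℕ) :
    ∀ (G : Type u) [Group G] [Fintype G] (N : Subgroup G) [N.Normal] [Fintype N] (P : Subgroup G),
      IsDadePair p N P → N.index = q ^ j → ∀ θ : IrrCharacter N, θ ∈ principalBlock M N →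
      ∃ χ : IrrCharacter G, χ ∈ principalBlock M G ∧ ∀ n : N, (χ : G → ℂ) n = (θ : N → ℂ) n := by
  induction j with
  | zero =>
    intro G _ _ N _ _ P hd hN θ hθ
    rw [pow_zero, Subgroup.index_eq_one] at hN
    haveI : Subsingleton (G ⧸ N) := by
      rw [hN]; exact QuotientGroup.subsingleton_quotient_top
    exact exists_extension_comm hM N hd (fun a b => Subsingleton.elim _ _) hθ
  | succ j ih =>
    intro G _ _ N _ _ P hd hN θ hθ
    have hcard : Nat.card (G ⧸ N) = q ^ (j + 1) := by rw [← Subgroup.index_eq_card, hN]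
    obtain ⟨K, hK⟩ := Sylow.exists_subgroup_card_pow_prime (G := G ⧸ N) q (n := j)
      (hcard ▸ pow_dvd_pow q (Nat.le_succ j))
    have hKi : K.index = q := by
      have h := K.card_mul_index
      rw [hK, hcard, pow_succ] at h
      exact Nat.eq_of_mul_eq_mul_left (pow_pos (Fact.out : q.Prime).pos j) h
    haveI : K.Normal := PGroups.normal_of_index_eq (IsPGroup.of_card hcard) hKi
    let L := K.comap (QuotientGroup.mk' N)
    haveI : L.Normal := inferInstanceAs (K.comap (QuotientGroup.mk' N)).Normal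
    have hLi : L.index = q := by
      rw [Subgroup.index_comap_of_surjective _ (QuotientGroup.mk'_surjective N), hKi]
    have hNL : N ≤ L := fun n hn => by
      show (n : G ⧸ N) ∈ K
      rw [(QuotientGroup.eq_one_iff n).2 hn]; exact K.one_mem
    have hrel : (N.subgroupOf L).index = q ^ j := by
      have h := Subgroup.relIndex_mul_index hNL
      rw [hLi, hN, pow_succ] at h
      exact Nat.eq_of_mul_eq_mul_right (Fact.out : q.Prime).pos h
    haveI := Fintype.ofFinite L
    haveI := Fintype.ofFinite (N.subgroupOf L)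
    obtain ⟨φ, hφ, hφN⟩ := ih L (N.subgroupOf L) (P.subgroupOf L) (hd.subgroupOf L hNL) hrel _
      (H83.irrComp_mem_principalBlock (Subgroup.subgroupOfEquivOfLe hNL) hθ)
    have hdL : IsDadePair p L P := ⟨hd.le.trans hNL, hd.index, fun g => by
      obtain ⟨y, hy, hgy⟩ := hd.cover g
      exact ⟨y, hy, hNL hgy⟩⟩
    haveI : Fact q.Prime := inferInstance
    haveI : IsCyclic (G ⧸ L) := isCyclic_of_prime_card (p := q) (by rw [← Subgroup.index_eq_card, hLi])
    letI := IsCyclic.commGroup (α := G ⧸ L)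
    obtain ⟨χ, hχ, hχL⟩ := exists_extension_comm hM L hdL mul_comm hφ
    refine ⟨χ, hχ, fun n => ?_⟩
    rw [hχL ⟨n, hNL n.2⟩, hφN ⟨⟨n, hNL n.2⟩, n.2⟩, H83.irrComp_apply]
    exact congrArg (θ : N → ℂ) (Subtype.ext rfl)

/-- Every member of the principal block of `N` extends to `G`. -/
theorem exists_extension_principal {G : Type u} [Group G] [Fintype G] [Fact p.Prime]
    (hM : IsPModular p M) (N : Subgroup G) {P : Subgroup G} [hN : N.Normal] [Fintype N]
    (hd : IsDadePair p N P) {θ : IrrCharacter N} (hθ : θ ∈ principalBlock M N) :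
    ∃ χ : G → ℂ, IsIrrCharacter G χ ∧ ∀ n : N, χ n = (θ : N → ℂ) n := by
  classical
  obtain ⟨m, ρ, hρ, hρθ⟩ := θ.2
  obtain ⟨χ, hχ, hχN⟩ := H35.Extend.exists_extension_local (N := N) ρ
    (fun g n => by rw [hρθ]; exact invariant_of_principal hM N hd hθ g n) (fun q hq => by
      haveI : Fact q.Prime := ⟨hq⟩
      obtain ⟨Q⟩ : Nonempty (Sylow q (G ⧸ N)) := inferInstance
      let L := (Q : Subgroup (G ⧸ N)).comap (QuotientGroup.mk' N)
      have hNL : N ≤ L := fun n hn => by
        show (n : G ⧸ N) ∈ (Q : Subgroup (G ⧸ N))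
        rw [(QuotientGroup.eq_one_iff n).2 hn]; exact one_mem _
      obtain ⟨j, hj⟩ := IsPGroup.iff_card.1 Q.isPGroup'
      have hLi : L.index = (Q : Subgroup (G ⧸ N)).index :=
        Subgroup.index_comap_of_surjective _ (QuotientGroup.mk'_surjective N)
      have hrel : (N.subgroupOf L).index = q ^ j := by
        have h := Subgroup.relIndex_mul_index hNL
        rw [hLi, Subgroup.index_eq_card (H := N), ← (Q : Subgroup (G ⧸ N)).card_mul_index, hj] at h
        exact Nat.eq_of_mul_eq_mul_right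
          (Nat.pos_of_ne_zero Subgroup.index_ne_zero_of_finite) h
      haveI := Fintype.ofFinite L
      haveI := Fintype.ofFinite (N.subgroupOf L)
      obtain ⟨φ, -, hφN⟩ := exists_extension_prime_power hM q j L (N.subgroupOf L) (P.subgroupOf L)
        (hd.subgroupOf L hNL) hrel _
        (H83.irrComp_mem_principalBlock (Subgroup.subgroupOfEquivOfLe hNL) hθ)
      obtain ⟨l, σ, hσ, hσφ⟩ := φ.2
      obtain ⟨σ', hσ'⟩ := H35.Extend.exists_conj_restrict (Subgroup.inclusion hNL) ρ σ
        (fun a => by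
          rw [hσφ, hρθ]
          refine (hφN ⟨⟨a, hNL a.2⟩, a.2⟩).trans ?_
          rw [H83.irrComp_apply]
          exact congrArg (θ : N → ℂ) (Subtype.ext rfl))
      exact ⟨L, hNL, σ', fun h => Q.not_dvd_index (hLi ▸ h), hσ'⟩)
  exact ⟨χ, hχ, fun n => by rw [hχN, hρθ]⟩

end Cfsg.Agent.H81
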