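import Cfsg.Agent.H81.CoverParity
import Cfsg.Agent.H81.FixedOver
import Cfsg.Agent.H81.Gallagher
import Cfsg.Agent.BlockBasic.Roots
import Cfsg.Agent.H82.PrincipalBlock
import Cfsg.Agent.CharInduce.Transport
import Cfsg.Agent.CharBasic.Equivalence
import Cfsg.Agent.H83.PrincipalPair

/-!
# Principal blocks over a normal subgroup covered by the centraliser of a Sylow subgroup

For `N` normal with `G = N C(P)`, `P ≤ N` of index prime to `p`: the ratios `χ y / χ 1` at elements of
`C(P)` are units, which pins down the characters of the principal block over those of `N`.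
-/

open scoped ComplexConjugate
open Cfsg.Agent.BlockBasic Cfsg.Agent.CharBasic

namespace Cfsg.Agent.H81

universe u

/-- `P ≤ N` has index prime to `p` and `N C(P)` is everything. -/
structure IsDadePair (p : ℕ) {G : Type u} [Group G] (N P : Subgroup G) : Prop where
  le : P ≤ N
  index : ¬ p ∣ P.index
  cover : ∀ g : G, ∃ y ∈ Subgroup.centralizer (P : Set G), g⁻¹ * y ∈ N

variable {p : ℕ} {M : Ideal AlgInt}

theorem IsDadePair.index_not_dvd {G : Type u} [Group G] {N P : Subgroup G}
    (hd : IsDadePair p N P) : ¬ p ∣ N.index :=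
  fun h => hd.index (h.trans (Subgroup.index_dvd_of_le hd.le))

/-- A class centralised by `P` has size prime to `p`. -/
theorem not_dvd_classSize {G : Type u} [Group G] {P : Subgroup G} (hP : ¬ p ∣ P.index) {y : G}
    (hy : y ∈ Subgroup.centralizer (P : Set G)) :
    ¬ p ∣ (Subgroup.centralizer ({y} : Set G)).index := fun h =>
  hP (h.trans (Subgroup.index_dvd_of_le fun x hx =>
    Subgroup.mem_centralizer_singleton_iff.2 (Subgroup.mem_centralizer_iff.1 hy x hx)))

theorem memLocalRing_ratio {G : Type u} [Group G] [Finite G] (hM : IsPModular p M)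
    {P : Subgroup G} (hP : ¬ p ∣ P.index) (χ : IrrCharacter G) {y : G}
    (hy : y ∈ Subgroup.centralizer (P : Set G)) :
    MemLocalRing M ((χ : G → ℂ) y / (χ : G → ℂ) 1) := by
  cases nonempty_fintype G
  have h := memLocalRing_mul hM (memLocalRing_natCast_inv hM (not_dvd_classSize hP hy))
    (memLocalRing_centralChar hM χ.2 y)
  rwa [centralChar, mul_div_assoc, ← mul_assoc, inv_mul_cancel₀
    (Nat.cast_ne_zero.2 Subgroup.index_ne_zero_of_finite), one_mul] at h

theorem ratio_modM_one {G : Type u} [Group G] [Finite G] (hM : IsPModular p M)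
    {P : Subgroup G} (hP : ¬ p ∣ P.index) {χ : IrrCharacter G} (hχ : χ ∈ principalBlock M G) {y : G}
    (hy : y ∈ Subgroup.centralizer (P : Set G)) :
    ModM M ((χ : G → ℂ) y / (χ : G → ℂ) 1) 1 := by
  have h := memLocalIdeal_mul hM (memLocalRing_natCast_inv hM (not_dvd_classSize hP hy))
    ((H82.mem_principalBlock_iff χ).1 hχ y)
  rw [centralChar, mul_div_assoc, ← mul_one_sub, ← mul_assoc, inv_mul_cancel₀
    (Nat.cast_ne_zero.2 Subgroup.index_ne_zero_of_finite), one_mul] at h
  exact ModM.symm h

/-- An irreducible character of a `p'`-group proportional mod `M` to a linear one is that one. -/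
theorem eq_hom_of_ratio {Q : Type u} [Group Q] [Fintype Q] (hM : IsPModular p M)
    (hQ : ¬ p ∣ Nat.card Q) (β : IrrCharacter Q) (l : Q →* ℂˣ)
    (h : ∀ q, ModM M ((β : Q → ℂ) q / (β : Q → ℂ) 1) (l q : ℂ)) :
    (β : Q → ℂ) = fun q => (l q : ℂ) := by
  by_contra hne
  have hl := CharInduce.isIrrCharacter_hom l
  have h0 := classInner_irr_of_ne β.2 hl hne
  rw [classInner_def, mul_eq_zero, or_iff_right (inv_ne_zero (Nat.cast_ne_zero.2 Nat.card_pos.ne'))] at h0
  have hnorm : ∀ q, (l q : ℂ) * conj (l q : ℂ) = 1 := fun q => by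
    rw [Complex.mul_conj', Complex.norm_eq_one_of_pow_eq_one (n := orderOf q) (by
      rw [← Units.val_pow_eq_pow_val, ← map_pow, pow_orderOf_eq_one, map_one, Units.val_one])
      (orderOf_pos q).ne']
    simp
  have hring : ∀ q, MemLocalRing M (conj (l q : ℂ)) := fun q =>
    memLocalRing_of_isIntegral hM (isIntegral_conj_apply ⟨_, hl⟩ q)
  have h1 := ModM.sum hM Finset.univ fun q (_ : q ∈ Finset.univ) => (h q).mul_right hM (hring q)
  simp only [hnorm, Finset.sum_const, nsmul_one, div_mul_eq_mul_div, ← Finset.sum_div, h0, zero_div,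
    Finset.card_univ] at h1
  rw [← Nat.card_eq_fintype_card] at h1
  exact hQ ((memLocalIdeal_natCast_iff hM _).1 (modM_zero_iff.1 h1.symm))

variable {G : Type u} [Group G] [Fintype G] [hp : Fact p.Prime] (hM : IsPModular p M)
  (N : Subgroup G) [hN : N.Normal] [Fintype N] {P : Subgroup G}

include hM

omit hp in
/-- Only the trivial character lies in the principal block over the trivial one. -/
theorem eq_one_of_over_trivial (hd : IsDadePair p N P) {χ : IrrCharacter G}
    (hχ : χ ∈ principalBlock M G)
    (hover : classInner (fun n : N => (χ : G → ℂ) n) (fun _ : N => (1 : ℂ)) ≠ 0) :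
    (χ : G → ℂ) = fun _ => 1 := by
  classical
  have hres := res_eq_mul N (θ := fun _ : N => (1 : ℂ)) isIrrCharacter_one (fun _ => rfl) χ.2 hover
  have htriv : ∀ n ∈ N, (χ : G → ℂ) n = (χ : G → ℂ) 1 := fun n hn => by
    have h1 := hres ⟨n, hn⟩
    have h2 := hres 1
    simp only [Subgroup.coe_one] at h2
    rw [h2]
    exact h1
  obtain ⟨ψ, -, hψ, hψi⟩ := CharInduce.IsChar.exists_deflate (IsIrr.isCharacter χ.2) N htriv
  haveI : Fintype (G ⧸ N) := Fintype.ofFinite _
  have hψ1 := eq_hom_of_ratio hM (by rw [← Subgroup.index_eq_card]; exact hd.index_not_dvd)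
    ⟨ψ, hψi χ.2⟩ 1 fun q => by
      obtain ⟨g, rfl⟩ := QuotientGroup.mk'_surjective N q
      obtain ⟨y, hy, hgy⟩ := hd.cover g
      have he : (g : G ⧸ N) = (y : G ⧸ N) := QuotientGroup.eq.2 hgy
      show ModM M (ψ (g : G ⧸ N) / ψ 1) ((1 : ℂˣ) : ℂ)
      rw [he, ← QuotientGroup.mk_one, ← hψ, ← hψ, Units.val_one]
      exact ratio_modM_one hM hd.index hχ hy
  funext g
  rw [hψ]
  exact congrFun hψ1 _

omit hp in
/-- Every member of the principal block of `N` lies under one of the principal block of `G`. -/
theorem exists_over (hd : IsDadePair p N P) {θ : IrrCharacter N} (hθ : θ ∈ principalBlock M N) :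
    ∃ χ ∈ principalBlock M G, classInner (fun n : N => (χ : G → ℂ) n) (θ : N → ℂ) ≠ 0 := by
  classical
  by_contra hcon
  push Not at hcon
  have h0 : overWeight N θ (principalBlock M G) = 0 := by
    rw [overWeight, Finset.sum_eq_zero, mul_zero]
    intro χ _
    split_ifs with h
    · have h1 := cast_overMult N θ χ
      rw [hcon χ h, Nat.cast_eq_zero] at h1
      rw [h1]; rfl
    · rfl
  let one : IrrCharacter N := trivialIrr
  let One : IrrCharacter G := trivialIrr
  have hover : classInner (fun n : N => (One : G → ℂ) n) (one : N → ℂ) = 1 :=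
    classInner_irr_self one.2
  have hOne : One ∈ principalBlock M G := sameBlock_refl hM _
  have h1 : overWeight N one (principalBlock M G) = 1 := by
    have hT : CharInduce.inertia N (one : N → ℂ) = ⊤ := by
      rw [Subgroup.eq_top_iff']
      exact fun x => (CharInduce.mem_inertia N).2 rfl
    rw [overWeight, hT, Subgroup.index_top, one_mul, Finset.sum_eq_single One]
    · have h2 := cast_overMult N one One
      rw [hover, Nat.cast_eq_one] at h2
      rw [if_pos hOne, h2, one_pow]
    · intro χ _ hne
      split_ifs with h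
      · have h2 : overMult N one χ = 0 := by
          by_contra h3
          refine hne (Subtype.ext (eq_one_of_over_trivial hM N hd h ?_))
          have h4 := cast_overMult N one χ
          show classInner (fun n : N => (χ : G → ℂ) n) (one : N → ℂ) ≠ 0
          rw [← h4]
          exact Nat.cast_ne_zero.2 h3
        rw [h2]; rfl
      · rfl
    · simp
  have hc := omega_congr hM (IsIrr.isClassFunction one.2) (IsIrr.isClassFunction θ.2) hθ
    (isCentralElt_resMap (H := N) (isCentralElt_blockElem (principalBlock M G)))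
    (isIntElt_resMap (H := N) (isIntElt_blockElem hM (isPBlock_principalBlock M)))
  have h2 := memLocalIdeal_mul hM (memLocalRing_natCast hM N.index) hc
  rw [mul_sub, index_mul_omega, index_mul_omega, h0, h1, Nat.cast_zero, sub_zero, Nat.cast_one] at h2
  exact not_memLocalIdeal_one hM h2

omit hp in
/-- The case of an abelian quotient. -/
theorem exists_extension_comm (hd : IsDadePair p N P)
    (hcomm : ∀ a b : G ⧸ N, a * b = b * a) {θ : IrrCharacter N} (hθ : θ ∈ principalBlock M N) :
    ∃ χ ∈ principalBlock M G, ∀ n : N, (χ : G → ℂ) n = (θ : N → ℂ) n := by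
  classical
  haveI : Fintype (G ⧸ N) := Fintype.ofFinite _
  obtain ⟨χ, hχ, hover⟩ := exists_over hM N hd hθ
  refine ⟨χ, hχ, fun n => ?_⟩
  have hnorm : classInner (fun n : N => (χ : G → ℂ) n) (fun n : N => (χ : G → ℂ) n) = 1 := by
    rw [classInner_res_eq_sum, Finset.sum_eq_single (⟨fun _ => 1, isIrrCharacter_one⟩ :
      IrrCharacter (G ⧸ N))]
    · simp only [inflate, mul_one, one_mul]
      exact classInner_irr_self χ.2
    · intro β _ hne
      obtain ⟨l, hl⟩ := CharInduce.IsChar.exists_hom_of_degree_one (IsIrr.isCharacter β.2)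
        (CharInduce.IsIrr.degree_one_of_comm hcomm β.2)
      have hirr : IsIrrCharacter G (fun g => (χ : G → ℂ) g * inflate N β g) := by
        refine CharInduce.isIrr_of_norm_one
          (CharInduce.IsChar.mul (IsIrr.isCharacter χ.2) (IsIrr.isCharacter (isIrr_inflate N β))) ?_
        rw [← classInner_irr_self χ.2, classInner_def, classInner_def]
        congr 1
        refine Finset.sum_congr rfl fun g _ => ?_
        simp only [Pi.mul_apply, inflate, hl]
        have h1 : (l (g : G ⧸ N) : ℂ) * conj (l (g : G ⧸ N) : ℂ) = 1 := by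
          rw [Complex.mul_conj', Complex.norm_eq_one_of_pow_eq_one (n := orderOf (g : G ⧸ N)) (by
            rw [← Units.val_pow_eq_pow_val, ← map_pow, pow_orderOf_eq_one, map_one, Units.val_one])
            (orderOf_pos _).ne']
          simp
        rw [map_mul, mul_mul_mul_comm, h1, mul_one]
      rw [classInner_irr_of_ne χ.2 hirr, mul_zero]
      intro he
      refine hne (Subtype.ext (funext fun q => ?_))
      obtain ⟨g, rfl⟩ := QuotientGroup.mk'_surjective N q
      obtain ⟨y, hy, hgy⟩ := hd.cover g
      show (β : G ⧸ N → ℂ) (g : G ⧸ N) = 1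
      rw [show (g : G ⧸ N) = (y : G ⧸ N) from QuotientGroup.eq.2 hgy]
      have h1 := congrFun he y
      have hy0 : (χ : G → ℂ) y ≠ 0 := fun h0 => by
        have h2 := ratio_modM_one hM hd.index hχ hy
        rw [h0, zero_div] at h2
        exact not_memLocalIdeal_one hM (modM_zero_iff.1 h2.symm)
      exact (mul_left_cancel₀ hy0 ((mul_one _).trans h1)).symm
    · simp
  have hirrN := CharInduce.isIrr_of_norm_one (CharInduce.IsChar.res (IsIrr.isCharacter χ.2) N) hnorm
  by_contra hne
  exact hover (classInner_irr_of_ne hirrN θ.2 fun he => hne (congrFun he n))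

end Cfsg.Agent.H81
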