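import Cfsg.Agent.H81.Gallagher
import Cfsg.Agent.H81.Adams
import Cfsg.Agent.H35.Extend
import Cfsg.Agent.CharBasic.Equivalence
import Cfsg.Agent.BlockBasic.PPart

/-!
# Determinants: fixed extensions through a quotient of `2`-power order
-/

open scoped ComplexConjugate
open Cfsg.Agent.CharBasic

namespace Cfsg.Agent.H81

universe u

/-- The determinant of a representation. -/
noncomputable def detHom {H : Type*} [Group H] {V : Type*} [AddCommGroup V] [Module ℂ V]
    (ρ : Representation ℂ H V) : H →* ℂˣ :=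
  (LinearMap.det.comp ρ).toHomUnits

theorem detHom_apply {H : Type*} [Group H] {V : Type*} [AddCommGroup V] [Module ℂ V]
    (ρ : Representation ℂ H V) (g : H) : (detHom ρ g : ℂ) = LinearMap.det (ρ g) :=
  MonoidHom.coe_toHomUnits _ _

theorem detHom_eq_of_character_eq {H : Type*} [Group H] [Finite H] {n m : ℕ}
    (ρ : Representation ℂ H (Fin n → ℂ)) (σ : Representation ℂ H (Fin m → ℂ))
    (h : ρ.character = σ.character) : detHom ρ = detHom σ := by
  obtain ⟨e⟩ := nonempty_equiv_of_character_eq ρ σ h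
  ext g
  rw [detHom_apply, detHom_apply]
  have he : σ g = e.toLinearEquiv.toLinearMap ∘ₗ ρ g ∘ₗ e.toLinearEquiv.symm.toLinearMap := by
    refine LinearMap.ext fun v => ?_
    obtain ⟨w, rfl⟩ := e.toLinearEquiv.surjective v
    simp only [LinearMap.coe_comp, LinearEquiv.coe_coe, Function.comp_apply,
      LinearEquiv.symm_apply_apply]
    exact (e.toIntertwiningMap.isIntertwining _ _ g w).symm
  rw [he]
  exact (LinearMap.det_conj (ρ g) e.toLinearEquiv).symm

/-- Characters related on the powers of `g` give related determinants at `g`. -/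
theorem det_pow_eq {G : Type*} [Group G] [Finite G] {n m : ℕ}
    (ρ : Representation ℂ G (Fin n → ℂ)) (τ : Representation ℂ G (Fin m → ℂ)) (k : ℕ)
    (h : ∀ g : G, τ.character g = ρ.character (g ^ k)) (g : G) :
    detHom τ g = detHom ρ (g ^ k) := by
  let q : Subgroup.zpowers g →* G :=
    { toFun := fun x => (x : G) ^ k
      map_one' := by simp
      map_mul' := fun x y => by
        obtain ⟨i, hi⟩ := Subgroup.mem_zpowers_iff.1 x.2
        obtain ⟨j, hj⟩ := Subgroup.mem_zpowers_iff.1 y.2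
        rw [Subgroup.coe_mul, ← hi, ← hj]
        exact (Commute.zpow_zpow_self g i j).mul_pow k }
  let ι := (Subgroup.zpowers g).subtype
  let τ' : Representation ℂ (Subgroup.zpowers g) (Fin m → ℂ) := τ.comp ι
  let ρ' : Representation ℂ (Subgroup.zpowers g) (Fin n → ℂ) := ρ.comp q
  have hchar : τ'.character = ρ'.character := funext fun x => h (x : G)
  have h2 := congrFun (congrArg DFunLike.coe (detHom_eq_of_character_eq τ' ρ' hchar))
    ⟨g, Subgroup.mem_zpowers g⟩
  refine Units.ext ?_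
  have h3 := congrArg Units.val h2
  rw [detHom_apply, detHom_apply] at h3 ⊢
  exact h3

variable {G : Type u} [Group G] [Fintype G] (N : Subgroup G) [N.Normal] [Fintype N]

/-- An invariant character of odd degree of a normal subgroup without quotient of order `2` and of
`2`-power index extends to a character fixed by cubing the `2`-parts. -/
theorem exists_fixed_extension_two {θ : N → ℂ} (hθ : IsIrrCharacter N θ)
    (hinv : ∀ (g : G) (m : N), θ ⟨g * m * g⁻¹, Subgroup.Normal.conj_mem ‹_› _ m.2 g⟩ = θ m)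
    (hdeg : Odd (charDegree θ)) {a : ℕ} (hidx : N.index = 2 ^ a) {o : ℕ} (ho : Odd o)
    (hlin : ∀ l : N →* ℂˣ, l ^ o = 1) {k : ℕ} (hk : Nat.Coprime k (Nat.card G))
    (hk₁ : ∀ g : G, (∃ j : ℕ, orderOf g = 2 ^ j) → g ^ k = g ^ 3)
    (hk₂ : ∀ g : G, Odd (orderOf g) → g ^ k = g) (hfix : ∀ n : N, θ (n ^ k) = θ n) :
    ∃ χ : G → ℂ, IsIrrCharacter G χ ∧ (∀ n : N, χ n = θ n) ∧ ∀ g : G, χ (g ^ k) = χ g := by
  classical
  haveI : Fact (Nat.Prime 2) := ⟨Nat.prime_two⟩
  obtain ⟨n, ρ, hρ, hρθ⟩ := hθ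
  have hn : Odd n := by
    have h1 : charDegree θ = n := by
      rw [← hρθ, charDegree, Representation.char_one]
      simp
    rwa [h1] at hdeg
  have hinv' : ∀ (g : G) (m : N), ρ.character (H35.Extend.nconj N g m) = ρ.character m := fun g m => by
    rw [hρθ]; exact hinv g m
  obtain ⟨ψ₁, hψ₁, hψ₁c⟩ := H35.Extend.exists_power_retraction ρ hinv' N ρ le_rfl fun m => rfl
  let D : H35.Extend.twinGroup N ρ →* ℂˣ := (LinearMap.det.comp (H35.Extend.op N ρ)).toHomUnits
  have hD : ∀ m, D (H35.Extend.baseHom N ρ m) = detHom ρ m := fun m => Units.ext rfl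
  have hDc : ∀ c, D (H35.Extend.scalarHom N ρ c) = c ^ n := fun c => Units.ext (by
    show LinearMap.det (H35.Extend.op N ρ (H35.Extend.scalarHom N ρ c)) = _
    rw [H35.Extend.op_scalarHom, Algebra.algebraMap_eq_smul_one, LinearMap.det_smul,
      Module.finrank_fin_fun, LinearMap.det.map_one, mul_one, Units.val_pow_eq_pow_val])
  have hDo : ∀ m, (D ^ o) (H35.Extend.baseHom N ρ m) = 1 := fun m => by
    rw [MonoidHom.pow_apply, hD, ← MonoidHom.pow_apply, hlin, MonoidHom.one_apply]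
  obtain ⟨u, v, huv⟩ : ∃ u v : ℤ, u * (2 ^ a : ℕ) + v * (n * o : ℕ) = 1 := by
    have hco : Nat.Coprime (2 ^ a) (n * o) :=
      (Nat.coprime_two_left.2 (hn.mul ho)).pow_left a
    exact Int.isCoprime_iff_nat_coprime.2 hco
  obtain ⟨η, hη, hηN⟩ := H35.Extend.exists_extension_of_retraction ρ hinv' (ψ₁ ^ u * (D ^ o) ^ v)
    (fun m => by simp [MonoidHom.mul_apply, MonoidHom.zpow_apply, hψ₁, hDo m])
    (fun c => by
      rw [MonoidHom.mul_apply, MonoidHom.zpow_apply, MonoidHom.zpow_apply, hψ₁c,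
        MonoidHom.pow_apply, hDc, ← pow_mul, hidx, ← zpow_natCast c, ← zpow_natCast c,
        ← zpow_mul, ← zpow_mul, ← zpow_add, mul_comm _ u, mul_comm _ v, huv, zpow_one])
  obtain ⟨d, σ, hσ, rfl⟩ := hη
  have hd : d = n := by
    have h1 := hηN 1
    rw [Subgroup.coe_one, Representation.char_one, Representation.char_one] at h1
    simpa using h1
  subst d
  have hηN' : ∀ m : N, σ.character m = θ m := fun m => by rw [hηN, hρθ]
  have hres : IsIrrCharacter N (fun m : N => σ.character (m : G)) := by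
    rw [funext hηN']; exact ⟨n, ρ, hρ, hρθ⟩
  have hτ := isIrr_comp_pow hk (show IsIrrCharacter G σ.character from ⟨n, σ, hσ, rfl⟩)
  obtain ⟨l, hlN, hl⟩ := exists_hom_of_extension N ⟨n, σ, hσ, rfl⟩ hres hτ fun m => by
    show σ.character ((m : G) ^ k) = σ.character (m : G)
    rw [← Subgroup.coe_pow, hηN', hηN', hfix]
  -- the twist, computed with determinants
  let τ : Representation ℂ G (Fin n → ℂ) :=
    { toFun := fun g => (l g : ℂ) • σ g
      map_one' := by simp
      map_mul' := fun g h => by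
        simp only [map_mul, Units.val_mul, smul_mul_smul_comm] }
  have hτc : ∀ g, τ.character g = σ.character (g ^ k) := fun g => by
    show LinearMap.trace ℂ _ ((l g : ℂ) • σ g) = _
    rw [map_smul, smul_eq_mul]
    exact (mul_comm _ _).trans (congrFun hl g).symm
  let δ := detHom σ
  have hδl : ∀ g : G, l g ^ n * δ g = δ (g ^ k) := fun g => by
    rw [← det_pow_eq σ τ k hτc g]
    refine Units.ext ?_
    rw [Units.val_mul, Units.val_pow_eq_pow_val, detHom_apply, detHom_apply]
    show _ = LinearMap.det ((l g : ℂ) • σ g)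
    rw [LinearMap.det_smul, Module.finrank_fin_fun]
  have hδN : ∀ m ∈ N, (δ ^ o) m = 1 := fun m hm => by
    have h := congrFun (congrArg DFunLike.coe (hlin (δ.comp N.subtype))) ⟨m, hm⟩
    exact h
  obtain ⟨j, hj⟩ : ∃ j : ℕ, 2 ^ a ∣ n * o * j + 1 := by
    haveI : NeZero (2 ^ a) := ⟨by positivity⟩
    have hco : Nat.Coprime (n * o) (2 ^ a) :=
      (Nat.coprime_two_right.2 (hn.mul ho)).pow_right a
    refine ⟨(-((ZMod.unitOfCoprime (n * o) hco)⁻¹ : (ZMod (2 ^ a))ˣ) : ZMod (2 ^ a)).val, ?_⟩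
    rw [← ZMod.natCast_eq_zero_iff]
    push_cast [ZMod.natCast_val, ZMod.cast_id', id_eq]
    rw [show (n : ZMod (2 ^ a)) * o = (ZMod.unitOfCoprime (n * o) hco : ZMod (2 ^ a)) by simp,
      mul_neg, Units.mul_inv, neg_add_cancel]
  let μ := (δ ^ o) ^ j
  have hμN : ∀ m ∈ N, μ m = 1 := fun m hm => by
    rw [MonoidHom.pow_apply, hδN m hm, one_pow]
  have hirr : IsIrrCharacter (G ⧸ N)
      (fun q => ((QuotientGroup.lift N μ (fun m hm => hμN m hm) q : ℂˣ) : ℂ)) :=
    haveI := Fintype.ofFinite (G ⧸ N)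
    CharInduce.isIrrCharacter_hom _
  refine ⟨fun g => σ.character g * (μ g : ℂ),
    isIrr_mul_inflate N ⟨n, σ, hσ, rfl⟩ hres ⟨_, hirr⟩, fun m => ?_, fun g => ?_⟩
  · show σ.character (m : G) * (μ m : ℂ) = θ m
    rw [hμN m m.2, Units.val_one, mul_one, hηN']
  obtain ⟨y, hy, hc, hx, hodd⟩ := BlockBasic.isPPart_pPart (p := 2) g
  set x := BlockBasic.pPart (p := 2) g
  have hoy : Odd (orderOf y) := Nat.odd_iff.2 (Nat.two_dvd_ne_zero.1 hodd)
  have hyN : y ∈ N := by
    rw [← QuotientGroup.eq_one_iff, ← orderOf_eq_one_iff]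
    refine Nat.eq_one_of_dvd_coprimes ((Nat.coprime_two_right.2 hoy).pow_right a)
      (orderOf_map_dvd (QuotientGroup.mk' N) y) ?_
    rw [← hidx, Subgroup.index_eq_card]
    exact orderOf_dvd_natCard _
  have hla : l x ^ 2 ^ a = 1 := by
    rw [← map_pow, ← hidx]; exact hlN _ (Subgroup.pow_index_mem N x)
  have hkey : l g * μ g ^ 2 = 1 := by
    rw [← hy, map_mul, map_mul, hlN y hyN, hμN y hyN, mul_one, mul_one]
    have h1 := hδl x
    rw [hk₁ x hx, map_pow] at h1
    have h2 : l x ^ n = δ x ^ 2 :=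
      mul_right_cancel (b := δ x) (by rw [h1, pow_succ])
    show l x * (((δ ^ o) ^ j) x) ^ 2 = 1
    rw [MonoidHom.pow_apply, MonoidHom.pow_apply, ← pow_mul, ← pow_mul,
      show o * (j * 2) = 2 * (o * j) by ring, pow_mul, ← h2, ← pow_mul, ← pow_succ', ← mul_assoc]
    obtain ⟨c, hc'⟩ := hj
    rw [hc', pow_mul, hla, one_pow]
  have hμk : μ (g ^ k) = μ g ^ 3 := by
    rw [← hy, hc.mul_pow, map_mul, map_mul, hk₁ x hx, hk₂ y hoy, hμN y hyN, map_pow, mul_one,
      mul_one]
  show σ.character (g ^ k) * (μ (g ^ k) : ℂ) = σ.character g * (μ g : ℂ)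
  rw [show σ.character (g ^ k) = σ.character g * (l g : ℂ) from congrFun hl g, hμk, mul_assoc,
    ← Units.val_mul, pow_succ (μ g) 2, ← mul_assoc (l g), hkey, one_mul]

end Cfsg.Agent.H81
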