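import Mathlib.LinearAlgebra.Trace
import Mathlib.LinearAlgebra.Matrix.ToLin
import Mathlib.LinearAlgebra.Matrix.Vec
import Mathlib.Analysis.Complex.Basic
import Mathlib.RingTheory.RootsOfUnity.Complex
import Mathlib.GroupTheory.OrderOfElement
import Mathlib.Algebra.Field.GeomSum

/-!
# Projections onto fixed spaces of matrix representations
-/

set_option autoImplicit false
set_option linter.unusedSectionVars false

namespace Cfsg.Agent.H81

open Module Matrix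
open scoped Kronecker

section Fixed

variable {G : Type*} [Group G] {ι : Type*} [Fintype ι] [DecidableEq ι]

/-- The vectors fixed by all elements of `s`. -/
def fixVec (ψ : G →* Matrix ι ι ℂ) (s : Set G) : Submodule ℂ (ι → ℂ) where
  carrier := {v | ∀ g ∈ s, ψ g *ᵥ v = v}
  add_mem' {a b} ha hb g hg := by rw [mulVec_add, ha g hg, hb g hg]
  zero_mem' g _ := mulVec_zero _
  smul_mem' c a ha g hg := by rw [mulVec_smul, ha g hg]

theorem mem_fixVec {ψ : G →* Matrix ι ι ℂ} {s : Set G} {v : ι → ℂ} :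
    v ∈ fixVec ψ s ↔ ∀ g ∈ s, ψ g *ᵥ v = v := Iff.rfl

/-- The average of a matrix representation over a finite subgroup. -/
noncomputable def avgOn (ψ : G →* Matrix ι ι ℂ) (O : Subgroup G) [Fintype O] : Matrix ι ι ℂ :=
  (Fintype.card O : ℂ)⁻¹ • ∑ o : O, ψ (o : G)

theorem avgOn_mul_left (ψ : G →* Matrix ι ι ℂ) (O : Subgroup G) [Fintype O] {g : G}
    (hg : g ∈ O) : ψ g * avgOn ψ O = avgOn ψ O := by
  rw [avgOn, mul_smul_comm, Finset.mul_sum]
  congr 1
  exact Fintype.sum_equiv (Equiv.mulLeft ⟨g, hg⟩) _ _ fun o => by simp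

theorem avgOn_mul_right (ψ : G →* Matrix ι ι ℂ) (O : Subgroup G) [Fintype O] {g : G}
    (hg : g ∈ O) : avgOn ψ O * ψ g = avgOn ψ O := by
  rw [avgOn, smul_mul_assoc, Finset.sum_mul]
  congr 1
  exact Fintype.sum_equiv (Equiv.mulRight ⟨g, hg⟩) _ _ fun o => by simp

theorem avgOn_comm (ψ : G →* Matrix ι ι ℂ) (O : Subgroup G) [Fintype O] {g : G}
    (hg : ∀ o, o ∈ O ↔ g * o * g⁻¹ ∈ O) : ψ g * avgOn ψ O = avgOn ψ O * ψ g := by
  rw [avgOn, mul_smul_comm, smul_mul_assoc, Finset.mul_sum, Finset.sum_mul]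
  congr 1
  let e : O ≃ O := (MulAut.conj g).toEquiv.subtypeEquiv fun o => by simpa using hg o
  exact Fintype.sum_equiv e _ _ fun o => by simp [e, ← map_mul, mul_assoc]

theorem avgOn_mulVec (ψ : G →* Matrix ι ι ℂ) (O : Subgroup G) [Fintype O] {v : ι → ℂ}
    (hv : ∀ o ∈ O, ψ o *ᵥ v = v) : avgOn ψ O *ᵥ v = v := by
  rw [avgOn, smul_mulVec, Matrix.sum_mulVec]
  simp [fun o : O => hv o o.2, ← Nat.cast_smul_eq_nsmul ℂ, smul_smul]

/-- The average of `(λ⁻¹ • T) ^ i` for `i < e`. -/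
noncomputable def specProj (T : Matrix ι ι ℂ) (μ : ℂ) (e : ℕ) : Matrix ι ι ℂ :=
  (e : ℂ)⁻¹ • ∑ i ∈ Finset.range e, (μ⁻¹ • T) ^ i

theorem mul_specProj (T : Matrix ι ι ℂ) {μ : ℂ} (hμ : μ ≠ 0) (e : ℕ) (Q : Matrix ι ι ℂ)
    (hQ : (μ⁻¹ • T) ^ e * Q = Q) :
    T * (specProj T μ e * Q) = μ • (specProj T μ e * Q) := by
  set S := μ⁻¹ • T with hS
  have hT : T = μ • S := by rw [hS, smul_inv_smul₀ hμ]
  have key : S * ((∑ i ∈ Finset.range e, S ^ i) * Q) = (∑ i ∈ Finset.range e, S ^ i) * Q := by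
    have h : (S - 1) * (∑ i ∈ Finset.range e, S ^ i) * Q = 0 := by
      rw [mul_geom_sum, sub_mul, hQ, one_mul, sub_self]
    rwa [mul_assoc, sub_mul, one_mul, sub_eq_zero] at h
  rw [specProj, ← hS, smul_mul_assoc, mul_smul_comm, hT, smul_mul_assoc, key, smul_comm]

theorem specProj_mulVec_self (T : Matrix ι ι ℂ) {μ : ℂ} (hμ : μ ≠ 0) {e : ℕ} (he : 0 < e)
    {v : ι → ℂ} (hv : T *ᵥ v = μ • v) : specProj T μ e *ᵥ v = v := by
  have h1 : (μ⁻¹ • T) *ᵥ v = v := by rw [smul_mulVec, hv, inv_smul_smul₀ hμ]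
  have h : ∀ i, (μ⁻¹ • T) ^ i *ᵥ v = v := fun i => by
    induction i with
    | zero => simp
    | succ i ih => rw [pow_succ, ← mulVec_mulVec, h1, ih]
  rw [specProj, smul_mulVec, Matrix.sum_mulVec]
  simp [h, ← Nat.cast_smul_eq_nsmul ℂ, smul_smul, he.ne']

theorem specProj_mulVec_other (T : Matrix ι ι ℂ) {μ ν : ℂ} (hμ : μ ≠ 0) (hμν : μ ≠ ν) {e : ℕ}
    (he : μ ^ e = ν ^ e) {v : ι → ℂ} (hv : T *ᵥ v = ν • v) : specProj T μ e *ᵥ v = 0 := by
  have h1 : (μ⁻¹ • T) *ᵥ v = (μ⁻¹ * ν) • v := by rw [smul_mulVec, hv, smul_smul]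
  have h : ∀ i, (μ⁻¹ • T) ^ i *ᵥ v = (μ⁻¹ * ν) ^ i • v := fun i => by
    induction i with
    | zero => simp
    | succ i ih => rw [pow_succ, ← mulVec_mulVec, h1, mulVec_smul, ih, smul_smul, ← pow_succ']
  have hz : ∑ i ∈ Finset.range e, (μ⁻¹ * ν) ^ i = 0 := by
    rw [geom_sum_eq (fun h => hμν ((inv_mul_eq_one₀ hμ).1 h)), mul_pow, inv_pow, ← he,
      inv_mul_cancel₀ (pow_ne_zero _ hμ), sub_self, zero_div]
  rw [specProj, smul_mulVec, Matrix.sum_mulVec]
  simp [h, ← Finset.sum_smul, hz]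

theorem sum_specProj (T : Matrix ι ι ℂ) {ζ : ℂ} {e : ℕ} (he : 0 < e)
    (hζ : IsPrimitiveRoot ζ e) : ∑ j ∈ Finset.range e, specProj T (ζ ^ j) e = 1 := by
  simp only [specProj, ← Finset.smul_sum, smul_pow]
  rw [Finset.sum_comm]
  simp only [← Finset.sum_smul]
  have key : ∀ i ∈ Finset.range e,
      (∑ j ∈ Finset.range e, ((ζ ^ j)⁻¹) ^ i) = if i = 0 then (e : ℂ) else 0 := by
    intro i hi
    split_ifs with h
    · simp [h]
    · have hne : (ζ ^ i)⁻¹ ≠ 1 := by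
        simpa using hζ.pow_ne_one_of_pos_of_lt h (Finset.mem_range.1 hi)
      have : ∀ j, ((ζ ^ j)⁻¹) ^ i = ((ζ ^ i)⁻¹) ^ j := fun j => by
        rw [inv_pow, inv_pow, ← pow_mul, ← pow_mul, mul_comm]
      rw [Finset.sum_congr rfl fun j _ => this j, geom_sum_eq hne, inv_pow, ← pow_mul,
        mul_comm, pow_mul, hζ.pow_eq_one, one_pow, inv_one, sub_self, zero_div]
  rw [Finset.sum_congr rfl fun i hi => by rw [key i hi]]
  simp [ite_smul, he, he.ne', smul_smul]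

theorem trace_eq_finrank (M : Matrix ι ι ℂ) (S : Submodule ℂ (ι → ℂ))
    (h1 : ∀ v, M *ᵥ v ∈ S) (h2 : ∀ v ∈ S, M *ᵥ v = v) :
    M.trace = (finrank ℂ S : ℂ) := by
  rw [← Matrix.trace_toLin'_eq, LinearMap.IsProj.trace (p := S) ⟨h1, h2⟩]

/-- The projection onto the vectors fixed by an element of order dividing `p` and by a subgroup
centralizing it. -/
theorem finrank_fixVec_insert (ψ : G →* Matrix ι ι ℂ) {p : ℕ} (hp : 0 < p) (x : G)
    (hx : x ^ p = 1) (O : Subgroup G) [Fintype O] (hxO : ∀ o ∈ O, x * o = o * x) :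
    (finrank ℂ (fixVec ψ (insert x (O : Set G))) : ℂ) =
      (p : ℂ)⁻¹ * (Fintype.card O : ℂ)⁻¹ *
        ∑ a ∈ Finset.range p, ∑ o : O, (ψ (x ^ a * (o : G))).trace := by
  have hQ : ((1 : ℂ)⁻¹ • ψ x) ^ p * avgOn ψ O = avgOn ψ O := by
    rw [inv_one, one_smul, ← map_pow, hx, map_one, one_mul]
  have hcomm : ∀ o : O, Commute (ψ (o : G)) (specProj (ψ x) 1 p) := by
    intro o
    have h : Commute (ψ (o : G)) ((1 : ℂ)⁻¹ • ψ x) :=
      (Commute.map (show Commute (o : G) x from (hxO o o.2).symm) ψ).smul_right _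
    exact (Commute.sum_right _ _ _ fun i _ => h.pow_right i).smul_right _
  rw [← trace_eq_finrank (specProj (ψ x) 1 p * avgOn ψ O)]
  · simp only [specProj, avgOn, inv_one, one_smul, smul_mul_assoc, mul_smul_comm,
      Finset.sum_mul, Finset.mul_sum, Matrix.trace_smul, Matrix.trace_sum, smul_eq_mul,
      ← map_pow, ← map_mul]
    rw [Finset.sum_comm]
    exact Finset.sum_congr rfl fun a _ => Finset.sum_congr rfl fun o _ => by ring
  · intro v g hg
    rw [mulVec_mulVec]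
    rcases Set.mem_insert_iff.1 hg with rfl | hg
    · rw [mul_specProj _ one_ne_zero _ _ hQ, one_smul]
    · rw [← mul_assoc, (hcomm ⟨g, hg⟩).eq, mul_assoc, avgOn_mul_left ψ O hg]
  · intro v hv
    rw [← mulVec_mulVec, avgOn_mulVec ψ O fun o ho => hv o (Set.mem_insert_of_mem x ho),
      specProj_mulVec_self _ one_ne_zero hp (by rw [one_smul]; exact hv x (Set.mem_insert x _))]

theorem finrank_fixVec (ψ : G →* Matrix ι ι ℂ) (O : Subgroup G) [Fintype O] :
    (finrank ℂ (fixVec ψ (O : Set G)) : ℂ) =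
      (Fintype.card O : ℂ)⁻¹ * ∑ o : O, (ψ (o : G)).trace := by
  rw [← trace_eq_finrank (avgOn ψ O)]
  · simp [avgOn, Matrix.trace_smul, Matrix.trace_sum]
  · intro v g hg
    rw [mulVec_mulVec, avgOn_mul_left ψ O hg]
  · intro v hv
    exact avgOn_mulVec ψ O hv

end Fixed

section Adjoint

variable {G : Type*} [Group G] {ι : Type*} [Fintype ι] [DecidableEq ι] {R : Type*} [CommRing R]

/-- The conjugation representation on matrices, in coordinates. -/
def adMat (φ : G →* Matrix ι ι R) : G →* Matrix (ι × ι) (ι × ι) R where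
  toFun g := (φ g⁻¹)ᵀ ⊗ₖ φ g
  map_one' := by simp
  map_mul' g h := by rw [← mul_kronecker_mul, ← transpose_mul, ← map_mul, ← map_mul, _root_.mul_inv_rev]

theorem adMat_apply (φ : G →* Matrix ι ι R) (g : G) : adMat φ g = (φ g⁻¹)ᵀ ⊗ₖ φ g := rfl

theorem adMat_mulVec (φ : G →* Matrix ι ι R) (g : G) (X : Matrix ι ι R) :
    adMat φ g *ᵥ vec X = vec (φ g * X * φ g⁻¹) := by
  rw [adMat_apply, kronecker_mulVec_vec, transpose_transpose]

theorem trace_adMat (φ : G →* Matrix ι ι R) (g : G) :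
    (adMat φ g).trace = (φ g⁻¹).trace * (φ g).trace := by
  rw [adMat_apply, trace_kronecker, trace_transpose]

theorem adMat_map {S : Type*} [CommRing S] (φ : G →* Matrix ι ι R) (f : R →+* S) (g : G) :
    (adMat φ g).map f = adMat (f.mapMatrix.toMonoidHom.comp φ) g := by
  ext ⟨a, b⟩ ⟨c, d⟩
  simp [adMat_apply]

/-- Conjugation by a unipotent matrix is unipotent. -/
theorem sub_one_pow_adMat (φ : G →* Matrix ι ι R) (g : G) (N m : ℕ)
    (h1 : (φ g - 1) ^ N = 0) (h2 : (φ g⁻¹ - 1) ^ N = 0) (hm : N + N ≤ m + 1) :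
    (adMat φ g - 1) ^ m = 0 := by
  have hpow : ∀ (U V : Matrix ι ι R) (i : ℕ), (U ⊗ₖ V) ^ i = (U ^ i) ⊗ₖ (V ^ i) := by
    intro U V i
    induction i with
    | zero => simp
    | succ i ih => rw [pow_succ, ih, ← mul_kronecker_mul, ← pow_succ, ← pow_succ]
  set T := φ g with hT
  set U := (φ g⁻¹)ᵀ with hU
  have hU' : (U - 1) ^ N = 0 := by
    rw [hU, ← transpose_one (α := R) (n := ι), ← transpose_sub, ← transpose_pow, h2,
      transpose_zero]
  have hsplit : adMat φ g - 1 = (U - 1) ⊗ₖ T + (1 : Matrix ι ι R) ⊗ₖ (T - 1) := by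
    ext ⟨a, b⟩ ⟨c, d⟩
    simp only [adMat_apply, ← hT, ← hU, Matrix.sub_apply, Matrix.add_apply, kroneckerMap_apply,
      one_apply, Prod.mk.injEq]
    split_ifs <;> simp_all <;> ring
  rw [hsplit]
  refine Commute.add_pow_eq_zero_of_add_le_succ_of_pow_eq_zero ?_ (m := N) (n := N) ?_ ?_ hm
  · rw [Commute, SemiconjBy, ← mul_kronecker_mul, ← mul_kronecker_mul]
    simp [mul_sub, sub_mul]
  · rw [hpow, hU', zero_kronecker]
  · rw [hpow, h1, kronecker_zero]

end Adjoint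

end Cfsg.Agent.H81
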