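import Mathlib.Data.Nat.Factorization.Basic
import Mathlib.Tactic.Linarith
import Mathlib.Tactic.LinearCombination
import Mathlib.Tactic.Ring
import Mathlib.Tactic.IntervalCases
import Mathlib.Tactic.NormNum.Prime

/-!
# The degree equation of a principal Klein four block with two odd primes
-/

namespace Cfsg.Agent.H81.KleinArith

/-- All prime divisors are three or `r`. -/
def Sm (r n : ℕ) : Prop := ∀ q : ℕ, q.Prime → q ∣ n → q = 3 ∨ q = r

variable {r : ℕ}

theorem Sm.pow_of_not_three {n : ℕ} (h : Sm r n) (h0 : n ≠ 0) (h3 : ¬ 3 ∣ n) :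
    n = r ^ n.primeFactorsList.length :=
  Nat.eq_prime_pow_of_unique_prime_dvd h0 fun {q} hq hd =>
    (h q hq hd).resolve_left fun e => h3 (e ▸ hd)

theorem Sm.eq_one {n : ℕ} (h : Sm r n) (h3 : ¬ 3 ∣ n) (hr : ¬ r ∣ n) : n = 1 := by
  by_contra hne
  obtain ⟨q, hq, hd⟩ := Nat.exists_prime_and_dvd hne
  rcases h q hq hd with rfl | rfl
  · exact h3 hd
  · exact hr hd

theorem Sm.eq_of_prime {n q : ℕ} (h : Sm r n) (hq : q.Prime) (hd : q ∣ n) (h3 : q ≠ 3) : r = q :=
  ((h q hq hd).resolve_left h3).symm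

theorem not_dvd_small (hr : r.Prime) {k : ℕ} (hr2 : r ≠ 2) (hr3 : r ≠ 3)
    (hk : k = 2 ∨ k = 3 ∨ k = 4 ∨ k = 6) : ¬ r ∣ k := by
  intro h
  have hle := Nat.le_of_dvd (by omega) h
  have := hr.two_le
  rcases hk with rfl | rfl | rfl | rfl <;> interval_cases r <;> norm_num at *

theorem one_minus {x y z h k l : ℕ} (hrel : z = 1 + x + y)
    (hz : z ≤ 15) (hx1 : 2 ≤ x) (hy1 : 2 ≤ y)
    (hh : 2 * h = x + 1) (hk : 2 * k = y + 1)
    (hl : 2 * l + 1 = z) (hho : h % 2 = 1) (hko : k % 2 = 1) (hlo : l % 2 = 1) (sx : Sm r x)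
    (sy : Sm r y) (sz : Sm r z) (sl : Sm r l) : False := by
  have hcases : (x = 5 ∧ z = 11) ∨ ((x = 5 ∨ y = 5) ∧ l = 7) := by omega
  rcases hcases with ⟨rfl, rfl⟩ | ⟨h5, rfl⟩
  · have h5 := sx.eq_of_prime (q := 5) Nat.prime_five dvd_rfl (by norm_num)
    have h11 := sz.eq_of_prime (q := 11) (by norm_num) dvd_rfl (by norm_num)
    omega
  · have h7 := sl.eq_of_prime (q := 7) (by norm_num) dvd_rfl (by norm_num)
    rcases h5 with rfl | rfl
    · have := sx.eq_of_prime (q := 5) Nat.prime_five dvd_rfl (by norm_num)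
      omega
    · have := sy.eq_of_prime (q := 5) Nat.prime_five dvd_rfl (by norm_num)
      omega

theorem two_minus (hr : r.Prime) (hr2 : r ≠ 2) (hr3 : r ≠ 3) {x y z h k l : ℕ}
    (hrel : x + y = z + 1) (hx15 : x ≤ 15) (hx1 : 2 ≤ x) (hy1 : 2 ≤ y) (hh : 2 * h + 1 = x)
    (hk : 2 * k + 1 = y) (hl : 2 * l = z + 1) (hho : h % 2 = 1) (hko : k % 2 = 1)
    (sx : Sm r x) (sy : Sm r y) (sz : Sm r z) (sh : Sm r h) (sk : Sm r k)
    (sl : Sm r l) : x = 3 ∧ y = 3 ∧ z = 5 ∧ r = 5 := by
  obtain hx | hx | hx | hx : x = 3 ∨ x = 7 ∨ x = 11 ∨ x = 15 := by omega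
  · subst hx
    by_cases h3 : 3 ∣ y
    · by_cases hk1 : k = 1
      · have h5 : z = 5 := by omega
        exact ⟨rfl, by omega, h5,
          (h5 ▸ sz).eq_of_prime (q := 5) Nat.prime_five dvd_rfl (by norm_num)⟩
      · exfalso
        have e1 := sk.pow_of_not_three (by omega) (by omega)
        have e2 := sz.pow_of_not_three (by omega) (by omega)
        have hrk : r ∣ k := by
          rw [e1]
          refine dvd_pow_self r fun e => hk1 ?_
          rw [e1, e, pow_zero]
        have hrz : r ∣ z := by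
          rw [e2]
          refine dvd_pow_self r fun e => ?_
          rw [e, pow_zero] at e2
          omega
        exact not_dvd_small hr hr2 hr3 (k := 3) (by omega)
          ((Nat.dvd_add_right (dvd_mul_of_dvd_right hrk 2)).1 (show r ∣ 2 * k + 3 by
            rwa [show 2 * k + 3 = z by omega]))
    · exfalso
      have e1 := sy.pow_of_not_three (by omega) h3
      have hry : r ∣ y := by
        rw [e1]
        refine dvd_pow_self r fun e => ?_
        rw [e, pow_zero] at e1
        omega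
      have := sl.eq_one (by omega) fun hd => not_dvd_small hr hr2 hr3 (k := 3) (by omega)
        ((Nat.dvd_add_right hry).1 (show r ∣ y + 3 by
          rw [show y + 3 = 2 * l by omega]; exact dvd_mul_of_dvd_right hd 2))
      omega
  · subst hx
    exfalso
    have h7 := sx.eq_of_prime (q := 7) (by norm_num) dvd_rfl (by norm_num)
    subst h7
    by_cases h3 : 3 ∣ y
    · have e1 := sk.pow_of_not_three (by omega) (by omega)
      have e2 := sl.pow_of_not_three (by omega) (by omega)
      rcases Nat.eq_zero_or_pos k.primeFactorsList.length with hj | hj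
      · rw [hj, pow_zero] at e1
        have h5 : l = 5 := by omega
        have := (h5 ▸ sl).eq_of_prime (q := 5) Nat.prime_five dvd_rfl (by norm_num)
        omega
      · have hd1 : 7 ∣ k := e1 ▸ dvd_pow_self 7 hj.ne'
        have hd2 : 7 ∣ l := by
          rw [e2]
          refine dvd_pow_self 7 fun e => ?_
          rw [e, pow_zero] at e2
          omega
        omega
    · have e1 := sy.pow_of_not_three (by omega) h3
      have hry : 7 ∣ y := by
        rw [e1]
        refine dvd_pow_self 7 fun e => ?_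
        rw [e, pow_zero] at e1
        omega
      have := sz.eq_one (by omega) (by omega)
      omega
  · subst hx
    have h5 : h = 5 := by omega
    subst h5
    have a := sh.eq_of_prime (q := 5) Nat.prime_five dvd_rfl (by norm_num)
    have b := sx.eq_of_prime (q := 11) (by norm_num) dvd_rfl (by norm_num)
    omega
  · subst hx
    have h7 : h = 7 := by omega
    subst h7
    have a := sh.eq_of_prime (q := 7) (by norm_num) dvd_rfl (by norm_num)
    have b := sx.eq_of_prime (q := 5) Nat.prime_five (by norm_num) (by norm_num)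
    omega

/-- The data of one character: degree, sign, half of their sum. -/
def Datum (r x : ℕ) (e : ℤ) (h : ℕ) : Prop :=
  2 ≤ x ∧ (e = 1 ∨ e = -1) ∧ (2 * (h : ℤ) = (x : ℤ) + e) ∧ h % 2 = 1 ∧ Sm r x ∧ Sm r h

/-- The only solution has degrees `3, 3, 5`. -/
theorem degrees (hr : r.Prime) (hr2 : r ≠ 2) (hr3 : r ≠ 3) {x y z h k l : ℕ} {e f g : ℤ}
    (dx : Datum r x e h) (dy : Datum r y f k) (dz : Datum r z g l)
    (hrel : 1 + e * x + f * y + g * z = 0)
    (hneg : (e = -1 ∧ x ≤ 15) ∨ (f = -1 ∧ y ≤ 15) ∨ (g = -1 ∧ z ≤ 15)) :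
    r = 5 ∧ h * k * l = 3 ∧ x * y * z = 45 ∧ (x = 3 ∨ y = 3 ∨ z = 3) := by
  obtain ⟨x2, he, hh, ho, sx, sh⟩ := dx
  obtain ⟨y2, hf, hk, ko, sy, sk⟩ := dy
  obtain ⟨z2, hg, hl, lo, sz, sl⟩ := dz
  have fin : ∀ {a b c i j m : ℕ}, a = 3 → b = 3 → c = 5 → 2 * i + 1 = a → 2 * j + 1 = b →
      2 * m = c + 1 → i * j * m = 3 ∧ a * b * c = 45 := by
    intro a b c i j m ha hb hc hi hj hm
    obtain rfl : i = 1 := by omega
    obtain rfl : j = 1 := by omega
    obtain rfl : m = 3 := by omega
    subst ha hb hc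
    norm_num
  rcases he with rfl | rfl <;> rcases hf with rfl | rfl <;> rcases hg with rfl | rfl
  · omega
  · exact (one_minus (x := x) (y := y) (z := z) (h := h) (k := k) (l := l) (by omega) (by omega)
      x2 y2 (by omega) (by omega) (by omega) ho ko lo sx sy sz sl).elim
  · exact (one_minus (x := x) (y := z) (z := y) (h := h) (k := l) (l := k) (by omega) (by omega)
      x2 z2 (by omega) (by omega) (by omega) ho lo ko sx sz sy sk).elim
  · obtain hb | hb : y ≤ 15 ∨ z ≤ 15 := by omega
    · obtain ⟨a, b, c, d⟩ := two_minus hr hr2 hr3 (x := y) (y := z) (z := x) (h := k) (k := l)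
        (l := h) (by omega) hb y2 z2 (by omega) (by omega) (by omega) ko lo sy sz sx sk sl sh
      obtain ⟨u, v⟩ := fin a b c (i := k) (j := l) (m := h) (by omega) (by omega) (by omega)
      exact ⟨d, by rw [← u]; ring, by rw [← v]; ring, by omega⟩
    · obtain ⟨a, b, c, d⟩ := two_minus hr hr2 hr3 (x := z) (y := y) (z := x) (h := l) (k := k)
        (l := h) (by omega) hb z2 y2 (by omega) (by omega) (by omega) lo ko sz sy sx sl sk sh
      obtain ⟨u, v⟩ := fin a b c (i := l) (j := k) (m := h) (by omega) (by omega) (by omega)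
      exact ⟨d, by rw [← u]; ring, by rw [← v]; ring, by omega⟩
  · exact (one_minus (x := y) (y := z) (z := x) (h := k) (k := l) (l := h) (by omega) (by omega)
      y2 z2 (by omega) (by omega) (by omega) ko lo ho sy sz sx sh).elim
  · obtain hb | hb : x ≤ 15 ∨ z ≤ 15 := by omega
    · obtain ⟨a, b, c, d⟩ := two_minus hr hr2 hr3 (x := x) (y := z) (z := y) (h := h) (k := l)
        (l := k) (by omega) hb x2 z2 (by omega) (by omega) (by omega) ho lo sx sz sy sh sl sk
      obtain ⟨u, v⟩ := fin a b c (i := h) (j := l) (m := k) (by omega) (by omega) (by omega)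
      exact ⟨d, by rw [← u]; ring, by rw [← v]; ring, by omega⟩
    · obtain ⟨a, b, c, d⟩ := two_minus hr hr2 hr3 (x := z) (y := x) (z := y) (h := l) (k := h)
        (l := k) (by omega) hb z2 x2 (by omega) (by omega) (by omega) lo ho sz sx sy sl sh sk
      obtain ⟨u, v⟩ := fin a b c (i := l) (j := h) (m := k) (by omega) (by omega) (by omega)
      exact ⟨d, by rw [← u]; ring, by rw [← v]; ring, by omega⟩
  · obtain hb | hb : x ≤ 15 ∨ y ≤ 15 := by omega
    · obtain ⟨a, b, c, d⟩ := two_minus hr hr2 hr3 (x := x) (y := y) (z := z) (h := h) (k := k)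
        (l := l) (by omega) hb x2 y2 (by omega) (by omega) (by omega) ho ko sx sy sz sh sk sl
      obtain ⟨u, v⟩ := fin a b c (i := h) (j := k) (m := l) (by omega) (by omega) (by omega)
      exact ⟨d, u, v, by omega⟩
    · obtain ⟨a, b, c, d⟩ := two_minus hr hr2 hr3 (x := y) (y := x) (z := z) (h := k) (k := h)
        (l := l) (by omega) hb y2 x2 (by omega) (by omega) (by omega) ko ho sy sx sz sk sh sl
      obtain ⟨u, v⟩ := fin a b c (i := k) (j := h) (m := l) (by omega) (by omega) (by omega)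
      exact ⟨d, by rw [← u]; ring, by rw [← v]; ring, by omega⟩
  · omega

end Cfsg.Agent.H81.KleinArith
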