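import Cfsg.Agent.H81.SimpleDegree
import Cfsg.Agent.H81.KleinArith
import Cfsg.Agent.H84.Kernel
import Cfsg.Agent.H24.KleinFourOrder
import Cfsg.Agent.Cores.KleinBlock
import Cfsg.Agent.H25.KleinDefect
import Cfsg.Agent.S0947
import Cfsg.Agent.S4588
import Cfsg.Agent.S4710

/-!
# Simple groups with Sylow four group and a character of degree four
-/

open scoped ComplexConjugate

namespace Cfsg.Agent.H81.FourFactor

open CharBasic BlockBasic SimpleDegree

universe u

variable {G : Type u} [Group G] [Finite G]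

/-- The principal block of a group with Sylow four group and one class of involutions. -/
theorem exists_block_data {M : Ideal Cfsg.AlgInt} (hM : Cfsg.IsPModular 2 M) (P : Sylow 2 G)
    (hP : IsKleinFour (P : Subgroup G))
    (hone : ∀ s t : G, orderOf s = 2 → orderOf t = 2 → IsConj s t) {J : G} (hJ : orderOf J = 2)
    (hJP : J ∈ (P : Subgroup G)) :
    ∃ (χ₁ χ₂ χ₃ : Cfsg.IrrCharacter G) (ε₁ ε₂ ε₃ : ℤ),
      Cfsg.principalBlock M G =
          {χ : Cfsg.IrrCharacter G | (χ : G → ℂ) = (fun _ => 1) ∨ χ = χ₁ ∨ χ = χ₂ ∨ χ = χ₃} ∧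
      ((χ₁ : G → ℂ) ≠ (fun _ => 1) ∧ (χ₂ : G → ℂ) ≠ (fun _ => 1) ∧ (χ₃ : G → ℂ) ≠ (fun _ => 1) ∧
        χ₁ ≠ χ₂ ∧ χ₁ ≠ χ₃ ∧ χ₂ ≠ χ₃) ∧
      ((ε₁ = 1 ∨ ε₁ = -1) ∧ (ε₂ = 1 ∨ ε₂ = -1) ∧ (ε₃ = 1 ∨ ε₃ = -1)) ∧
      ((χ₁ : G → ℂ) J = ε₁ ∧ (χ₂ : G → ℂ) J = ε₂ ∧ (χ₃ : G → ℂ) J = ε₃) := by
  classical
  haveI : Fact (Nat.Prime 2) := ⟨Nat.prime_two⟩
  cases nonempty_fintype G
  have hfac := Cores.card_klein hP
  set B := Cfsg.principalBlock M G with hBdef
  have hB := isPBlock_principalBlock (G := G) M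
  have hd : Cfsg.blockDefect 2 B = 2 := by rw [S4588.defect_principal hM, hfac]
  have hcard := H25.KleinDefect.card_eq_four hM hB hd
  set Bf := Finset.univ.filter (fun χ : Cfsg.IrrCharacter G => χ ∈ B) with hBf
  have hBc : Bf.card = 4 := by
    rw [← hcard, Nat.card_eq_fintype_card, Fintype.card_subtype]
  choose a ha using fun χ : Cfsg.IrrCharacter G => Cores.exists_int_value hJ χ
  -- odd values
  have hodd : ∀ χ ∈ Bf, a χ % 2 = 1 := by
    intro χ hχ
    have hh := ((S4710.result 2 M hM B hB _ rfl).2 χ (Finset.mem_filter.1 hχ).2).2 (by omega)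
    have hmin : sInf ((fun ψ : Cfsg.IrrCharacter G =>
        (Cfsg.charDegree (ψ : G → ℂ)).factorization 2) '' B) = 0 := by
      refine Nat.eq_zero_of_le_zero (Nat.sInf_le ⟨trivialIrr, sameBlock_refl hM _, ?_⟩)
      simp [Cfsg.charDegree, trivialIrr]
    rw [Cfsg.blockHeight, hmin] at hh
    have hnd : ¬ 2 ∣ Cfsg.charDegree (χ : G → ℂ) := fun h => by
      have := (Nat.prime_two.dvd_iff_one_le_factorization (charDegree_pos χ).ne').1 h
      omega
    have h4 := Cores.four_dvd_degree P hP hone hJ χ (ha χ)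
    omega
  -- the sum of squares
  obtain ⟨Q, N, hN, hcompl⟩ := Cores.hasNormalPComplement_centralizer_involution P hP hJ hJP
  have hidx : ∃ k : ℕ, (Cfsg.pPrimeCore 2 (Subgroup.centralizer ({J} : Set G))).index = 2 ^ k := by
    have hQi : N.index = 2 ^ (Nat.card (Subgroup.centralizer ({J} : Set G))).factorization 2 := by
      rw [← Q.card_eq_multiplicity]
      exact hcompl.symm.index_eq_card
    have hNc : (Nat.card N).Coprime 2 := by
      refine (Nat.prime_two.coprime_iff_not_dvd.2 fun h => ?_).symm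
      have hm := hcompl.card_mul_card
      rw [Q.card_eq_multiplicity] at hm
      have h2 : 2 ^ ((Nat.card (Subgroup.centralizer ({J} : Set G))).factorization 2 + 1) ∣
          Nat.card (Subgroup.centralizer ({J} : Set G)) := by
        rw [pow_succ, mul_comm]
        conv_rhs => rw [← hm]
        exact mul_dvd_mul_right h _
      exact Nat.pow_succ_factorization_not_dvd Nat.card_pos.ne' Nat.prime_two h2
    have hle := Subgroup.index_dvd_of_le (Cores.le_pPrimeCore (N := N) hNc)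
    rw [hQi] at hle
    obtain ⟨k, -, hk⟩ := (Nat.dvd_prime_pow Nat.prime_two).1 hle
    exact ⟨k, hk⟩
  have hJ1 : J ≠ 1 := by rintro rfl; simp at hJ
  have hsum := (S0947.result 2 M hM J ⟨1, by rw [hJ, pow_one]⟩ hJ1 1
    (by rw [orderOf_one]; norm_num)).2 hidx
  have hC2 : (Nat.card (Subgroup.centralizer ({J} : Set G))).factorization 2 = 2 := by
    refine le_antisymm ?_ ?_
    · exact ((Nat.factorization_le_iff_dvd Nat.card_pos.ne' Nat.card_pos.ne').2
        (Subgroup.card_subgroup_dvd_card (Subgroup.centralizer ({J} : Set G))) 2).trans hfac.le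
    · have hle : (P : Subgroup G) ≤ Subgroup.centralizer ({J} : Set G) := fun b hb =>
        Subgroup.mem_centralizer_singleton_iff.2
          (congrArg Subtype.val (hP.isMulCommutative.is_comm.comm (⟨b, hb⟩ : (P : Subgroup G)) ⟨J, hJP⟩))
      have h := Subgroup.card_dvd_of_le hle
      rw [hP.card_four, show 4 = 2 ^ 2 from rfl] at h
      exact (Nat.prime_two.pow_dvd_iff_le_factorization Nat.card_pos.ne').1 h
  rw [hC2, finsum_mem_def, finsum_eq_sum_of_fintype] at hsum
  have hsq : ∑ χ ∈ Bf, a χ * a χ = 4 := by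
    have h2 : ((∑ χ ∈ Bf, a χ * a χ : ℤ) : ℝ) = ((4 : ℤ) : ℝ) := by
      norm_num at hsum ⊢
      rw [← hsum, hBf, Finset.sum_filter]
      refine Finset.sum_congr rfl fun χ _ => ?_
      rw [Set.indicator_apply]
      split_ifs with h
      · rw [ha χ, Complex.norm_intCast, sq_abs, sq]
      · rfl
    exact_mod_cast h2
  have hge : ∀ χ ∈ Bf, 1 ≤ a χ * a χ := fun χ hχ => by
    have h := hodd χ hχ
    nlinarith [sq_nonneg (a χ - 1), sq_nonneg (a χ + 1), mul_self_pos.2 (show a χ ≠ 0 by omega)]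
  have hpm : ∀ χ ∈ Bf, a χ = 1 ∨ a χ = -1 := by
    intro χ hχ
    have h1 : a χ * a χ + (3 : ℤ) ≤ 4 := by
      rw [← hsq, ← Finset.add_sum_erase _ _ hχ]
      refine add_le_add_right ?_ _
      have h3 : ((Bf.erase χ).card : ℤ) = 3 := by
        rw [Finset.card_erase_of_mem hχ, hBc]; rfl
      rw [← h3, Finset.card_eq_sum_ones, Nat.cast_sum]
      exact Finset.sum_le_sum fun ψ hψ => by
        simpa using hge ψ (Finset.mem_of_mem_erase hψ)
    have h2 : -1 ≤ a χ := by nlinarith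
    have h3 : a χ ≤ 1 := by nlinarith
    have := hodd χ hχ
    omega
  have htriv : (trivialIrr : Cfsg.IrrCharacter G) ∈ Bf :=
    Finset.mem_filter.2 ⟨Finset.mem_univ _, sameBlock_refl hM _⟩
  obtain ⟨χ₁, χ₂, χ₃, h12, h13, h23, hset⟩ := Finset.card_eq_three.1
    (show (Bf.erase trivialIrr).card = 3 by rw [Finset.card_erase_of_mem htriv, hBc])
  have hmem : ∀ χ, χ ∈ ({χ₁, χ₂, χ₃} : Finset (Cfsg.IrrCharacter G)) →
      (χ : G → ℂ) ≠ (fun _ => 1) ∧ χ ∈ Bf := fun χ hχ => by
    rw [← hset] at hχ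
    obtain ⟨h1, h2⟩ := Finset.mem_erase.1 hχ
    exact ⟨fun e => h1 (Subtype.ext e), h2⟩
  refine ⟨χ₁, χ₂, χ₃, a χ₁, a χ₂, a χ₃, ?_, ⟨(hmem χ₁ (by simp)).1, (hmem χ₂ (by simp)).1,
    (hmem χ₃ (by simp)).1, h12, h13, h23⟩, ⟨hpm _ (hmem χ₁ (by simp)).2,
    hpm _ (hmem χ₂ (by simp)).2, hpm _ (hmem χ₃ (by simp)).2⟩, ha χ₁, ha χ₂, ha χ₃⟩
  ext χ
  constructor
  · intro hχ
    by_cases h1 : χ = trivialIrr
    · exact Or.inl (congrArg Subtype.val h1)
    · have : χ ∈ Bf.erase trivialIrr :=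
        Finset.mem_erase.2 ⟨h1, Finset.mem_filter.2 ⟨Finset.mem_univ _, hχ⟩⟩
      rw [hset] at this
      simpa using Or.inr (by simpa using this)
  · rintro (h | h | h | h)
    · rw [show χ = trivialIrr from Subtype.ext h]
      exact sameBlock_refl hM _
    all_goals subst h; exact (Finset.mem_filter.1 (hmem _ (by simp)).2).2

variable [IsSimpleGroup G]

/-- The four group is its own centralizer. -/
theorem centralizer_sylow (hna : ∃ x y : G, x * y ≠ y * x) {χ : Cfsg.IrrCharacter G}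
    (hne : (χ : G → ℂ) ≠ fun _ => 1) (h4 : Cfsg.charDegree (χ : G → ℂ) = 4)
    (h8 : ¬ 8 ∣ Nat.card G) (P : Sylow 2 G) (hP : IsKleinFour (P : Subgroup G)) :
    Subgroup.centralizer ((P : Subgroup G) : Set G) = (P : Subgroup G) := by
  classical
  cases nonempty_fintype G
  haveI : Fact (Nat.Prime 2) := ⟨Nat.prime_two⟩
  have hle : (P : Subgroup G) ≤ Subgroup.centralizer ((P : Subgroup G) : Set G) := fun b hb =>
    Subgroup.mem_centralizer_iff.2 fun c hc => congrArg Subtype.val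
      (hP.isMulCommutative.is_comm.comm (⟨c, hc⟩ : (P : Subgroup G)) ⟨b, hb⟩)
  have h4G : 4 ∣ Nat.card G := hP.card_four ▸ Subgroup.card_subgroup_dvd_card _
  have hzero : ∀ g : G, 2 ∣ orderOf g → (χ : G → ℂ) g = 0 := fun g hg => by
    refine H84.apply_eq_zero_of_defect_zero (p := 2) χ (fun h => h8 ?_) hg
    rw [h4] at h
    exact (Nat.dvd_div_iff_mul_dvd h4G).1 h
  refine (Subgroup.eq_of_le_of_card_ge hle ?_).symm
  rw [hP.card_four]
  by_contra hlt
  -- an element of odd prime order centralising the four group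
  obtain ⟨q, hq, hq2, hqd⟩ : ∃ q : ℕ, q.Prime ∧ q ≠ 2 ∧
      q ∣ Nat.card (Subgroup.centralizer ((P : Subgroup G) : Set G)) := by
    by_contra hcon
    have hC0 : Nat.card (Subgroup.centralizer ((P : Subgroup G) : Set G)) ≠ 0 := Nat.card_pos.ne'
    have hpow := Nat.eq_prime_pow_of_unique_prime_dvd hC0 (p := 2) fun {q} hq hd => by
      by_contra h2
      exact hcon ⟨q, hq, h2, hd⟩
    have hdvd := Subgroup.card_subgroup_dvd_card (Subgroup.centralizer ((P : Subgroup G) : Set G))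
    rw [hpow] at hdvd hlt
    exact h8 ((pow_dvd_pow 2 (show 3 ≤ _ by
      by_contra h3
      exact hlt (Nat.pow_le_pow_right (by norm_num) (show _ ≤ 2 by omega)))).trans hdvd)
  haveI := Fact.mk hq
  obtain ⟨y, hy⟩ := exists_prime_orderOf_dvd_card' q hqd
  have hyo : orderOf (y : G) = q := by rw [Subgroup.orderOf_coe, hy]
  have hcomm : ∀ (a : (P : Subgroup G)) (b : Subgroup.zpowers (y : G)),
      Commute ((P : Subgroup G).subtype a) ((Subgroup.zpowers (y : G)).subtype b) := by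
    rintro ⟨a, ha⟩ ⟨b, j, rfl⟩
    exact Commute.zpow_right (Subgroup.mem_centralizer_iff.1 y.2 a ha) j
  let f := MonoidHom.noncommCoprod (P : Subgroup G).subtype (Subgroup.zpowers (y : G)).subtype hcomm
  have hab : ∀ a b : ↥(P : Subgroup G) × Subgroup.zpowers (y : G), a * b = b * a := by
    rintro ⟨a, ⟨a', i', rfl⟩⟩ ⟨b, ⟨b', j', rfl⟩⟩
    exact Prod.ext (hP.isMulCommutative.is_comm.comm a b)
      (Subtype.ext (by simp [← zpow_add, add_comm]))
  have hf1 : (χ : G → ℂ) (f 1) = ((4 : ℕ) : ℂ) := by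
    rw [map_one, apply_one_eq_charDegree, h4]
  have hYcard : Nat.card ((⊥ : Subgroup (P : Subgroup G)).prod
      (⊤ : Subgroup (Subgroup.zpowers (y : G)))) = q := by
    rw [Nat.card_congr (Subgroup.prodEquiv _ _).toEquiv, Nat.card_prod, Subgroup.card_bot, one_mul,
      Subgroup.card_top, Nat.card_zpowers, hyo]
  have h5 := norm_eq_of_vanish hab (CharInduce.IsChar.comp (IsIrr.isCharacter χ.2) f) 4 hf1
    ((⊥ : Subgroup (P : Subgroup G)).prod ⊤)
    (by rw [hYcard, Nat.card_prod, hP.card_four, Nat.card_zpowers, hyo])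
    (fun a ha => by
      refine hzero _ ?_
      have ha1 : a.1 ≠ 1 := fun e => ha (Subgroup.mem_prod.2 ⟨by rw [e]; exact one_mem _, trivial⟩)
      haveI := hP
      have o1 : orderOf (a.1 : G) = 2 := by
        rw [Subgroup.orderOf_coe]
        exact orderOf_eq_prime (by rw [pow_two, IsKleinFour.mul_self]) ha1
      have o2 : orderOf (a.2 : G) ∣ q := by
        have := orderOf_dvd_natCard a.2
        rwa [Nat.card_zpowers, hyo, ← Subgroup.orderOf_coe] at this
      show 2 ∣ orderOf ((a.1 : G) * (a.2 : G))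
      rw [(show Commute (a.1 : G) (a.2 : G) from hcomm a.1 a.2).orderOf_mul_eq_mul_orderOf_of_coprime
        (Nat.Coprime.coprime_dvd_right o2 (by
          rw [o1]
          exact (Nat.coprime_primes Nat.prime_two hq).2 (Ne.symm hq2))), o1]
      exact dvd_mul_right _ _)
    (1, ⟨(y : G), Subgroup.mem_zpowers _⟩) (Subgroup.mem_prod.2 ⟨one_mem _, trivial⟩)
  have h6 : (y : G) = 1 := by
    refine eq_one_of_norm hna hne ?_
    rw [apply_one_eq_charDegree, h4, Complex.norm_natCast, ← h5]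
    simp [f]
  rw [h6, orderOf_one] at hyo
  exact hq.ne_one hyo.symm

/-- In a faithful degree three representation a real element of odd order has abelian centralizer. -/
theorem commute_of_real (hna : ∃ x y : G, x * y ≠ y * x) {θ : Cfsg.IrrCharacter G}
    (hne : (θ : G → ℂ) ≠ fun _ => 1) (h3 : Cfsg.charDegree (θ : G → ℂ) = 3) {y : G}
    (hy1 : y ≠ 1) (hodd : ¬ 2 ∣ orderOf y) (hinv : IsConj y y⁻¹) {a b : G} (ha : Commute y a)
    (hb : Commute y b) : Commute a b := by
  classical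
  cases nonempty_fintype G
  have hf := faithful hne
  obtain ⟨n, ρ, hρ, hθ⟩ := θ.2
  have hn : Module.finrank ℂ (Fin n → ℂ) = 3 := by
    rw [← h3, Cfsg.charDegree, ← hθ, Representation.char_one, Complex.natCast_re, Nat.floor_natCast]
  obtain ⟨v, μ, h1, h2, hsum⟩ := exists_eigenbasis_rep ρ y
  set w := v.reindex (finCongr hn) with hw
  set ν : Fin 3 → ℂ := fun i => μ ((finCongr hn).symm i) with hν
  have hwν : ∀ i, ρ y (w i) = ν i • w i := fun i => by rw [hw, Module.Basis.reindex_apply]; exact h1 _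
  have hνpow : ∀ i, ν i ^ orderOf y = 1 := fun i => h2 _
  have hν0 : ∀ i, ν i ≠ 0 := fun i e => by
    have := hνpow i
    rw [e, zero_pow (orderOf_pos y).ne'] at this
    exact zero_ne_one this
  have hdet : ν 0 * ν 1 * ν 2 = 1 := by
    rw [← Fin.prod_univ_three, ← det_eq_one hna ρ y, ← LinearMap.det_toMatrix w,
      show LinearMap.toMatrix w w (ρ y) = Matrix.diagonal ν by
        ext i j
        rw [LinearMap.toMatrix_apply, hwν j, map_smul, Finsupp.smul_apply, w.repr_self,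
          Finsupp.single_apply, Matrix.diagonal_apply]
        rcases eq_or_ne i j with rfl | hij
        · simp
        · simp [hij, Ne.symm hij],
      Matrix.det_diagonal]
  have hθy : (θ : G → ℂ) y = ν 0 + ν 1 + ν 2 := by
    rw [← hθ, ← Fin.sum_univ_three]
    exact trace_eq_sum_of_eigenbasis w ν _ hwν
  have hθyi : (θ : G → ℂ) y⁻¹ = (ν 0)⁻¹ + (ν 1)⁻¹ + (ν 2)⁻¹ := by
    rw [← hθ, ← Fin.sum_univ_three (fun i => (ν i)⁻¹)]
    refine trace_eq_sum_of_eigenbasis w (fun i => (ν i)⁻¹) _ fun i => ?_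
    have h := congrArg (ρ y⁻¹) (hwν i)
    rw [← Module.End.mul_apply, ← map_mul, inv_mul_cancel, map_one, Module.End.one_apply,
      map_smul] at h
    exact (eq_inv_smul_iff₀ (hν0 i)).2 h.symm
  have hreal : ν 0 + ν 1 + ν 2 = (ν 0)⁻¹ + (ν 1)⁻¹ + (ν 2)⁻¹ := by
    obtain ⟨g, hg⟩ := isConj_iff.1 hinv
    rw [← hθy, ← hθyi, ← hg, IsIrr.isClassFunction θ.2]
  -- two equal eigenvalues force the identity
  have htwo : ∀ p q : ℂ, p ^ orderOf y = 1 → p * p * q = 1 → p + p + q = p⁻¹ + p⁻¹ + q⁻¹ →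
      p = 1 ∧ q = 1 := by
    intro p q hp hpq hsum'
    have hp0 : p ≠ 0 := fun e => by rw [e, zero_pow (orderOf_pos y).ne'] at hp; exact zero_ne_one hp
    have hq : q = (p * p)⁻¹ := eq_inv_of_mul_eq_one_right hpq
    rw [hq] at hsum'
    field_simp at hsum'
    have h4 : (p - 1) ^ 3 * (p + 1) = 0 := by linear_combination -hsum'
    rcases mul_eq_zero.1 h4 with h5 | h5
    · have hp1 : p = 1 := sub_eq_zero.1 (pow_eq_zero_iff (by norm_num) |>.1 h5)
      exact ⟨hp1, by rw [hq, hp1]; norm_num⟩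
    · have hp1 : p = -1 := eq_neg_of_add_eq_zero_left h5
      rw [hp1, Odd.neg_one_pow (Nat.not_even_iff_odd.1 fun h => hodd h.two_dvd)] at hp
      norm_num at hp
  have hnot1 : ¬ (ν 0 = 1 ∧ ν 1 = 1 ∧ ν 2 = 1) := fun ⟨e0, e1, e2⟩ => hy1 (hf y (by
    rw [hθy, e0, e1, e2, apply_one_eq_charDegree, h3]; norm_num))
  have hdist : Function.Injective ν := by
    have d01 : ν 0 ≠ ν 1 := fun e => by
      obtain ⟨e1, e2⟩ := htwo (ν 0) (ν 2) (hνpow 0) (by linear_combination hdet + ν 0 * ν 2 * e)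
        (by rw [← e] at hreal; exact hreal)
      exact hnot1 ⟨e1, e ▸ e1, e2⟩
    have d02 : ν 0 ≠ ν 2 := fun e => by
      obtain ⟨e1, e2⟩ := htwo (ν 0) (ν 1) (hνpow 0) (by linear_combination hdet + ν 0 * ν 1 * e)
        (by rw [← e] at hreal; linear_combination hreal)
      exact hnot1 ⟨e1, e2, e ▸ e1⟩
    have d12 : ν 1 ≠ ν 2 := fun e => by
      obtain ⟨e1, e2⟩ := htwo (ν 1) (ν 0) (hνpow 1) (by linear_combination hdet + ν 0 * ν 1 * e)
        (by rw [← e] at hreal; linear_combination hreal)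
      exact hnot1 ⟨e2, e1, e ▸ e1⟩
    intro i j h
    fin_cases i <;> fin_cases j <;>
      first | rfl | (exact absurd h d01) | (exact absurd h.symm d01) | (exact absurd h d02) |
        (exact absurd h.symm d02) | (exact absurd h d12) | (exact absurd h.symm d12)
  -- everything commuting with `y` is diagonal
  have hdiag : ∀ c : G, Commute y c → ∀ i, ρ c (w i) = w.repr (ρ c (w i)) i • w i := by
    intro c hc i
    refine w.repr.injective (Finsupp.ext fun j => ?_)
    rw [map_smul, Finsupp.smul_apply, w.repr_self, Finsupp.single_apply]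
    rcases eq_or_ne i j with rfl | hij
    · simp
    · rw [if_neg hij, smul_zero]
      have h : ρ y (ρ c (w i)) = ν i • ρ c (w i) := by
        rw [← Module.End.mul_apply, ← map_mul, hc.eq, map_mul, Module.End.mul_apply, hwν, map_smul]
      have h' := congrArg (fun u => w.repr u j) h
      have hexp : w.repr (ρ y (ρ c (w i))) j = ν j * w.repr (ρ c (w i)) j := by
        conv_lhs => rw [← w.sum_repr (ρ c (w i))]
        simp only [map_sum, map_smul, hwν, Finsupp.coe_finsetSum, Finset.sum_apply,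
          Finsupp.smul_apply, w.repr_self, Finsupp.single_apply, smul_eq_mul]
        simp [mul_comm]
      simp only [hexp, map_smul, Finsupp.smul_apply, smul_eq_mul] at h'
      by_contra hne0
      exact hij (hdist (mul_right_cancel₀ hne0 h').symm)
  have hρab : ρ (a * b) = ρ (b * a) := by
    refine w.ext fun i => ?_
    obtain ⟨p, hp⟩ : ∃ p : ℂ, ρ a (w i) = p • w i := ⟨_, hdiag a ha i⟩
    obtain ⟨q, hq⟩ : ∃ q : ℂ, ρ b (w i) = q • w i := ⟨_, hdiag b hb i⟩
    rw [map_mul, map_mul, Module.End.mul_apply, Module.End.mul_apply, hq, map_smul, hp, map_smul, hq,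
      smul_smul, smul_smul, mul_comm]
  have h : (θ : G → ℂ) (a * b * (b * a)⁻¹) = (θ : G → ℂ) 1 := by
    rw [← hθ]
    show LinearMap.trace ℂ _ (ρ _) = LinearMap.trace ℂ _ (ρ _)
    rw [map_mul, hρab, ← map_mul, mul_inv_cancel]
  exact mul_inv_eq_one.1 (hf _ h)

end Cfsg.Agent.H81.FourFactor
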