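import Cfsg.Agent.H81.FourFactor
import Cfsg.Agent.Fusion.Basic

/-!
# A simple group of order four times two prime powers with a character of degree four has order 60
-/

open scoped ComplexConjugate

namespace Cfsg.Agent.H81.FourFactor

open CharBasic BlockBasic SimpleDegree

universe u

variable {G : Type u} [Group G] [Finite G] [IsSimpleGroup G]

theorem isKleinFour_sylow (hna : ∃ x y : G, x * y ≠ y * x) (P : Sylow 2 G)
    (h4 : Nat.card (P : Subgroup G) = 4) :
    IsKleinFour (P : Subgroup G) ∧ (∀ s t : G, orderOf s = 2 → orderOf t = 2 → IsConj s t) := by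
  have hnc : ¬ ∃ O : Subgroup G, O.Normal ∧ O.index = 4 := by
    rintro ⟨O, hO, hi⟩
    rcases hO.eq_bot_or_eq_top with rfl | rfl
    · rw [Subgroup.index_bot] at hi
      have hP : (P : Subgroup G) = ⊤ := Subgroup.eq_top_of_card_eq _ (by rw [h4, hi])
      haveI : Fact (Nat.Prime 2) := ⟨Nat.prime_two⟩
      obtain ⟨a, b, hab⟩ := hna
      exact hab ((IsPGroup.isMulCommutative_of_card_eq_prime_sq (G := G) (p := 2)
        (by rw [hi]; norm_num)).is_comm.comm a b)
    · rw [Subgroup.index_top] at hi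
      omega
  obtain ⟨hexp, hconj⟩ := H24.KleinBlock.sylow_four_facts P h4 hnc
  refine ⟨⟨h4, ?_⟩, hconj⟩
  haveI : Nontrivial (P : Subgroup G) := Finite.one_lt_card_iff_nontrivial.1 (by omega)
  refine (Monoid.exponent_eq_prime_iff Nat.prime_two).2 fun x hx => orderOf_eq_prime ?_ hx
  exact Subtype.ext (by rw [Subgroup.coe_pow, pow_two, hexp _ x.2, Subgroup.coe_one])

theorem three_dvd (hna : ∃ x y : G, x * y ≠ y * x) {χ : Cfsg.IrrCharacter G}
    (hne : (χ : G → ℂ) ≠ fun _ => 1) (h4 : Cfsg.charDegree (χ : G → ℂ) = 4)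
    (h4G : 4 ∣ Nat.card G) (h8 : ¬ 8 ∣ Nat.card G) : 3 ∣ Nat.card G := by
  classical
  haveI : Fact (Nat.Prime 2) := ⟨Nat.prime_two⟩
  obtain ⟨P⟩ : Nonempty (Sylow 2 G) := inferInstance
  have hP4 : Nat.card (P : Subgroup G) = 4 := by
    rw [P.card_eq_multiplicity]
    have h1 := (Nat.prime_two.pow_dvd_iff_le_factorization (k := 2) Nat.card_pos.ne').1 ((show (4:ℕ) = 2 ^ 2 from rfl) ▸ h4G)
    have h2 : ¬ 3 ≤ (Nat.card G).factorization 2 := fun h => h8
      (by simpa using (Nat.prime_two.pow_dvd_iff_le_factorization (k := 3) Nat.card_pos.ne').2 h)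
    rw [show (Nat.card G).factorization 2 = 2 by omega]
    norm_num
  obtain ⟨hP, hone⟩ := isKleinFour_sylow hna P hP4
  haveI := hP
  have hC := centralizer_sylow hna hne h4 h8 P hP
  by_contra h3
  set f := Subgroup.normalizerMonoidHom (P : Subgroup G) with hf
  have hrange : Nat.card f.range ∣ 24 := by
    have hinj : Function.Injective (MulAut.toPerm (P : Subgroup G)) := fun a b h =>
      MulEquiv.ext fun x => congrArg (fun e : Equiv.Perm (P : Subgroup G) => e x) h
    have h := Subgroup.card_subgroup_dvd_card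
      (((MulAut.toPerm (P : Subgroup G)).comp f).range)
    rw [Nat.card_perm, hP4] at h
    rw [MonoidHom.range_comp, Subgroup.card_map_of_injective hinj] at h
    exact h
  have hker : f.ker = (P : Subgroup G).subgroupOf (Subgroup.normalizer ((P : Subgroup G) : Set G)) := by
    rw [hf, Subgroup.normalizerMonoidHom_ker, hC]
  have hidx : f.ker.index = Nat.card f.range := Subgroup.index_ker f
  have hodd : ¬ 2 ∣ Nat.card f.range := by
    intro h
    have h' := f.ker.card_mul_index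
    rw [hidx, hker, Nat.card_congr (Subgroup.subgroupOfEquivOfLe Subgroup.le_normalizer).toEquiv,
      hP4] at h'
    exact h8 ((show 8 ∣ Nat.card ↥(Subgroup.normalizer ((P : Subgroup G) : Set G)) by
      rw [← h']; exact Nat.mul_dvd_mul_left 4 h).trans (Subgroup.card_subgroup_dvd_card _))
  have h3' : ¬ 3 ∣ Nat.card f.range := fun h => h3 (by
    refine h.trans ?_
    rw [← hidx]
    exact (Subgroup.index_dvd_card _).trans (Subgroup.card_subgroup_dvd_card _))
  have h1 : Nat.card f.range = 1 := by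
    have hle := Nat.le_of_dvd (by norm_num) hrange
    interval_cases hn : Nat.card f.range <;> omega
  have htop : f.ker = ⊤ := by
    rw [← Subgroup.index_eq_one, hidx, h1]
  -- two distinct involutions of the four group are conjugate in the normalizer
  obtain ⟨u, hu⟩ := exists_prime_orderOf_dvd_card' (G := (P : Subgroup G)) 2 (by rw [hP4]; norm_num)
  obtain ⟨v, hv1, hvu⟩ : ∃ v : (P : Subgroup G), v ≠ 1 ∧ v ≠ u := by
    haveI := Fintype.ofFinite (P : Subgroup G)
    obtain ⟨v, hv⟩ := ((Finset.univ.erase (1 : (P : Subgroup G))).erase u).eq_empty_or_nonempty.resolve_left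
      (fun h => by
        have := congrArg Finset.card h
        have e1 := Finset.pred_card_le_card_erase (a := u) (s := Finset.univ.erase (1 : (P : Subgroup G)))
        rw [Finset.card_erase_of_mem (Finset.mem_univ (1 : (P : Subgroup G))), Finset.card_univ,
          ← Nat.card_eq_fintype_card, hP4] at e1
        rw [Finset.card_empty] at this
        omega)
    simp only [Finset.mem_erase, Finset.mem_univ, and_true] at hv
    exact ⟨v, hv.2, hv.1⟩
  have hvo : orderOf v = 2 := orderOf_eq_prime (by rw [pow_two, IsKleinFour.mul_self]) hv1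
  obtain ⟨g, hg⟩ := isConj_iff.1 (hone (u : G) (v : G) (by rw [Subgroup.orderOf_coe, hu])
    (by rw [Subgroup.orderOf_coe, hvo]))
  have hmem : ∀ w : (P : Subgroup G), (w : G) ∈ Subgroup.centralizer ((P : Subgroup G) : Set G) :=
    fun w => by rw [hC]; exact w.2
  obtain ⟨n, hn, hnu⟩ := Fusion.burnside_fusion_centralizer P (hmem u) (by rw [hg]; exact hmem v)
  have hnP : n ∈ (P : Subgroup G) := by
    have : (⟨n, hn⟩ : Subgroup.normalizer ((P : Subgroup G) : Set G)) ∈ f.ker := htop ▸ Subgroup.mem_top _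
    rw [hker] at this
    exact this
  rw [hg, congrArg Subtype.val (hP.isMulCommutative.is_comm.comm (⟨n, hnP⟩ : (P : Subgroup G)) u)
    |> (fun e : n * (u : G) = (u : G) * n => e), mul_inv_cancel_right] at hnu
  exact hvu (Subtype.ext hnu.symm)

/-- The main statement. -/
theorem card_eq_sixty (hna : ∃ x y : G, x * y ≠ y * x) {r g₀ : ℕ} (hr : r.Prime) (hr2 : r ≠ 2)
    (hr3 : r ≠ 3) (hG : Nat.card G = 4 * g₀) (hg₀ : Odd g₀) (hsm : KleinArith.Sm r g₀)
    {χ : Cfsg.IrrCharacter G} (hne : (χ : G → ℂ) ≠ fun _ => 1)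
    (h4 : Cfsg.charDegree (χ : G → ℂ) = 4) : Nat.card G = 60 := by
  classical
  cases nonempty_fintype G
  haveI : Fact (Nat.Prime 2) := ⟨Nat.prime_two⟩
  obtain ⟨M, hM⟩ := exists_isPModular (p := 2) Nat.prime_two
  obtain ⟨j, hj⟩ := hg₀
  have h4G : 4 ∣ Nat.card G := ⟨g₀, hG⟩
  have h8 : ¬ 8 ∣ Nat.card G := by omega
  have hg₀' : Odd g₀ := ⟨j, hj⟩
  obtain ⟨P⟩ : Nonempty (Sylow 2 G) := inferInstance
  have hP4 : Nat.card (P : Subgroup G) = 4 := by
    rw [P.card_eq_multiplicity]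
    have h1 := (Nat.prime_two.pow_dvd_iff_le_factorization (k := 2) Nat.card_pos.ne').1 ((show (4:ℕ) = 2 ^ 2 from rfl) ▸ h4G)
    have h2 : ¬ 3 ≤ (Nat.card G).factorization 2 := fun h => h8
      (by simpa using (Nat.prime_two.pow_dvd_iff_le_factorization (k := 3) Nat.card_pos.ne').2 h)
    rw [show (Nat.card G).factorization 2 = 2 by omega]
    norm_num
  obtain ⟨hP, hone⟩ := isKleinFour_sylow hna P hP4
  haveI := hP
  have hCP := centralizer_sylow hna hne h4 h8 P hP
  obtain ⟨⟨J, hJP⟩, hJ⟩ := exists_prime_orderOf_dvd_card' (G := (P : Subgroup G)) 2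
    (by rw [hP4]; norm_num)
  rw [← Subgroup.orderOf_coe] at hJ
  change orderOf J = 2 at hJ
  have hnc : ¬ ∃ N : Subgroup G, N.Normal ∧ Nat.card N = g₀ := by
    rintro ⟨N, hN, hNc⟩
    rcases hN.eq_bot_or_eq_top with rfl | rfl
    · rw [Subgroup.card_bot] at hNc
      obtain ⟨a, b, hab⟩ := hna
      exact hab ((IsPGroup.isMulCommutative_of_card_eq_prime_sq (G := G) (p := 2)
        (by omega)).is_comm.comm a b)
    · rw [Subgroup.card_top] at hNc
      omega
  obtain ⟨χ₁, χ₂, χ₃, ε₁, ε₂, ε₃, hB, hdist, hε, hval⟩ := exists_block_data hM P hP hone hJ hJP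
  obtain ⟨N, hN0, hCJ, hrel, hkey⟩ := H24.KleinBlock.klein_int hM g₀ hg₀' hG hnc P J hJP hJ
    χ₁ χ₂ χ₃ ε₁ ε₂ ε₃ hB hdist hε hval
  rw [hCP, hP4] at hCJ
  set I := (Subgroup.centralizer ({J} : Set G)).index with hI
  have hIN : g₀ = I * N := by
    have h := (Subgroup.centralizer ({J} : Set G)).card_mul_index
    rw [hCJ, hG, ← hI] at h
    have h' : 4 * g₀ = 4 * (I * N) := by rw [← h]; ring
    omega
  -- the odd part of the involution centralizer
  obtain ⟨Q, O, hO, hcompl⟩ := Cores.hasNormalPComplement_centralizer_involution P hP hJ hJP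
  haveI := hO
  have hQ4 : Nat.card Q = 4 := by
    rw [Q.card_eq_multiplicity]
    have h1 : 4 ∣ Nat.card (Subgroup.centralizer ({J} : Set G)) := by rw [hCJ]; exact dvd_mul_left _ _
    have h2 := Subgroup.card_subgroup_dvd_card (Subgroup.centralizer ({J} : Set G))
    have e1 := (Nat.prime_two.pow_dvd_iff_le_factorization (k := 2) Nat.card_pos.ne').1 ((show (4:ℕ) = 2 ^ 2 from rfl) ▸ h1)
    have e2 : ¬ 3 ≤ (Nat.card (Subgroup.centralizer ({J} : Set G))).factorization 2 := fun h => h8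
      (((by simpa using (Nat.prime_two.pow_dvd_iff_le_factorization (k := 3) Nat.card_pos.ne').2 h) :
        8 ∣ Nat.card (Subgroup.centralizer ({J} : Set G))).trans h2)
    rw [show (Nat.card (Subgroup.centralizer ({J} : Set G))).factorization 2 = 2 by omega]
    norm_num
  have hOc : Nat.card O = N := by
    have h := hcompl.card_mul_card
    rw [hQ4, hCJ] at h
    omega
  have hNg : N ∣ g₀ := ⟨I, by rw [hIN, mul_comm]⟩
  have hNodd : ¬ 2 ∣ N := fun h => by
    have := h.trans hNg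
    omega
  have hreg : ∀ y : Subgroup.centralizer ({J} : Set G), ¬ 2 ∣ orderOf y ↔ y ∈ O := by
    intro y
    refine ⟨fun hy => ?_, fun hy h => hNodd ?_⟩
    · rw [← QuotientGroup.eq_one_iff, ← orderOf_eq_one_iff]
      have h1 : orderOf (y : Subgroup.centralizer ({J} : Set G) ⧸ O) ∣ orderOf y :=
        orderOf_map_dvd (QuotientGroup.mk' O) y
      have h2 : orderOf (y : Subgroup.centralizer ({J} : Set G) ⧸ O) ∣ 2 ^ 2 := by
        have := orderOf_dvd_natCard (y : Subgroup.centralizer ({J} : Set G) ⧸ O)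
        rwa [← Subgroup.index_eq_card, hcompl.symm.index_eq_card, hQ4] at this
      exact Nat.eq_one_of_dvd_coprimes
        ((Nat.prime_two.coprime_iff_not_dvd.2 hy).symm.pow_right 2) h1 h2
    · rw [← hOc]
      refine h.trans ?_
      rw [show orderOf y = orderOf (⟨y, hy⟩ : O) from (Subgroup.orderOf_mk y hy).symm]
      exact orderOf_dvd_natCard _
  -- the square of the absolute value of the quartic character
  have hzero : ∀ g : G, 2 ∣ orderOf g → (χ : G → ℂ) g = 0 := fun g hg => by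
    refine H84.apply_eq_zero_of_defect_zero (p := 2) χ (fun h => h8 ?_) hg
    rw [h4] at h
    exact (Nat.dvd_div_iff_mul_dvd h4G).1 h
  haveI : Fintype (Subgroup.centralizer ({J} : Set G)) := Fintype.ofFinite _
  set φ : G → ℂ := (χ : G → ℂ) * fun g => conj ((χ : G → ℂ) g) with hφ
  have hφc : Cfsg.IsCharacter G φ := CharInduce.IsChar.mul (IsIrr.isCharacter χ.2)
    (CharInduce.IsChar.conj (IsIrr.isCharacter χ.2))
  choose m hm using fun ψ : Cfsg.IrrCharacter G => classInner_isChar_nat hφc (IsIrr.isCharacter ψ.2)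
  have hexp : ∀ y : G, φ y = ∑ ψ : Cfsg.IrrCharacter G, (m ψ : ℂ) * (ψ : G → ℂ) y := fun y => by
    conv_lhs => rw [classFunction_expansion (IsChar.isClassFunction hφc)]
    simp [hm]
  have hm1 : m trivialIrr = 1 := by
    have h := hm trivialIrr
    have h2 : Cfsg.classInner φ ((trivialIrr : Cfsg.IrrCharacter G) : G → ℂ) = 1 := by
      rw [← classInner_irr_self χ.2, classInner_def, classInner_def]
      refine congrArg _ (Finset.sum_congr rfl fun y _ => ?_)
      simp [hφ, trivialIrr]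
    rw [h2] at h
    exact_mod_cast h.symm
  have hblockset : (Finset.univ.filter fun ψ : Cfsg.IrrCharacter G => ψ ∈ Cfsg.principalBlock M G) =
      {trivialIrr, χ₁, χ₂, χ₃} := by
    ext ψ
    rw [Finset.mem_filter, hB]
    simp only [Finset.mem_univ, true_and, Set.mem_setOf_eq, Finset.mem_insert, Finset.mem_singleton,
      Subtype.ext_iff]
    rfl
  have ht : ∀ χ' : Cfsg.IrrCharacter G, (χ' : G → ℂ) ≠ (fun _ => 1) → trivialIrr ≠ χ' :=
    fun χ' h e => h (congrArg Subtype.val e.symm)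
  have hJzero : 1 + (m χ₁ : ℤ) * ε₁ + m χ₂ * ε₂ + m χ₃ * ε₃ = 0 := by
    have h0 : ∑ y : Subgroup.centralizer ({J} : Set G) with y ∈ O, φ (J * (y : G)) = 0 := by
      refine Finset.sum_eq_zero fun y hy => ?_
      have hy' := (hreg y).2 (Finset.mem_filter.1 hy).2
      rw [← Subgroup.orderOf_coe] at hy'
      have hc : Commute J (y : G) := (Subgroup.mem_centralizer_singleton_iff.1 y.2).symm
      have hd : 2 ∣ orderOf (J * (y : G)) := by
        rw [hc.orderOf_mul_eq_mul_orderOf_of_coprime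
          (by rw [hJ]; exact Nat.prime_two.coprime_iff_not_dvd.2 hy'), hJ]
        exact dvd_mul_right _ _
      simp [hφ, hzero _ hd]
    simp only [hexp] at h0
    rw [Finset.sum_comm] at h0
    simp only [← Finset.mul_sum, H24.KleinBlock.section_sum hM hJ O hreg, mul_ite, mul_zero,
      ← Finset.sum_filter, hblockset] at h0
    rw [Finset.sum_insert (by simp [ht χ₁ hdist.1, ht χ₂ hdist.2.1, ht χ₃ hdist.2.2.1]),
      Finset.sum_insert (by simp [hdist.2.2.2.1, hdist.2.2.2.2.1]),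
      Finset.sum_pair hdist.2.2.2.2.2, hval.1, hval.2.1, hval.2.2, hm1] at h0
    simp only [trivialIrr, Nat.cast_one, one_mul, mul_one, hOc] at h0
    have h1 : (N : ℂ) * ((1 + (m χ₁ : ℤ) * ε₁ + m χ₂ * ε₂ + m χ₃ * ε₃ : ℤ) : ℂ) = 0 := by
      push_cast
      linear_combination h0
    exact_mod_cast (mul_eq_zero.1 h1).resolve_left (Nat.cast_ne_zero.2 hN0.ne')
  have hdegsum : ∑ ψ : Cfsg.IrrCharacter G, m ψ * Cfsg.charDegree (ψ : G → ℂ) = 16 := by
    have h := hexp 1
    simp only [hφ, Pi.mul_apply, apply_one_eq_charDegree, h4, map_natCast] at h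
    have h' : ((∑ ψ : Cfsg.IrrCharacter G, m ψ * Cfsg.charDegree (ψ : G → ℂ) : ℕ) : ℂ) =
        ((16 : ℕ) : ℂ) := by
      push_cast
      rw [← h]
      norm_num
    exact_mod_cast h'
  have hbound : ∀ χ' : Cfsg.IrrCharacter G, (χ' : G → ℂ) ≠ (fun _ => 1) → 0 < m χ' →
      Cfsg.charDegree (χ' : G → ℂ) ≤ 15 := by
    intro χ' h1 hpos
    have h := Finset.sum_le_sum_of_subset (f := fun ψ => m ψ * Cfsg.charDegree (ψ : G → ℂ))
      (Finset.subset_univ {trivialIrr, χ'})
    rw [hdegsum, Finset.sum_pair (ht χ' h1), hm1,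
      show Cfsg.charDegree ((trivialIrr : Cfsg.IrrCharacter G) : G → ℂ) = 1 by
        simp [Cfsg.charDegree, trivialIrr]] at h
    have := Nat.le_mul_of_pos_left (Cfsg.charDegree (χ' : G → ℂ)) hpos
    omega
  -- the arithmetic data
  set x := Cfsg.charDegree (χ₁ : G → ℂ) with hx
  set y := Cfsg.charDegree (χ₂ : G → ℂ) with hy
  set z := Cfsg.charDegree (χ₃ : G → ℂ) with hz
  have hodd : ∀ (χ' : Cfsg.IrrCharacter G) (e : ℤ), (e = 1 ∨ e = -1) → (χ' : G → ℂ) J = e →
      Cfsg.charDegree (χ' : G → ℂ) ∣ g₀ ∧ ∃ h : ℕ, 2 * (h : ℤ) = Cfsg.charDegree (χ' : G → ℂ) + e := by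
    intro χ' e he hv
    obtain ⟨i, hi⟩ := H24.KleinBlock.odd_degree χ' hJ he hv
    have hd := charDegree_dvd χ'
    rw [hG] at hd
    refine ⟨((Nat.prime_two.coprime_iff_not_dvd.2 (by omega)).symm.pow_right 2).dvd_of_dvd_mul_left
      (by norm_num; exact hd), ?_⟩
    rcases he with rfl | rfl
    · exact ⟨i + 1, by push_cast [hi]; ring⟩
    · exact ⟨i, by push_cast [hi]; ring⟩
  obtain ⟨hxg, h, hh⟩ := hodd χ₁ ε₁ hε.1 hval.1
  obtain ⟨hyg, k, hk⟩ := hodd χ₂ ε₂ hε.2.1 hval.2.1
  obtain ⟨hzg, l, hl⟩ := hodd χ₃ ε₃ hε.2.2 hval.2.2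
  rw [← hx] at hh hxg
  rw [← hy] at hk hyg
  rw [← hz] at hl hzg
  have hkey' : g₀ * (h * k * l) = N ^ 3 * (x * y * z) := by
    rw [← hh, ← hk, ← hl] at hkey
    have h2 : ((g₀ * (h * k * l) : ℕ) : ℤ) * 8 = ((N ^ 3 * (x * y * z) : ℕ) : ℤ) * 8 := by
      rw [hIN]
      push_cast
      linear_combination (N : ℤ) * hkey
    exact_mod_cast mul_right_cancel₀ (by norm_num : (8 : ℤ) ≠ 0) h2
  have hoddrhs : (N ^ 3 * (x * y * z)) % 2 = 1 := by
    have ho : ∀ d : ℕ, d ∣ g₀ → Odd d := fun d hd => by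
      refine Nat.odd_iff.2 ?_
      by_contra hd2
      have := (show 2 ∣ d by omega).trans hd
      omega
    exact Nat.odd_iff.1 (((ho N hNg).pow).mul (((ho x hxg).mul (ho y hyg)).mul (ho z hzg)))
  have hhalf : ∀ c : ℕ, c ∣ g₀ * (h * k * l) → c % 2 = 1 ∧ KleinArith.Sm r c := by
    intro c hc
    refine ⟨?_, fun q hq hqc => ?_⟩
    · by_contra hc2
      have := (show 2 ∣ c by omega).trans hc
      rw [hkey'] at this
      omega
    · have hq' := hqc.trans hc
      rw [hkey'] at hq'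
      refine hsm q hq ?_
      rcases hq.dvd_mul.1 hq' with h1 | h1
      · exact (hq.dvd_of_dvd_pow h1).trans hNg
      rcases hq.dvd_mul.1 h1 with h2 | h2
      · rcases hq.dvd_mul.1 h2 with h3 | h3
        · exact h3.trans hxg
        · exact h3.trans hyg
      · exact h2.trans hzg
  have hSm : ∀ c : ℕ, c ∣ g₀ → KleinArith.Sm r c := fun c hc q hq hqc => hsm q hq (hqc.trans hc)
  have hdx : KleinArith.Datum r x ε₁ h :=
    ⟨two_le_charDegree hna hdist.1, hε.1, hh, (hhalf h ⟨g₀ * k * l, by ring⟩).1, hSm x hxg,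
      (hhalf h ⟨g₀ * k * l, by ring⟩).2⟩
  have hdy : KleinArith.Datum r y ε₂ k :=
    ⟨two_le_charDegree hna hdist.2.1, hε.2.1, hk, (hhalf k ⟨g₀ * h * l, by ring⟩).1, hSm y hyg,
      (hhalf k ⟨g₀ * h * l, by ring⟩).2⟩
  have hdz : KleinArith.Datum r z ε₃ l :=
    ⟨two_le_charDegree hna hdist.2.2.1, hε.2.2, hl, (hhalf l ⟨g₀ * h * k, by ring⟩).1, hSm z hzg,
      (hhalf l ⟨g₀ * h * k, by ring⟩).2⟩
  have hneg : (ε₁ = -1 ∧ x ≤ 15) ∨ (ε₂ = -1 ∧ y ≤ 15) ∨ (ε₃ = -1 ∧ z ≤ 15) := by
    by_contra hcon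
    have hnn : ∀ (χ' : Cfsg.IrrCharacter G) (e : ℤ), (χ' : G → ℂ) ≠ (fun _ => 1) →
        (e = 1 ∨ e = -1) → ¬ (e = -1 ∧ Cfsg.charDegree (χ' : G → ℂ) ≤ 15) →
        0 ≤ (m χ' : ℤ) * e := by
      intro χ' e h1 he hn
      rcases Nat.eq_zero_or_pos (m χ') with h0 | h0
      · simp [h0]
      rcases he with rfl | rfl
      · simp
      · exact absurd ⟨rfl, hbound χ' h1 h0⟩ hn
    rw [not_or, not_or] at hcon
    have a1 := hnn χ₁ ε₁ hdist.1 hε.1 (hx ▸ hcon.1)
    have a2 := hnn χ₂ ε₂ hdist.2.1 hε.2.1 (hy ▸ hcon.2.1)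
    have a3 := hnn χ₃ ε₃ hdist.2.2.1 hε.2.2 (hz ▸ hcon.2.2)
    omega
  obtain ⟨hr5, hhkl, hxyz, hthree⟩ := KleinArith.degrees hr hr2 hr3 hdx hdy hdz hrel hneg
  rw [hhkl, hxyz] at hkey'
  obtain ⟨θ, hθne, hθ3⟩ : ∃ θ : Cfsg.IrrCharacter G, (θ : G → ℂ) ≠ (fun _ => 1) ∧
      Cfsg.charDegree (θ : G → ℂ) = 3 := by
    rcases hthree with h | h | h
    exacts [⟨χ₁, hdist.1, h⟩, ⟨χ₂, hdist.2.1, h⟩, ⟨χ₃, hdist.2.2.1, h⟩]
  -- the involution centralizer has no odd part
  suffices hN1 : N = 1 by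
    rw [hN1] at hkey'
    omega
  by_contra hN1
  obtain ⟨q, hq, hqN⟩ := Nat.exists_prime_and_dvd hN1
  haveI := Fact.mk hq
  have hq2 : q ≠ 2 := fun e => hNodd (e ▸ hqN)
  obtain ⟨J', hJ'P, hJ'1, hJ'J⟩ : ∃ J' : G, J' ∈ (P : Subgroup G) ∧ J' ≠ 1 ∧ J' ≠ J := by
    by_contra hcon
    push Not at hcon
    have hsub : ((P : Subgroup G) : Set G) ⊆ {1, J} := fun c hc => by
      by_cases hc1 : c = 1
      · exact Or.inl hc1
      · exact Or.inr (hcon c hc hc1)
    have := Nat.card_mono (by simp) hsub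
    rw [SetLike.coe_sort_coe, hP4] at this
    have : Nat.card ({1, J} : Set G) ≤ 2 := by
      rw [Nat.card_coe_set_eq]
      exact (Set.ncard_insert_le _ _).trans (by simp)
    omega
  have hJ'2 : J' * J' = 1 := congrArg Subtype.val (IsKleinFour.mul_self (⟨J', hJ'P⟩ : (P : Subgroup G)))
  have hJ'C : J' ∈ Subgroup.centralizer ({J} : Set G) := Subgroup.mem_centralizer_singleton_iff.2
    (congrArg Subtype.val (hP.isMulCommutative.is_comm.comm (⟨J', hJ'P⟩ : (P : Subgroup G)) ⟨J, hJP⟩))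
  set j : Subgroup.centralizer ({J} : Set G) := ⟨J', hJ'C⟩ with hjdef
  have hjj : j * j = 1 := Subtype.ext hJ'2
  have hji : j⁻¹ = j := inv_eq_of_mul_eq_one_right hjj
  have hjconj : ∀ w ∈ O, j * w * j ∈ O := fun w hw => by
    have := hO.conj_mem w hw j
    rwa [hji] at this
  let F : O → O := fun w =>
    ⟨(w : Subgroup.centralizer ({J} : Set G))⁻¹ * (j * w * j), mul_mem (inv_mem w.2) (hjconj w w.2)⟩
  have hFinj : Function.Injective F := by
    intro v w hvw
    set v' : Subgroup.centralizer ({J} : Set G) := ↑v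
    set w' : Subgroup.centralizer ({J} : Set G) := ↑w
    have e : v'⁻¹ * (j * v' * j) = w'⁻¹ * (j * w' * j) := congrArg Subtype.val hvw
    have hfix : j * (w' * v'⁻¹) * j = w' * v'⁻¹ := by
      have e1 : w' * (v'⁻¹ * (j * v' * j)) = j * w' * j := by rw [e, mul_inv_cancel_left]
      calc j * (w' * v'⁻¹) * j = (j * w' * j) * (j⁻¹ * v'⁻¹ * j⁻¹) * (j * j) := by group
        _ = (w' * (v'⁻¹ * (j * v' * j))) * (j⁻¹ * v'⁻¹ * j⁻¹) * (j * j) := by rw [e1]
        _ = w' * v'⁻¹ * (j * j) := by group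
        _ = w' * v'⁻¹ := by rw [hjj, mul_one]
    set c := w' * v'⁻¹
    have hcO : c ∈ O := mul_mem w.2 (inv_mem v.2)
    have hcj : Commute c j := by
      show c * j = j * c
      nth_rw 1 [← hfix]
      rw [mul_assoc, hjj, mul_one]
    have hcJ : Commute (c : G) J := Subgroup.mem_centralizer_singleton_iff.1 c.2
    have hcP : (c : G) ∈ Subgroup.centralizer ((P : Subgroup G) : Set G) := by
      have hgen : Subgroup.closure ({J, J'} : Set G) = (P : Subgroup G) := by
        refine le_antisymm ((Subgroup.closure_le _).2 (Set.insert_subset hJP (Set.singleton_subset_iff.2 hJ'P))) ?_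
        intro d hd
        by_contra hdn
        have h1 : J ∈ Subgroup.closure ({J, J'} : Set G) := Subgroup.subset_closure (by simp)
        have h2 : J' ∈ Subgroup.closure ({J, J'} : Set G) := Subgroup.subset_closure (by simp)
        have hJ1 : J ≠ 1 := by rintro rfl; simp at hJ
        have hJJ : J * J = 1 := by rw [← pow_two]; exact hJ ▸ pow_orderOf_eq_one J
        have hsub : ({1, J, J', J * J', d} : Set G) ⊆ ((P : Subgroup G) : Set G) := by
          rintro e (rfl | rfl | rfl | rfl | rfl)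
          exacts [one_mem _, hJP, hJ'P, mul_mem hJP hJ'P, hd]
        have hn1 : d ≠ 1 := fun e => hdn (e ▸ one_mem _)
        have hn2 : d ≠ J := fun e => hdn (e ▸ h1)
        have hn3 : d ≠ J' := fun e => hdn (e ▸ h2)
        have hn4 : d ≠ J * J' := fun e => hdn (e ▸ mul_mem h1 h2)
        have hm1' : J * J' ≠ 1 := fun e => hJ'J (by
          rw [← inv_eq_of_mul_eq_one_right e, inv_eq_of_mul_eq_one_right hJJ])
        have hm2 : J * J' ≠ J := fun e => hJ'1 (mul_eq_left.1 e)
        have hm3 : J * J' ≠ J' := fun e => hJ1 (mul_eq_right.1 e)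
        have := Set.ncard_le_ncard hsub (Set.toFinite _)
        rw [← Nat.card_coe_set_eq ((P : Subgroup G) : Set G), SetLike.coe_sort_coe, hP4,
          Set.ncard_insert_of_notMem (by simp [Ne.symm hJ1, Ne.symm hJ'1, Ne.symm hm1', Ne.symm hn1])
            (Set.toFinite _),
          Set.ncard_insert_of_notMem (by simp [Ne.symm hJ'J, Ne.symm hm2, Ne.symm hn2])
            (Set.toFinite _),
          Set.ncard_insert_of_notMem (by simp [Ne.symm hm3, Ne.symm hn3]) (Set.toFinite _),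
          Set.ncard_pair (Ne.symm hn4)] at this
        omega
      rw [← hgen, Subgroup.centralizer_closure, Subgroup.mem_centralizer_iff]
      rintro d (rfl | rfl)
      · exact hcJ.eq.symm
      · exact (congrArg Subtype.val hcj.eq).symm
    rw [hCP] at hcP
    have hc2 : orderOf (c : G) ∣ 2 ^ 2 := by
      have := Subgroup.orderOf_dvd_natCard _ hcP
      rwa [hP4] at this
    have hodd' := (hreg c).2 hcO
    rw [← Subgroup.orderOf_coe] at hodd'
    have hc1 : orderOf (c : G) = 1 := Nat.eq_one_of_dvd_coprimes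
      ((Nat.prime_two.coprime_iff_not_dvd.2 hodd').symm.pow_right 2) dvd_rfl hc2
    have : c = 1 := Subtype.ext (orderOf_eq_one_iff.1 hc1)
    exact (Subtype.ext (mul_inv_eq_one.1 this)).symm
  have hinv : ∀ w ∈ O, IsConj (w : G) (w : G)⁻¹ := by
    intro w hw
    obtain ⟨v, hv⟩ := (Finite.injective_iff_surjective.1 hFinj) ⟨w, hw⟩
    set v' : Subgroup.centralizer ({J} : Set G) := ↑v
    have e : v'⁻¹ * (j * v' * j) = w := congrArg Subtype.val hv
    have e2 : j * w * j = w⁻¹ := by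
      rw [← e]
      calc j * (v'⁻¹ * (j * v' * j)) * j = j * v'⁻¹ * j * v' * (j * j) := by group
        _ = (v'⁻¹ * (j * v' * j))⁻¹ * (j * j) := by
          rw [mul_inv_rev, mul_inv_rev, mul_inv_rev, inv_inv, hji]
          simp only [mul_assoc]
        _ = _ := by rw [hjj, mul_one]
    refine isConj_iff.2 ⟨J', ?_⟩
    have e3 := congrArg Subtype.val e2
    rw [inv_eq_of_mul_eq_one_right hJ'2]
    exact e3
  obtain ⟨⟨y₀, hy₀O⟩, hy₀⟩ := exists_prime_orderOf_dvd_card' (G := O) q (by rw [hOc]; exact hqN)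
  have hy₀q : orderOf (y₀ : G) = q := by rw [← hy₀, ← Subgroup.orderOf_coe (⟨y₀, hy₀O⟩ : O), Subgroup.orderOf_coe]
  have hyJ : Commute (y₀ : G) J := Subgroup.mem_centralizer_singleton_iff.1 y₀.2
  obtain ⟨R, hR⟩ := (IsPGroup.of_card (G := Subgroup.zpowers (y₀ : G)) (n := 1)
    (by rw [Nat.card_zpowers, hy₀q, pow_one])).exists_le_sylow
  have hyR : (y₀ : G) ∈ (R : Subgroup G) := hR (Subgroup.mem_zpowers _)
  haveI : Nontrivial (R : Subgroup G) := ⟨⟨⟨(y₀ : G), hyR⟩, 1, fun e => hq.ne_one (by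
    rw [← hy₀q, show (y₀ : G) = 1 from congrArg Subtype.val e, orderOf_one])⟩⟩
  haveI := R.isPGroup'.center_nontrivial
  obtain ⟨⟨zc, hzc⟩, hzne⟩ := exists_ne (1 : Subgroup.center (R : Subgroup G))
  have hzy : Commute (y₀ : G) (zc : G) :=
    congrArg Subtype.val ((Subgroup.mem_center_iff.1 hzc) ⟨(y₀ : G), hyR⟩)
  have hzJ : Commute (zc : G) J := commute_of_real hna hθne hθ3
    (fun e => hq.ne_one (by rw [← hy₀q, e, orderOf_one]))
    (by rw [hy₀q]; exact fun h => hq2 ((Nat.prime_dvd_prime_iff_eq Nat.prime_two hq).1 h).symm)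
    (hinv y₀ hy₀O) hzy hyJ
  set zC : Subgroup.centralizer ({J} : Set G) :=
    ⟨(zc : G), Subgroup.mem_centralizer_singleton_iff.2 hzJ.eq⟩
  have hzodd : ¬ 2 ∣ orderOf (zc : G) := by
    intro h
    obtain ⟨i, hi⟩ := (IsPGroup.iff_orderOf.1 R.isPGroup') zc
    rw [Subgroup.orderOf_coe, hi] at h
    exact hq2 ((Nat.prime_dvd_prime_iff_eq Nat.prime_two hq).1 (Nat.prime_two.dvd_of_dvd_pow h)).symm
  have hzO : zC ∈ O := (hreg zC).1 (by rw [← Subgroup.orderOf_coe]; exact hzodd)
  have hRC : (R : Subgroup G) ≤ Subgroup.centralizer ({J} : Set G) := fun c hc =>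
    Subgroup.mem_centralizer_singleton_iff.2 (commute_of_real hna hθne hθ3
      (fun e => hzne (Subtype.ext (Subtype.ext e))) hzodd (hinv zC hzO)
      (congrArg Subtype.val ((Subgroup.mem_center_iff.1 hzc) ⟨c, hc⟩)).symm hzJ).eq
  have hdvd := Subgroup.card_dvd_of_le hRC
  rw [R.card_eq_multiplicity, hCJ] at hdvd
  have hcoq : Nat.Coprime q 4 := by
    rw [show 4 = 2 ^ 2 from rfl]
    exact ((Nat.coprime_primes hq Nat.prime_two).2 hq2).pow_right 2
  have hdN := (hcoq.pow_left _).dvd_of_dvd_mul_right hdvd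
  have hle := (hq.pow_dvd_iff_le_factorization hN0.ne').1 hdN
  have hfG : (Nat.card G).factorization q = (60 : ℕ).factorization q + 3 * N.factorization q := by
    rw [hG, show 4 * g₀ = 60 * N ^ 3 by omega, Nat.factorization_mul (by norm_num)
      (pow_ne_zero _ hN0.ne'), Nat.factorization_pow]
    simp
  have := (hq.dvd_iff_one_le_factorization hN0.ne').1 hqN
  omega

end Cfsg.Agent.H81.FourFactor
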