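import Cfsg.Agent.H81.Congr
import Cfsg.Agent.Fusion.PComplement

/-!
# 2-blocks of full defect stable under inversion of the elements of odd order

The classes of odd elements of odd size span, modulo 2, a copy of the centre of the group algebra
of `C_G(P) / Z(P)`; its sum is the identity under a central character invariant under inversion.
-/

open scoped ComplexConjugate
open Cfsg.Agent.BlockBasic

namespace Cfsg.Agent.H81

universe u

variable {G : Type u} [Group G] [Finite G]

/-- Elements of odd order with class of odd size. -/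
def OddFull (G : Type u) [Group G] : Set G :=
  {g | Odd (orderOf g) ∧ Odd (Subgroup.centralizer ({g} : Set G)).index}

theorem oddFull_conj {g : G} (hg : g ∈ OddFull G) (a : G) : a * g * a⁻¹ ∈ OddFull G := by
  cases nonempty_fintype G
  classical
  refine ⟨by rw [orderOf_eq_of_isConj]; exact hg.1; exact (isConj_iff.2 ⟨a, rfl⟩).symm, ?_⟩
  have hc := hg.2
  rw [← card_class] at hc ⊢
  have hset : (Finset.univ.filter fun h => IsConj (a * g * a⁻¹) h) =
      Finset.univ.filter fun h => IsConj g h := by
    ext h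
    simp only [Finset.mem_filter, Finset.mem_univ, true_and]
    exact ⟨fun hh => (isConj_iff.2 ⟨a, rfl⟩).trans hh,
      fun hh => (isConj_iff.2 ⟨a, rfl⟩).symm.trans hh⟩
  rwa [hset]
where
  orderOf_eq_of_isConj {g h : G} (hgh : IsConj g h) : orderOf g = orderOf h := by
    obtain ⟨c, rfl⟩ := isConj_iff.1 hgh
    exact (MulEquiv.orderOf_eq (MulAut.conj c) g).symm

/-- In the centraliser of a Sylow subgroup the elements of order prime to `p` form a subgroup. -/
theorem mul_mem_regular_centralizer {p : ℕ} [hp : Fact p.Prime] (P : Sylow p G) {a b : G}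
    (ha : a ∈ Subgroup.centralizer ((P : Subgroup G) : Set G))
    (hb : b ∈ Subgroup.centralizer ((P : Subgroup G) : Set G))
    (ha' : ¬ p ∣ orderOf a) (hb' : ¬ p ∣ orderOf b) : ¬ p ∣ orderOf (a * b) := by
  set C := Subgroup.centralizer ((P : Subgroup G) : Set G) with hC
  obtain ⟨R⟩ : Nonempty (Sylow p C) := inferInstance
  have hRP : (R : Subgroup C).map C.subtype ≤ (P : Subgroup G) := by
    have hQ : IsPGroup p ((R : Subgroup C).map C.subtype) := R.isPGroup'.map C.subtype
    have hn : (R : Subgroup C).map C.subtype ≤ Subgroup.normalizer ((P : Subgroup G) : Set G) :=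
      (Subgroup.map_subtype_le _).trans (Subgroup.centralizer_le_normalizer _)
    have hsup := hQ.to_sup_of_normal_right' P.isPGroup' hn
    exact le_sup_left.trans (P.is_maximal' hsup le_sup_right).le
  have hcomp : Cfsg.HasNormalPComplement p C := by
    refine Fusion.hasNormalPComplement_of_normalizer_le_centralizer R ?_
    intro c _
    rw [Subgroup.mem_centralizer_iff]
    intro r hr
    exact Subtype.ext (c.2 r (hRP ⟨r, hr, rfl⟩))
  have hmem : ∀ c : C, c ∈ Cfsg.pResidual p C ↔ Nat.Coprime (orderOf c) p := fun c =>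
    Fusion.mem_pResidual_iff_of_hasNormalPComplement hcomp
  have hco : ∀ x : G, ¬ p ∣ orderOf x ↔ Nat.Coprime (orderOf x) p := fun x => by
    rw [Nat.coprime_comm, hp.out.coprime_iff_not_dvd]
  have := (hmem (⟨a, ha⟩ * ⟨b, hb⟩ : C)).1 (mul_mem
    ((hmem ⟨a, ha⟩).2 (by rw [← Subgroup.orderOf_coe]; exact (hco a).1 ha'))
    ((hmem ⟨b, hb⟩).2 (by rw [← Subgroup.orderOf_coe]; exact (hco b).1 hb')))
  rw [← Subgroup.orderOf_coe] at this
  exact (hco (a * b)).2 this

/-- A class function summed over a class function with even values on big classes is `0`. -/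
theorem omega_modM_zero [Fintype G] {M : Ideal AlgInt} (hM : IsPModular 2 M) (χ : IrrCharacter G)
    (hdeg : Odd (charDegree (χ : G → ℂ))) {d : G → ℕ} (hd : IsClassFunction G (fun y => (d y : ℂ)))
    (h : ∀ y, Odd (Subgroup.centralizer ({y} : Set G)).index → Even (d y)) :
    ModM M (omega (χ : G → ℂ) (ofFun fun y => (d y : ℂ))) 0 := by
  haveI : Finite (ConjClasses G) := Finite.of_surjective _ ConjClasses.mk_surjective
  haveI : Fintype (ConjClasses G) := Fintype.ofFinite _
  rw [omega_eq_sum_classes (CharBasic.IsIrr.isClassFunction χ.2) (isCentralElt_ofFun hd), modM_zero_iff]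
  refine memLocalIdeal_sum hM _ _ fun C _ => ?_
  rw [coeff_ofFun]
  rcases Nat.even_or_odd (Subgroup.centralizer ({C.out} : Set G)).index with he | ho
  · refine memLocalIdeal_mul hM (memLocalRing_natCast hM _) (modM_zero_iff.1 ?_)
    exact centralChar_modM_zero hM χ (by rwa [← even_iff_two_dvd, Nat.not_even_iff_odd])
      (even_iff_two_dvd.1 he)
  · rw [mul_comm]
    exact memLocalIdeal_mul hM (memLocalRing_centralChar hM χ.2 _)
      ((memLocalIdeal_natCast_iff hM _).2 (even_iff_two_dvd.1 (h _ ho)))

theorem coeff_mul_eq_sum [Fintype G] (z w : MonoidAlgebra ℂ G) (y : G) :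
    (z * w).coeff y = ∑ a : G, z.coeff a * w.coeff (a⁻¹ * y) := by
  classical
  induction z using MonoidAlgebra.induction_linear with
  | zero => simp
  | add a b ha hb =>
    rw [add_mul, MonoidAlgebra.coeff_add, Finsupp.add_apply, ha, hb, ← Finset.sum_add_distrib]
    simp [add_mul]
  | single g r =>
    rw [MonoidAlgebra.coeff_single_mul_apply, Finset.sum_eq_single g]
    · simp [MonoidAlgebra.coeff_single]
    · intro b _ hb
      simp [MonoidAlgebra.coeff_single, Finsupp.single_apply, Ne.symm hb]
    · simp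

/-- The parity of the structure constants of the sum of `OddFull G`. -/
theorem card_product_parity (P : Sylow 2 G) {g y : G} (hg : g ∈ OddFull G)
    (hy : (P : Subgroup G) ≤ Subgroup.centralizer ({y} : Set G)) :
    Nat.card {x : G // x ∈ OddFull G ∧ IsConj g (x⁻¹ * y)} ≡
      (if Odd (orderOf y) then 1 else 0) [MOD 2] := by
  classical
  haveI : Fact (Nat.Prime 2) := ⟨Nat.prime_two⟩
  set C := Subgroup.centralizer ((P : Subgroup G) : Set G) with hC
  have hyC : y ∈ C := fun q hq => (Subgroup.mem_centralizer_singleton_iff.1 (hy hq))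
  have hodd : ∀ x : G, Odd (orderOf x) ↔ ¬ 2 ∣ orderOf x := fun x => by
    rw [← even_iff_two_dvd, Nat.not_even_iff_odd]
  have hOF : ∀ x ∈ C, Odd (orderOf x) → x ∈ OddFull G := by
    intro x hx ho
    refine ⟨ho, ?_⟩
    have hle : (P : Subgroup G) ≤ Subgroup.centralizer ({x} : Set G) := fun q hq =>
      Subgroup.mem_centralizer_singleton_iff.2 (hx q hq)
    exact (Nat.odd_iff.2 (Nat.two_dvd_ne_zero.1 fun h => P.not_dvd_index
      (h.trans (Subgroup.index_dvd_of_le hle))))
  -- fixed points of the conjugation action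
  have key : ∀ (S : G → Prop), (∀ q ∈ (P : Subgroup G), ∀ x, S x → S (q * x * q⁻¹)) →
      Nat.card {x : G // S x} ≡ Nat.card {x : G // S x ∧ x ∈ C} [MOD 2] := by
    intro S hS
    letI : MulAction (P : Subgroup G) {x : G // S x} :=
      { smul := fun q x => ⟨q * x * (q : G)⁻¹, hS q q.2 x x.2⟩
        one_smul := fun x => Subtype.ext (by
          show ((1 : (P : Subgroup G)) : G) * x * ((1 : (P : Subgroup G)) : G)⁻¹ = x
          simp)
        mul_smul := fun q r x => Subtype.ext (by
          show ((q * r : (P : Subgroup G)) : G) * x * ((q * r : (P : Subgroup G)) : G)⁻¹ =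
            q * (r * x * (r : G)⁻¹) * (q : G)⁻¹
          rw [Subgroup.coe_mul]; group) }
    refine (P.isPGroup'.card_modEq_card_fixedPoints _).trans ?_
    rw [Nat.card_congr (β := {x : G // S x ∧ x ∈ C})]
    refine (Equiv.subtypeEquivRight (q := fun x : {x : G // S x} => (x : G) ∈ C) fun x => ?_).trans
      (Equiv.subtypeSubtypeEquivSubtypeInter S (· ∈ C))
    simp only [MulAction.mem_fixedPoints]
    constructor
    · intro h q hq
      exact mul_inv_eq_iff_eq_mul.1 (congrArg Subtype.val (h ⟨q, hq⟩))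
    · exact fun h q => Subtype.ext (mul_inv_eq_iff_eq_mul.2 (h q q.2))
  refine (key (fun x => x ∈ OddFull G ∧ IsConj g (x⁻¹ * y)) ?_).trans ?_
  · rintro q hq x ⟨hx, hgx⟩
    refine ⟨oddFull_conj hx q, hgx.trans (isConj_iff.2 ⟨q, ?_⟩)⟩
    rw [mul_inv_rev, mul_inv_rev, inv_inv]
    simp only [mul_assoc]
    rw [hyC q⁻¹ (inv_mem hq)]
  have hwodd : ∀ w, IsConj g w → ¬ 2 ∣ orderOf w := by
    intro w hw
    obtain ⟨c, rfl⟩ := isConj_iff.1 hw
    rw [← hodd]
    exact (oddFull_conj hg c).1
  have hxinv : ∀ x : G, ¬ 2 ∣ orderOf x → ¬ 2 ∣ orderOf x⁻¹ := fun x h => by rwa [orderOf_inv]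
  split_ifs with hyo
  · have hy' := (hodd y).1 hyo
    have h1 : Nat.card {x : G // (x ∈ OddFull G ∧ IsConj g (x⁻¹ * y)) ∧ x ∈ C} =
        Nat.card {w : G // IsConj g w ∧ w ∈ C} := by
      refine Nat.card_congr ⟨fun x => ⟨(x : G)⁻¹ * y, x.2.1.2, C.mul_mem (C.inv_mem x.2.2) hyC⟩,
        fun w => ⟨y * (w : G)⁻¹, ⟨hOF _ (C.mul_mem hyC (C.inv_mem w.2.2)) ?_, ?_⟩,
          C.mul_mem hyC (C.inv_mem w.2.2)⟩, fun x => ?_, fun w => ?_⟩
      · exact (hodd _).2 (mul_mem_regular_centralizer P hyC (C.inv_mem w.2.2) hy'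
          (hxinv _ (hwodd _ w.2.1)))
      · rw [mul_inv_rev, inv_inv, inv_mul_cancel_right]; exact w.2.1
      · exact Subtype.ext (by simp)
      · exact Subtype.ext (by simp)
    rw [h1]
    have hcl : Nat.card {w : G // IsConj g w} ≡ Nat.card {w : G // IsConj g w ∧ w ∈ C} [MOD 2] :=
      key (fun w => IsConj g w) fun q _ w hw => hw.trans (isConj_iff.2 ⟨q, rfl⟩)
    refine hcl.symm.trans ?_
    rw [CharBasic.card_conjugates_eq_index, Nat.ModEq, Nat.odd_iff.1 hg.2]
  · haveI : IsEmpty {x : G // (x ∈ OddFull G ∧ IsConj g (x⁻¹ * y)) ∧ x ∈ C} := by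
      refine ⟨fun x => hyo ((hodd y).2 ?_)⟩
      have hx := (hodd _).1 x.2.1.1.1
      have := mul_mem_regular_centralizer P x.2.2 (C.mul_mem (C.inv_mem x.2.2) hyC) hx
        (hwodd _ x.2.1.2)
      rwa [mul_inv_cancel_left] at this
    rw [Nat.card_of_isEmpty]

/-- An irreducible character of odd degree whose values on `OddFull G` are invariant modulo `M`
under inversion lies in the principal 2-block. -/
theorem mem_principalBlock_of_inv_congr {M : Ideal AlgInt} (hM : IsPModular 2 M)
    (χ : IrrCharacter G) (hdeg : Odd (charDegree (χ : G → ℂ)))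
    (hinv : ∀ g ∈ OddFull G, ModM M ((χ : G → ℂ) g⁻¹) ((χ : G → ℂ) g)) :
    χ ∈ principalBlock M G := by
  classical
  cases nonempty_fintype G
  haveI : Fact (Nat.Prime 2) := ⟨Nat.prime_two⟩
  have hcl := CharBasic.IsIrr.isClassFunction χ.2
  have hchar := CharBasic.IsIrr.isCharacter χ.2
  have hone : (χ : G → ℂ) 1 = (charDegree (χ : G → ℂ) : ℂ) := apply_one_eq_charDegree χ
  have hiff : ∀ y a : G, a * y * a⁻¹ ∈ OddFull G ↔ y ∈ OddFull G := fun y a =>
    ⟨fun h => by simpa [mul_assoc] using oddFull_conj h a⁻¹, fun h => oddFull_conj h a⟩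
  let s : G → ℕ := fun y => if y ∈ OddFull G then 1 else 0
  have hs : IsClassFunction G (fun y => (s y : ℂ)) := fun y a => by simp only [s, hiff]
  set S := ofFun fun y => (s y : ℂ) with hS
  have hScen : IsCentralElt S := isCentralElt_ofFun hs
  have hdeg0 : (charDegree (χ : G → ℂ) : ℂ) ≠ 0 := by exact_mod_cast (charDegree_pos χ).ne'
  -- the sum over `OddFull` is 1
  have hS1 : ModM M (omega (χ : G → ℂ) S) 1 := by
    have hsum : ModM M (∑ y ∈ Finset.univ.filter (· ∈ OddFull G), (χ : G → ℂ) y)
        ((χ : G → ℂ) 1) := by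
      have h1 : (1 : G) ∈ Finset.univ.filter (· ∈ OddFull G) := by
        refine Finset.mem_filter.2 ⟨Finset.mem_univ _, by simp, ?_⟩
        rw [show Subgroup.centralizer ({1} : Set G) = ⊤ by
          ext; simp [Subgroup.mem_centralizer_singleton_iff]]
        simp
      rw [← Finset.add_sum_erase _ _ h1]
      have key : ∀ T : Finset G, (∀ y ∈ T, y⁻¹ ∈ T ∧ y⁻¹ ≠ y ∧ y ∈ OddFull G) →
          ModM M (∑ y ∈ T, (χ : G → ℂ) y) 0 := by
        intro T
        induction T using Finset.strongInduction with
        | _ T ih =>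
          intro hT
          rcases T.eq_empty_or_nonempty with rfl | ⟨y, hy⟩
          · simpa using ModM.refl hM 0
          obtain ⟨hy', hne, hyS⟩ := hT y hy
          rw [← Finset.add_sum_erase _ _ hy,
            ← Finset.add_sum_erase _ _ (Finset.mem_erase.2 ⟨hne, hy'⟩), ← add_assoc]
          have hpair : ModM M ((χ : G → ℂ) y + (χ : G → ℂ) y⁻¹) 0 := by
            refine ((ModM.refl hM _).add hM (hinv y hyS)).trans hM (modM_zero_iff.2 ?_)
            rw [← two_mul]
            simpa using memLocalIdeal_mul hM (memLocalRing_apply hM hchar y)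
              ((memLocalIdeal_natCast_iff hM 2).2 dvd_rfl) |> fun h => by rwa [mul_comm] at h
          have hrest := ih ((T.erase y).erase y⁻¹)
            ((Finset.erase_ssubset (Finset.mem_erase.2 ⟨hne, hy'⟩)).trans (Finset.erase_ssubset hy))
            (by
              intro z hz
              simp only [Finset.mem_erase] at hz ⊢
              obtain ⟨hz1, hz2, hz3⟩ := hz
              obtain ⟨a, b, c⟩ := hT z hz3
              exact ⟨⟨fun e => hz2 (inv_injective e), fun e => hz1 (by rw [← e, inv_inv]), a⟩, b, c⟩)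
          simpa using hpair.add hM hrest
      have h0 := key ((Finset.univ.filter (· ∈ OddFull G)).erase 1) fun y hy => by
        simp only [Finset.mem_erase, Finset.mem_filter, Finset.mem_univ, true_and] at hy ⊢
        refine ⟨⟨inv_ne_one.2 hy.1, ?_, ?_⟩, fun e => hy.1 ?_, hy.2⟩
        · rw [orderOf_inv]; exact hy.2.1
        · have : Subgroup.centralizer ({y⁻¹} : Set G) = Subgroup.centralizer ({y} : Set G) := by
            ext a
            simp only [Subgroup.mem_centralizer_singleton_iff]
            exact Commute.inv_right_iff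
          rw [this]; exact hy.2.2
        · have h2 : y ^ 2 = 1 := by
            rw [pow_two]; exact mul_eq_one_iff_eq_inv.2 e.symm
          have := orderOf_dvd_of_pow_eq_one h2
          rcases (Nat.dvd_prime Nat.prime_two).1 this with h | h
          · exact orderOf_eq_one_iff.1 h
          · exact absurd hy.2.1 (by rw [h]; decide)
      simpa using (ModM.refl hM ((χ : G → ℂ) 1)).add hM h0
    have he : omega (χ : G → ℂ) S =
        (∑ y ∈ Finset.univ.filter (· ∈ OddFull G), (χ : G → ℂ) y) *
          ((charDegree (χ : G → ℂ) : ℂ))⁻¹ := by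
      rw [omega, chiLin, hone, div_eq_mul_inv, Finset.sum_filter]
      congr 1
      exact Finset.sum_congr rfl fun y _ => by simp [hS, s]
    have hlast := hsum.mul_right hM (memLocalRing_natCast_inv hM
      (n := charDegree (χ : G → ℂ)) (by rwa [← even_iff_two_dvd, Nat.not_even_iff_odd]))
    rwa [← he, hone, mul_inv_cancel₀ hdeg0] at hlast
  -- hence every odd class of odd size has value 1
  have hval : ∀ g ∈ OddFull G, ModM M (centralChar (χ : G → ℂ) g) 1 := by
    intro g hg
    let c : G → ℕ := fun y => Nat.card {x : G // x ∈ OddFull G ∧ IsConj g (x⁻¹ * y)}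
    have hc : ∀ y, ((S * classSum g).coeff y) = (c y : ℂ) := fun y => by
      simp only [c]
      rw [coeff_mul_eq_sum, Nat.card_eq_fintype_card, Fintype.card_subtype, Finset.natCast_card_filter]
      refine Finset.sum_congr rfl fun a _ => ?_
      simp only [hS, coeff_ofFun, classSum, s]
      by_cases h1 : a ∈ OddFull G <;> by_cases h2 : IsConj g (a⁻¹ * y) <;> simp [h1, h2]
    have hcc : IsClassFunction G (fun y => ((c y + s y : ℕ) : ℂ)) := fun y a => by
      push_cast
      rw [← hc, ← hc]
      exact congrArg₂ (· + ·) ((hScen.mul (isCentralElt_classSum g)) y a) (hs y a)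
    have hzero := omega_modM_zero hM χ hdeg hcc fun y hy => by
      obtain ⟨P, hP⟩ := H82.exists_sylow_le_centralizer (p := 2) (g := y)
        (by rwa [← even_iff_two_dvd, Nat.not_even_iff_odd])
      have hpar : c y ≡ (if Odd (orderOf y) then 1 else 0) [MOD 2] := card_product_parity P hg hP
      have hsy : s y = if Odd (orderOf y) then 1 else 0 := by
        simp only [s, OddFull, Set.mem_setOf_eq, hy, and_true]
      rw [even_iff_two_dvd, ← Nat.modEq_zero_iff_dvd]
      refine (hpar.add_right _).trans ?_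
      rw [hsy]
      split_ifs <;> decide
    have hom : omega (χ : G → ℂ) (ofFun fun y => ((c y + s y : ℕ) : ℂ)) =
        omega (χ : G → ℂ) S * centralChar (χ : G → ℂ) g + omega (χ : G → ℂ) S := by
      rw [← omega_classSum hcl g, ← omega_mul χ.2 hScen, ← omega_add]
      congr 1
      apply MonoidAlgebra.coeff_injective
      ext y
      rw [MonoidAlgebra.coeff_add, Finsupp.add_apply, coeff_ofFun, hc, hS, coeff_ofFun, Nat.cast_add]
    rw [hom] at hzero
    have h1 := ((hS1.mul_right hM (memLocalRing_centralChar hM χ.2 g)).add hM hS1).symm.trans hM hzero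
    rw [one_mul] at h1
    have h3 := memLocalIdeal_sub hM (modM_zero_iff.1 h1)
      ((memLocalIdeal_natCast_iff hM 2).2 dvd_rfl)
    rw [ModM]
    have he : centralChar (χ : G → ℂ) g + 1 - ((2 : ℕ) : ℂ) = centralChar (χ : G → ℂ) g - 1 := by
      push_cast; ring
    rwa [he] at h3
  rw [H82.mem_principalBlock_iff]
  intro g
  show ModM M _ _
  rcases Nat.even_or_odd (Subgroup.centralizer ({g} : Set G)).index with he | ho
  · exact (modM_natCast_zero hM (even_iff_two_dvd.1 he)).trans hM
      (centralChar_modM_zero hM χ (by rwa [← even_iff_two_dvd, Nat.not_even_iff_odd])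
        (even_iff_two_dvd.1 he)).symm
  have hu := commute_pPart_pReg (p := 2) g
  obtain ⟨j, hj⟩ := exists_orderOf_pPart (p := 2) g
  set w := pReg (p := 2) g with hw
  have hCle : Subgroup.centralizer ({g} : Set G) ≤ Subgroup.centralizer ({w} : Set G) := by
    intro a ha
    rw [Subgroup.mem_centralizer_singleton_iff] at ha ⊢
    have hp : Commute a (pPart (p := 2) g) := by
      have h := pPart_conj (p := 2) g a
      rw [show a * g * a⁻¹ = g from mul_inv_eq_iff_eq_mul.2 ha] at h
      exact mul_inv_eq_iff_eq_mul.1 h.symm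
    exact hp.inv_right.mul_right ha
  have hwO : w ∈ OddFull G := by
    refine ⟨?_, Nat.not_even_iff_odd.1 fun h => ?_⟩
    · rw [← Nat.not_even_iff_odd, even_iff_two_dvd]; exact not_dvd_orderOf_pReg g
    · exact Nat.not_even_iff_odd.2 ho (even_iff_two_dvd.2
        ((even_iff_two_dvd.1 h).trans (Subgroup.index_dvd_of_le hCle)))
  have hidx : ModM M ((Subgroup.centralizer ({g} : Set G)).index : ℂ) 1 := by
    simpa using modM_natCast hM (b := 1) (show _ ≡ 1 [MOD 2] by rw [Nat.ModEq, Nat.odd_iff.1 ho])
  refine hidx.trans hM ((hval w hwO).symm.trans hM ?_)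
  refine (centralChar_modM_apply hM χ hdeg hwO.2).trans hM ?_
  refine (char_modM_mul hM hchar hu hj (not_dvd_orderOf_pReg g)).symm.trans hM ?_
  rw [pPart_mul_pReg]
  exact (centralChar_modM_apply hM χ hdeg ho).symm

/-- A block of full defect contains a character of degree prime to `p`. -/
theorem exists_degree_not_dvd {p : ℕ} {M : Ideal AlgInt} (hM : IsPModular p M)
    {B : Set (IrrCharacter G)} (hB : IsPBlock M B)
    (hdef : blockDefect p B = (Nat.card G).factorization p) :
    ∃ χ ∈ B, ¬ p ∣ charDegree (χ : G → ℂ) := by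
  obtain ⟨χ₀, hχ₀⟩ := isPBlock_nonempty hM hB
  set a := (Nat.card G).factorization p with ha
  set I := (fun χ : IrrCharacter G => (charDegree (χ : G → ℂ)).factorization p) '' B
  have hmem : ∀ χ : IrrCharacter G, (charDegree (χ : G → ℂ)).factorization p ≤ a := fun χ =>
    (Nat.factorization_le_iff_dvd (charDegree_pos χ).ne' Nat.card_pos.ne').2 (charDegree_dvd χ) p
  obtain ⟨χ, hχ, he⟩ := Nat.sInf_mem (s := I) ⟨_, χ₀, hχ₀, rfl⟩
  refine ⟨χ, hχ, fun hd => ?_⟩
  have h1 := hM.1.factorization_pos_of_dvd (charDegree_pos χ).ne' hd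
  change a - sInf I = a at hdef
  have h2 := hmem χ
  simp only at he
  omega

end Cfsg.Agent.H81
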