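import Cfsg.Agent.H81.FixedOver

/-!
# Fully ramified characters
-/

open scoped ComplexConjugate
open Cfsg.Agent.CharBasic Cfsg.Agent.CharInduce

namespace Cfsg.Agent.H81

universe u

variable {H : Type u} [Group H] [Fintype H] (Z : Subgroup H) [Z.Normal] [Fintype Z]

/-- A fully ramified character vanishes off the subgroup. -/
theorem eq_zero_of_fully_ramified {χ : H → ℂ} (hχ : IsIrrCharacter H χ) {θ : Z → ℂ}
    (hθ : IsIrrCharacter Z θ) {e : ℕ} (he : e ^ 2 = Z.index)
    (hres : ∀ z : Z, χ z = (e : ℂ) * θ z) {h : H} (hh : h ∉ Z) : χ h = 0 := by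
  classical
  have hsum : ∑ n : Z, θ n * conj (θ n) = (Nat.card Z : ℂ) := by
    have h := classInner_irr_self hθ
    rwa [classInner_def, inv_mul_eq_one₀ (card_ne_zero_complex Z), eq_comm] at h
  have htot : ∑ x : H, χ x * conj (χ x) = (Nat.card H : ℂ) := by
    have h := classInner_irr_self hχ
    rwa [classInner_def, inv_mul_eq_one₀ (card_ne_zero_complex H), eq_comm] at h
  have hin : ∑ x ∈ Finset.univ.filter (· ∈ Z), χ x * conj (χ x) = (Nat.card H : ℂ) := by
    rw [Finset.sum_subtype (Finset.univ.filter (· ∈ Z)) (p := (· ∈ Z)) (F := inferInstance)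
      (fun x => by simp) (fun x => χ x * conj (χ x))]
    simp only [hres, map_mul, Complex.conj_natCast]
    rw [Finset.sum_congr rfl (fun n _ => show (e : ℂ) * θ n * ((e : ℂ) * conj (θ n)) =
        ((e ^ 2 : ℕ) : ℂ) * (θ n * conj (θ n)) by push_cast; ring), ← Finset.mul_sum, hsum, he,
      ← Nat.cast_mul, Subgroup.index_mul_card]
  rw [← Finset.sum_filter_add_sum_filter_not Finset.univ (· ∈ Z), hin, add_eq_left] at htot
  have h2 : ∑ x ∈ Finset.univ.filter (fun x => ¬ x ∈ Z), Complex.normSq (χ x) = 0 := by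
    have : ((∑ x ∈ Finset.univ.filter (fun x => ¬ x ∈ Z), Complex.normSq (χ x) : ℝ) : ℂ) = 0 := by
      push_cast
      rw [← htot]
      exact Finset.sum_congr rfl fun x _ => (Complex.mul_conj _).symm
    exact_mod_cast this
  exact Complex.normSq_eq_zero.1
    ((Finset.sum_eq_zero_iff_of_nonneg fun x _ => Complex.normSq_nonneg _).1 h2 h (by simp [hh]))

/-- A fully ramified quotient has no self-centralising cyclic subgroup. -/
theorem not_selfCentralizing_of_fully_ramified {χ : H → ℂ} (hχ : IsIrrCharacter H χ) {θ : Z → ℂ}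
    (hθ : IsIrrCharacter Z θ) {e : ℕ} (he : e ^ 2 = Z.index)
    (hres : ∀ z : Z, χ z = (e : ℂ) * θ z) (hZ : Z ≠ ⊤) (C : Subgroup (H ⧸ Z)) (hC : IsCyclic C) :
    Subgroup.centralizer (C : Set (H ⧸ Z)) ≠ C := by
  classical
  intro hself
  have he0 : (e : ℂ) ≠ 0 := by
    intro h0
    rw [Nat.cast_eq_zero] at h0
    rw [h0] at he
    exact Z.index_ne_zero_of_finite he.symm
  have hinv : ∀ x : H, conjFun Z θ x = θ := fun x => funext fun z => by
    have h1 := hres ⟨x * z * x⁻¹, Subgroup.Normal.conj_mem ‹Z.Normal› _ z.2 x⟩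
    have h2 : χ (x * z * x⁻¹) = χ z := IsIrr.isClassFunction hχ _ _
    rw [h2, hres z] at h1
    exact (mul_left_cancel₀ he0 h1).symm
  -- only `χ` lies over `θ`
  have honly : ∀ ψ : IrrCharacter H, classInner (fun n : Z => (ψ : H → ℂ) n) θ ≠ 0 →
      (ψ : H → ℂ) = χ := by
    intro ψ hψ
    by_contra hne
    have h0 := classInner_irr_of_ne ψ.2 hχ hne
    rw [classInner_def, mul_eq_zero, ← Finset.sum_subset (Finset.subset_univ
      (Finset.univ.filter (· ∈ Z))) (fun x _ hx => by
        rw [eq_zero_of_fully_ramified Z hχ hθ he hres (by simpa using hx), map_zero, mul_zero]),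
      Finset.sum_subtype (Finset.univ.filter (· ∈ Z)) (p := (· ∈ Z)) (F := inferInstance)
        (fun x => by simp)] at h0
    have h1 := h0.resolve_left (inv_ne_zero (card_ne_zero_complex H))
    rw [Finset.sum_congr rfl (fun n _ => show (ψ : H → ℂ) ((n : Z) : H) * conj (χ ((n : Z) : H)) =
        (classInner (fun n : Z => (ψ : H → ℂ) n) θ * e) * (θ n * conj (θ n)) by
          rw [res_eq_mul Z hθ hinv ψ.2 hψ n, hres, map_mul, Complex.conj_natCast]; ring),
      ← Finset.mul_sum] at h1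
    have hself := classInner_irr_self hθ
    rw [classInner_def, inv_mul_eq_one₀ (card_ne_zero_complex Z)] at hself
    rw [← hself] at h1
    exact mul_ne_zero (mul_ne_zero hψ he0) (card_ne_zero_complex Z) h1
  obtain ⟨c₀, hc₀⟩ := hC.exists_generator
  obtain ⟨g, hg⟩ := QuotientGroup.mk'_surjective Z (c₀ : H ⧸ Z)
  let L := C.comap (QuotientGroup.mk' Z)
  have hZL : Z ≤ L := fun z hz => by
    show (z : H ⧸ Z) ∈ C
    rw [(QuotientGroup.eq_one_iff z).2 hz]; exact C.one_mem
  have hgen : ∀ q ∈ C, ∃ i : ℤ, q = (g : H ⧸ Z) ^ i := fun q hq => by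
    obtain ⟨i, hi⟩ := Subgroup.mem_zpowers_iff.1 (hc₀ ⟨q, hq⟩)
    exact ⟨i, by rw [show (g : H ⧸ Z) = c₀ from hg, ← Subgroup.coe_zpow, hi]⟩
  have hcenter : ∀ x : H, Commute (x : H ⧸ Z) (g : H ⧸ Z) → x ∈ L := fun x hx => by
    show (x : H ⧸ Z) ∈ C
    rw [← hself, Subgroup.mem_centralizer_iff]
    intro q hq
    obtain ⟨i, rfl⟩ := hgen q hq
    exact (hx.zpow_right i).eq.symm
  have hgZ : g ∉ Z := fun h => by
    have h1 : (g : H ⧸ Z) = 1 := (QuotientGroup.eq_one_iff g).2 h
    refine hZ (Subgroup.eq_top_iff' Z |>.2 fun x => ?_)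
    have h2 := hcenter x (h1 ▸ Commute.one_right _)
    obtain ⟨i, hi⟩ := hgen _ h2
    rw [h1, one_zpow] at hi
    exact (QuotientGroup.eq_one_iff x).1 hi
  -- an extension to `L`
  haveI : Fintype L := Fintype.ofFinite L
  haveI : Fintype (Z.subgroupOf L) := Fintype.ofFinite _
  have hθirr := hθ
  obtain ⟨hθ', hinv', -⟩ := res_data Z hZL hθirr hinv (k := 1) (fun n => by rw [pow_one])
  obtain ⟨m, ρ, hρ, hρθ⟩ := hθ'
  have hcyc : IsCyclic (L ⧸ Z.subgroupOf L) := by
    let f : L →* C := ((QuotientGroup.mk' Z).comp L.subtype).codRestrict C fun x => x.2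
    have hker : Z.subgroupOf L ≤ f.ker := fun x hx => Subtype.ext ((QuotientGroup.eq_one_iff _).2 hx)
    refine isCyclic_of_injective (QuotientGroup.lift _ f hker) ?_
    rw [injective_iff_map_eq_one]
    intro q hq
    obtain ⟨x, rfl⟩ := QuotientGroup.mk'_surjective _ q
    have h2 : ((x : H) : H ⧸ Z) = 1 := congrArg Subtype.val hq
    exact (QuotientGroup.eq_one_iff x).2
      (Subgroup.mem_subgroupOf.2 ((QuotientGroup.eq_one_iff (x : H)).1 h2))
  obtain ⟨η, hη, hηZ⟩ := H35.Extend.exists_extension_cyclic (N := Z.subgroupOf L) ρ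
    (fun x n => by rw [hρθ]; exact congrFun (hinv' x) n) hcyc
  have hηres : IsIrrCharacter (Z.subgroupOf L) (fun n : Z.subgroupOf L => η (n : L)) := by
    rw [funext hηZ]; exact ⟨m, ρ, hρ, rfl⟩
  have hθ'' : IsIrrCharacter (Z.subgroupOf L)
      (fun n => θ (Subgroup.subgroupOfEquivOfLe hZL n)) := ⟨m, ρ, hρ, hρθ⟩
  -- `η` vanishes on the coset of `g`
  have hvan : ∀ b : L, (((b : H)) : H ⧸ Z) = (g : H ⧸ Z) → η b = 0 := by
    intro b hb
    have hbZ : (b : H) ∉ Z := fun h => hgZ ((QuotientGroup.eq_one_iff g).1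
      (hb ▸ (QuotientGroup.eq_one_iff _).2 h))
    have hH := kernel_over Z hθ hinv (b : H) (b : H)
    rw [Finset.sum_eq_zero (fun ψ _ => ?_)] at hH
    swap
    · by_cases hψ : classInner (fun n : Z => (ψ : H → ℂ) n) θ = 0
      · simp [hψ]
      · rw [honly ψ hψ, eq_zero_of_fully_ramified Z hχ hθ he hres hbZ]; simp
    have hL := kernel_over (Z.subgroupOf L) hθ'' hinv' b b
    have hRHS : ∑ n : Z.subgroupOf L, conj (θ (Subgroup.subgroupOfEquivOfLe hZL n)) *
        (Nat.card {x : L // x * b * x⁻¹ = n * b} : ℂ) =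
        ∑ n : Z, conj (θ n) * (Nat.card {x : H // x * b * x⁻¹ = n * b} : ℂ) := by
      refine Fintype.sum_equiv (Subgroup.subgroupOfEquivOfLe hZL).toEquiv _ _ fun n => ?_
      congr 2
      refine Nat.card_congr
        { toFun := fun x => ⟨((x.1 : L) : H), congrArg Subtype.val x.2⟩
          invFun := fun x => ⟨⟨x.1, hcenter _ ?_⟩, Subtype.ext x.2⟩
          left_inv := fun _ => rfl
          right_inv := fun _ => rfl }
      have h3 := congrArg (fun y : H => (y : H ⧸ Z)) x.2
      simp only [QuotientGroup.mk_mul, QuotientGroup.mk_inv, hb] at h3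
      rw [show (((Subgroup.subgroupOfEquivOfLe hZL).toEquiv n : Z) : H ⧸ Z) = 1 from
        (QuotientGroup.eq_one_iff _).2 ((Subgroup.subgroupOfEquivOfLe hZL).toEquiv n).2, one_mul,
        mul_inv_eq_iff_eq_mul] at h3
      exact h3
    have hzero : (0 : ℂ) = ∑ n : Z, conj (θ n) * (Nat.card {x : H // x * b * x⁻¹ = n * b} : ℂ) := by
      rcases mul_eq_zero.1 hH.symm with h | h
      · exact absurd h (inv_ne_zero (card_ne_zero_complex Z))
      · exact h.symm
    rw [hRHS, ← hzero, mul_zero] at hL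
    -- every term is non-negative
    have hterm : ∀ ξ : IrrCharacter L, ∃ r : ℝ, 0 ≤ r ∧
        classInner (fun n : Z.subgroupOf L => (ξ : L → ℂ) n)
          (fun n => θ (Subgroup.subgroupOfEquivOfLe hZL n)) / (ξ : L → ℂ) 1 *
          ((ξ : L → ℂ) b * conj ((ξ : L → ℂ) b)) = (r : ℂ) ∧
        ((ξ : L → ℂ) = η → r = 0 → η b = 0) := by
      intro ξ
      obtain ⟨c, hc⟩ := classInner_isChar_nat (IsChar.res (IsIrr.isCharacter ξ.2) (Z.subgroupOf L))
        (IsIrr.isCharacter hθ'')
      obtain ⟨d, hd0, hd⟩ := IsIrr.exists_degree ξ.2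
      refine ⟨(c : ℝ) / d * Complex.normSq ((ξ : L → ℂ) b),
        mul_nonneg (div_nonneg (Nat.cast_nonneg c) (Nat.cast_nonneg d)) (Complex.normSq_nonneg _),
        ?_, fun hξ hr => ?_⟩
      · rw [hd, Complex.mul_conj, show classInner (fun n : Z.subgroupOf L => (ξ : L → ℂ) n)
          (fun n => θ (Subgroup.subgroupOfEquivOfLe hZL n)) = c from hc]
        push_cast
        ring
      · rw [← hξ]
        rcases mul_eq_zero.1 hr with h | h
        · exfalso
          have hc1 : (c : ℂ) = 1 := by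
            rw [← hc]
            show classInner (fun n : Z.subgroupOf L => (ξ : L → ℂ) n) _ = 1
            rw [hξ, funext hηZ, hρθ, classInner_irr_self hθ'']
          rcases div_eq_zero_iff.1 h with h' | h'
          · rw [Nat.cast_eq_zero] at h'
            rw [h', Nat.cast_zero] at hc1
            exact zero_ne_one hc1
          · exact hd0.ne' (Nat.cast_eq_zero.1 h')
        · exact Complex.normSq_eq_zero.1 h
    choose r hr0 hr hreta using hterm
    rw [Finset.sum_congr rfl (fun ξ _ => hr ξ), ← Complex.ofReal_sum, Complex.ofReal_eq_zero] at hL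
    exact hreta ⟨η, hη⟩ rfl
      ((Finset.sum_eq_zero_iff_of_nonneg fun ξ _ => hr0 ξ).1 hL _ (Finset.mem_univ _))
  -- but the coset carries the norm
  haveI : Fintype (L ⧸ Z.subgroupOf L) := Fintype.ofFinite _
  let gL : L := ⟨g, hcenter g (Commute.refl _)⟩
  let f : L ⧸ Z.subgroupOf L → ℂ := fun q => if q = (gL : L ⧸ Z.subgroupOf L) then 1 else 0
  haveI := hcyc
  have hfcl : IsClassFunction (L ⧸ Z.subgroupOf L) f := fun q x => by
    letI := IsCyclic.commGroup (α := L ⧸ Z.subgroupOf L)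
    rw [mul_comm x q, mul_inv_cancel_right]
  have h1 := classInner_mul_conj (Z.subgroupOf L) hη hηres hfcl
  have hl : classInner η (fun x => η x * inflate (Z.subgroupOf L) f x) = 0 := by
    rw [classInner_def, Finset.sum_eq_zero, mul_zero]
    intro x _
    simp only [inflate, f]
    split_ifs with hx
    · rw [hvan x, zero_mul]
      have h2 := QuotientGroup.eq.1 hx
      rw [Subgroup.mem_subgroupOf] at h2
      exact QuotientGroup.eq.2 h2
    · simp
  rw [hl, classInner_def] at h1
  simp [f] at h1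
  exact Fintype.card_ne_zero (α := L ⧸ Z.subgroupOf L) (by exact_mod_cast h1.symm)

end Cfsg.Agent.H81
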