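import Mathlib.LinearAlgebra.Dual.Lemmas
import Mathlib.LinearAlgebra.FiniteDimensional.Lemmas
import Mathlib.Algebra.CharP.Lemmas
import Mathlib.RingTheory.Polynomial.Basic
import Mathlib.Algebra.Polynomial.AlgebraMap
import Mathlib.RingTheory.Nilpotent.Basic

/-!
# Linear algebra behind the degree bound for a Sylow subgroup of order `p`

`X` is a nilpotent endomorphism with `X ^ (p - 1) = 0`; eigenvectors in the socle of `X` and
eigencovectors killing the image of `X` which pair into high powers of `X` force `dim M` to be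
at least `(p + 1) / 2` times their number.
-/

set_option autoImplicit false
set_option linter.unusedSectionVars false

namespace Cfsg.Agent.H81

open Module

section Telescope

variable {k M : Type*} [Field k] [AddCommGroup M] [Module k M] [FiniteDimensional k M]

theorem finrank_ker_inf_range (X : Module.End k M) (j : ℕ) :
    finrank k ↥(LinearMap.ker X ⊓ LinearMap.range (X ^ j)) +
      finrank k (LinearMap.range (X ^ (j + 1))) = finrank k (LinearMap.range (X ^ j)) := by
  set R := LinearMap.range (X ^ j)
  have h := LinearMap.finrank_range_add_finrank_ker (X.domRestrict R)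
  have h1 : LinearMap.range (X.domRestrict R) = LinearMap.range (X ^ (j + 1)) := by
    rw [LinearMap.range_domRestrict, pow_succ', Module.End.mul_eq_comp, LinearMap.range_comp]
  have h2 : finrank k (LinearMap.ker (X.domRestrict R)) = finrank k ↥(LinearMap.ker X ⊓ R) := by
    have e : LinearMap.ker (X.domRestrict R) =
        (LinearMap.ker X ⊓ R).comap R.subtype := by
      ext v; simp [LinearMap.mem_ker]
    rw [e]
    exact (Submodule.comapSubtypeEquivOfLe inf_le_right).finrank_eq
  rw [h1, h2] at h
  omega

theorem sum_ker_inf_range_le (X : Module.End k M) (N : ℕ) :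
    ∑ j ∈ Finset.range N, finrank k ↥(LinearMap.ker X ⊓ LinearMap.range (X ^ j)) ≤
      finrank k M := by
  suffices h : ∑ j ∈ Finset.range N, finrank k ↥(LinearMap.ker X ⊓ LinearMap.range (X ^ j)) +
      finrank k (LinearMap.range (X ^ N)) = finrank k M from h ▸ Nat.le_add_right _ _
  induction N with
  | zero =>
    rw [Finset.sum_range_zero, zero_add, pow_zero, Module.End.one_eq_id, LinearMap.range_id,
      finrank_top]
  | succ N ih =>
    rw [Finset.sum_range_succ, add_assoc, finrank_ker_inf_range, ih]

/-- Subspaces separated by endomorphisms have additive dimensions. -/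
theorem sum_finrank_le_of_separated {ι : Type*} (s : Finset ι) (W : ι → Submodule k M)
    (E : ι → Module.End k M) (hE : ∀ i, ∀ w ∈ W i, E i w = w)
    (hE' : ∀ i j, i ≠ j → ∀ w ∈ W j, E i w = 0) (S : Submodule k M)
    (hS : ∀ i ∈ s, W i ≤ S) : ∑ i ∈ s, finrank k (W i) ≤ finrank k S := by
  classical
  induction s using Finset.induction generalizing S with
  | empty => simp
  | @insert a s ha ih =>
    rw [Finset.sum_insert ha]
    have hSa : W a ≤ S := hS a (Finset.mem_insert_self a s)
    have h1 := ih (S ⊓ LinearMap.ker (E a)) fun i hi =>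
      le_inf (hS i (Finset.mem_insert_of_mem hi)) fun w hw =>
        hE' a i (fun h => ha (h ▸ hi)) w hw
    have hdisj : W a ⊓ (S ⊓ LinearMap.ker (E a)) = ⊥ := by
      rw [eq_bot_iff]
      rintro w ⟨hw, -, hw'⟩
      rw [Submodule.mem_bot, ← hE a w hw]
      exact hw'
    have h2 := Submodule.finrank_sup_add_finrank_inf_eq (W a) (S ⊓ LinearMap.ker (E a))
    rw [hdisj, finrank_bot, add_zero] at h2
    have h3 : finrank k ↥(W a ⊔ S ⊓ LinearMap.ker (E a)) ≤ finrank k S :=
      Submodule.finrank_mono (sup_le hSa inf_le_left)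
    omega

theorem dualMap_pow (X : Module.End k M) (b : ℕ) :
    (X ^ b).dualMap = (X.dualMap : Module.End k (Dual k M)) ^ b := by
  induction b with
  | zero => exact LinearMap.dualMap_id
  | succ b ih =>
    rw [pow_succ', pow_succ, ← ih, Module.End.mul_eq_comp, ← LinearMap.dualMap_comp_dualMap]
    rfl

/-- The pairing condition forces `(p + 1) * ∑ dim W i ≤ 2 * dim M`. -/
theorem pairing_bound {ι : Type*} [Fintype ι] (X : Module.End k M) (p : ℕ) (hp : 1 ≤ p)
    (W : ι → Submodule k M) (V : ι → Submodule k (Dual k M))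
    (hW : ∀ i, W i ≤ LinearMap.ker X) (hV : ∀ i, V i ≤ LinearMap.ker X.dualMap)
    (E : ι → Module.End k M) (hE : ∀ i, ∀ w ∈ W i, E i w = w)
    (hE' : ∀ i j, i ≠ j → ∀ w ∈ W j, E i w = 0)
    (F : ι → Module.End k (Dual k M)) (hF : ∀ i, ∀ η ∈ V i, F i η = η)
    (hF' : ∀ i j, i ≠ j → ∀ η ∈ V j, F i η = 0)
    (heq : ∀ i, finrank k (V i) = finrank k (W i))
    (horth : ∀ i, ∀ w ∈ W i, ∀ η ∈ V i, ∀ b, 1 ≤ b → b < p → ∀ q ∈ LinearMap.ker (X ^ b),
      η q • w ∈ LinearMap.range (X ^ (p - b))) :
    (p + 1) * ∑ i, finrank k (W i) ≤ 2 * finrank k M := by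
  classical
  set m0 := ∑ i, finrank k (W i) with hm0
  let c : ℕ → ℕ := fun j => finrank k ↥(LinearMap.ker X ⊓ LinearMap.range (X ^ j))
  let c' : ℕ → ℕ := fun j =>
    finrank k ↥(LinearMap.ker X.dualMap ⊓ LinearMap.range ((X.dualMap : Module.End k _) ^ j))
  have h0 : m0 ≤ c 0 := by
    refine sum_finrank_le_of_separated _ W E hE hE' _ fun i _ => ?_
    simp [Module.End.one_eq_id, hW i]
  have h0' : m0 ≤ c' 0 := by
    rw [hm0, ← Finset.sum_congr rfl fun i _ => heq i]
    refine sum_finrank_le_of_separated _ V F hF hF' _ fun i _ => ?_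
    simp [Module.End.one_eq_id, hV i]
  have hb : ∀ b, 1 ≤ b → b < p → m0 ≤ c (p - b) + c' b := by
    intro b hb1 hb2
    let S := Finset.univ.filter fun i => W i ≤ LinearMap.range (X ^ (p - b))
    have hS' : ∀ i ∈ Sᶜ, V i ≤ LinearMap.range ((X.dualMap : Module.End k _) ^ b) := by
      intro i hi η hη
      have hi' : ¬ W i ≤ LinearMap.range (X ^ (p - b)) := by simpa [S] using hi
      obtain ⟨w, hw, hw'⟩ := SetLike.not_le_iff_exists.1 hi'
      rw [← dualMap_pow, LinearMap.range_dualMap_eq_dualAnnihilator_ker,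
        Submodule.mem_dualAnnihilator]
      intro q hq
      by_contra hne
      apply hw'
      have := horth i w hw η hη b hb1 hb2 q hq
      simpa [smul_smul, inv_mul_cancel₀ hne] using
        Submodule.smul_mem _ (η q)⁻¹ this
    have h1 : ∑ i ∈ S, finrank k (W i) ≤ c (p - b) :=
      sum_finrank_le_of_separated _ W E hE hE' _ fun i hi =>
        le_inf (hW i) (by simpa [S] using hi)
    have h2 : ∑ i ∈ Sᶜ, finrank k (W i) ≤ c' b := by
      rw [← Finset.sum_congr rfl fun i _ => heq i]
      exact sum_finrank_le_of_separated _ V F hF hF' _ fun i hi => le_inf (hV i) (hS' i hi)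
    rw [hm0, ← Finset.sum_add_sum_compl S]
    omega
  obtain ⟨q, rfl⟩ : ∃ q, p = q + 1 := ⟨p - 1, by omega⟩
  have hsum : q * m0 ≤
      ∑ b ∈ Finset.range q, c (b + 1) + ∑ b ∈ Finset.range q, c' (b + 1) := by
    rw [← Finset.sum_range_reflect (fun b => c (b + 1)) q, ← Finset.sum_add_distrib]
    have : q * m0 = ∑ _b ∈ Finset.range q, m0 := by simp
    rw [this]
    refine Finset.sum_le_sum fun b hb' => ?_
    have hbq := Finset.mem_range.1 hb'
    have := hb (b + 1) (by omega) (by omega)
    rwa [show q + 1 - (b + 1) = q - 1 - b + 1 by omega] at this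
  have ht : ∑ j ∈ Finset.range (q + 1), c j ≤ finrank k M := sum_ker_inf_range_le X _
  have ht' : ∑ j ∈ Finset.range (q + 1), c' j ≤ finrank k M :=
    (sum_ker_inf_range_le (X.dualMap : Module.End k _) _).trans_eq Subspace.dual_finrank_eq
  rw [Finset.sum_range_succ'] at ht ht'
  rw [show (q + 1 + 1) * m0 = q * m0 + m0 + m0 by ring]
  omega

/-- A rank one map which is a scalar on the socle of a nilpotent map is zero there. -/
theorem scalar_eq_zero_of_socle (X : Module.End k M) {m : ℕ} (hX : X ^ m = 0)
    (hdim : 1 < finrank k M) (w : M) (η : Dual k M) (hη : ∀ v, η (X v) = 0) (s : k)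
    (hs : ∀ q ∈ LinearMap.ker X, η q • w = s • q) : s = 0 := by
  by_contra hs0
  by_cases hX0 : X = 0
  · have hle : (⊤ : Submodule k M) ≤ Submodule.span k {w} := fun q _ => by
      have hq := hs q (by simp [hX0])
      exact Submodule.mem_span_singleton.2 ⟨s⁻¹ * η q, by rw [mul_smul, hq, inv_smul_smul₀ hs0]⟩
    have := (Submodule.finrank_mono hle).trans (finrank_span_le_card ({w} : Set M))
    rw [finrank_top] at this
    simp at this
    omega
  · obtain ⟨j, hj⟩ : ∃ j, X ^ (j + 1) = 0 ∧ X ^ j ≠ 0 := by
      have hex : ∃ i, X ^ i = 0 := ⟨m, hX⟩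
      classical
      have h := Nat.find_spec hex
      rcases hi : Nat.find hex with _ | j
      · rw [hi, pow_zero] at h
        exact (hX0 (by rw [← mul_one X, h, mul_zero])).elim
      · exact ⟨j, hi ▸ h, Nat.find_min hex (by omega)⟩
    obtain ⟨v, hv⟩ : ∃ v, (X ^ j) v ≠ 0 := by
      by_contra h
      push Not at h
      exact hj.2 (LinearMap.ext h)
    obtain ⟨i, rfl⟩ : ∃ i, j = i + 1 := by
      refine ⟨j - 1, ?_⟩
      rcases j with _ | j
      · exact (hX0 (by simpa using hj.1)).elim
      · omega
    have hker : (X ^ (i + 1)) v ∈ LinearMap.ker X := by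
      rw [LinearMap.mem_ker, ← Module.End.mul_apply, ← pow_succ', hj.1, LinearMap.zero_apply]
    have h := hs _ hker
    rw [pow_succ', Module.End.mul_apply, hη, zero_smul] at h
    apply hv
    rw [pow_succ', Module.End.mul_apply]
    exact (smul_eq_zero.1 h.symm).resolve_left hs0

/-- Iterated differences of conjugation move kernels of powers into images of powers. -/
theorem iterate_conj_sub_mapsTo (x x' : Module.End k M) (h1 : x' * x = 1) (h2 : x * x' = 1)
    (c : Module.End k (Module.End k M)) (hc : ∀ H, c H = x * H * x' - H) (H : Module.End k M)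
    (m a : ℕ) : ∀ q ∈ LinearMap.ker ((x - 1) ^ a),
      (c ^ m) H q ∈ LinearMap.range ((x - 1) ^ (m + 1 - a)) := by
  induction m generalizing a with
  | zero =>
    intro q hq
    rcases a with _ | a
    · have : q = 0 := by simpa using hq
      simp [this]
    · simp [Module.End.one_eq_id]
  | succ m ih =>
    intro q hq
    rcases a with _ | a
    · have : q = 0 := by simpa using hq
      simp [this]
    set X := x - 1 with hX
    set K := (c ^ m) H
    have hcomm : Commute x' X :=
      (((show Commute x' x by rw [Commute, SemiconjBy, h1, h2]).sub_right (Commute.one_right x')))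
    have heq : (c ^ (m + 1)) H = X * (K * x') - K * (x' * X) := by
      rw [pow_succ', Module.End.mul_apply, hc, hX]
      simp only [sub_mul, mul_sub, one_mul, mul_one, h1, mul_assoc]
      abel
    rw [heq, LinearMap.sub_apply]
    refine Submodule.sub_mem _ ?_ ?_
    · have hq' : x' q ∈ LinearMap.ker (X ^ (a + 1)) := by
        rw [LinearMap.mem_ker] at hq ⊢
        rw [← Module.End.mul_apply, ← (hcomm.pow_right (a + 1)).eq, Module.End.mul_apply, hq,
          map_zero]
      obtain ⟨y, hy⟩ := ih (a + 1) _ hq'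
      rw [Module.End.mul_apply, Module.End.mul_apply, ← hy, ← Module.End.mul_apply, ← pow_succ']
      rcases le_or_gt (a + 1) (m + 1) with hle | hlt
      · rw [show m + 1 + 1 - (a + 1) = m + 1 - (a + 1) + 1 by omega]
        exact LinearMap.mem_range_self _ _
      · rw [show m + 1 + 1 - (a + 1) = 0 by omega]
        simp [Module.End.one_eq_id]
    · have hq' : (x' * X) q ∈ LinearMap.ker (X ^ a) := by
        rw [LinearMap.mem_ker] at hq ⊢
        rw [← Module.End.mul_apply, hcomm.eq, ← mul_assoc, ← pow_succ,
          ← (hcomm.pow_right (a + 1)).eq, Module.End.mul_apply, hq, map_zero]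
      have := ih a _ hq'
      rwa [show m + 1 + 1 - (a + 1) = m + 1 - a by omega, Module.End.mul_apply]

/-- In characteristic `p` the sum of the first `p` powers is the `(p - 1)`-st power of the
difference with one. -/
theorem sum_pow_eq_sub_one_pow {B : Type*} [Ring B] [Algebra k B] (p : ℕ) [Fact p.Prime]
    [CharP k p] (c : B) : ∑ i ∈ Finset.range p, c ^ i = (c - 1) ^ (p - 1) := by
  have hp := (Fact.out : p.Prime).pos
  have h : ∑ i ∈ Finset.range p, (Polynomial.X : Polynomial k) ^ i =
      (Polynomial.X - 1) ^ (p - 1) := by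
    apply mul_right_cancel₀ (Polynomial.X_sub_C_ne_zero (1 : k))
    rw [map_one, geom_sum_mul, ← pow_succ, Nat.sub_add_cancel hp, sub_pow_char, one_pow]
  simpa using congrArg (Polynomial.aeval c) h

/-- The trace of conjugation over a cyclic group of order `p` maps `ker (x - 1) ^ b` into the
image of `(x - 1) ^ (p - b)`. -/
theorem sum_conj_mapsTo (p : ℕ) [Fact p.Prime] [CharP k p] (x x' : Module.End k M)
    (h1 : x' * x = 1) (h2 : x * x' = 1) (H : Module.End k M) (b : ℕ) :
    ∀ q ∈ LinearMap.ker ((x - 1) ^ b),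
      (∑ i ∈ Finset.range p, x ^ i * H * x' ^ i) q ∈ LinearMap.range ((x - 1) ^ (p - b)) := by
  intro q hq
  let c : Module.End k (Module.End k M) := LinearMap.mulLeft k x ∘ₗ LinearMap.mulRight k x'
  have hpow : ∀ i, (c ^ i) H = x ^ i * H * x' ^ i := by
    intro i
    induction i with
    | zero => simp
    | succ i ih =>
      rw [pow_succ', Module.End.mul_apply, ih, pow_succ' x, pow_succ x']
      simp [c, mul_assoc]
  have h := iterate_conj_sub_mapsTo x x' h1 h2 (c - 1) (fun K => by simp [c, mul_assoc]) H
    (p - 1) b q hq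
  rw [← sum_pow_eq_sub_one_pow (k := k) p c, Nat.sub_add_cancel (Fact.out : p.Prime).pos,
    LinearMap.sum_apply] at h
  simpa only [hpow] using h

end Telescope

end Cfsg.Agent.H81
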