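import Cfsg.Agent.H81.PiCharacters
import Mathlib.GroupTheory.RegularWreathProduct

/-!
# Wreath products of M-groups with groups of prime order are M-groups
-/

set_option linter.unusedSectionVars false

namespace Cfsg.Agent.H81

open Finset Cfsg.Agent.CharBasic Cfsg.Agent.CharInduce
open scoped ComplexConjugate

universe u

/-- Every irreducible character is monomial. -/
def IsMGroup (M : Type u) [Group M] [Fintype M] : Prop :=
  ∀ χ : M → ℂ, Cfsg.IsIrrCharacter M χ → IsMonomial χ

/-- A monomial character of degree at most `χ 1` with `χ` as a constituent equals `χ`. -/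
theorem isMonomial_of_constituent {W : Type*} [Group W] [Fintype W] {χ : W → ℂ}
    (hχ : Cfsg.IsIrrCharacter W χ) (T : Subgroup W) [Fintype T] (l : T →* ℂˣ)
    (hne : ∑ t : T, χ t * conj ((l t : ℂ)) ≠ 0)
    (hdeg : ∀ n : ℕ, χ 1 = n → T.index ≤ n) : IsMonomial χ := by
  refine ⟨T, l, ?_⟩
  have hF := IsChar.ind T (isCharacter_hom l)
  have hcl := IsIrr.isClassFunction hχ
  have hcon : Cfsg.classInner (Cfsg.indFun T fun h => (l h : ℂ)) χ ≠ 0 := by
    rw [← conj_classInner, classInner_indFun_right T _ χ hcl, classInner_def]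
    intro h
    have h' := congrArg conj h
    rw [Complex.conj_conj, map_zero, mul_eq_zero] at h'
    exact hne (h'.resolve_left (inv_ne_zero (Nat.cast_ne_zero.2 Nat.card_pos.ne')))
  obtain ⟨r, hr, he⟩ := IsChar.exists_eq_add hF hχ hcon
  have h1 := congrFun he 1
  rw [indFun_one, map_one, Units.val_one, mul_one, Pi.add_apply] at h1
  obtain ⟨n, -, hn⟩ := IsIrr.exists_degree hχ
  obtain ⟨m, hm⟩ := IsChar.exists_degree hr
  rw [hn, hm, ← Nat.cast_add, Nat.cast_inj] at h1
  have hm0 : m = 0 := by
    have := hdeg n hn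
    omega
  have hr0 : r = 0 := IsChar.eq_zero_of_one_eq_zero hr (by rw [hm, hm0, Nat.cast_zero])
  rw [he, hr0, add_zero]

/-- Distinct constituents of a character have degrees adding up to at most its degree. -/
theorem sum_degree_le {B : Type*} [Group B] [Fintype B] {ι : Type*} [DecidableEq ι] (s : Finset ι)
    (φ : ι → B → ℂ) (d : ι → ℕ) (hφ : ∀ i, Cfsg.IsIrrCharacter B (φ i))
    (hd : ∀ i, φ i 1 = d i) (hinj : Function.Injective φ) :
    ∀ (f : B → ℂ), Cfsg.IsCharacter B f → (∀ i ∈ s, Cfsg.classInner f (φ i) ≠ 0) →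
      ∀ n : ℕ, f 1 = n → ∑ i ∈ s, d i ≤ n := by
  induction s using Finset.induction_on with
  | empty => simp
  | insert a s ha ih =>
    intro f hf hne n hn
    obtain ⟨r, hr, he⟩ := IsChar.exists_eq_add hf (hφ a) (hne a (Finset.mem_insert_self a s))
    obtain ⟨m, hm⟩ := IsChar.exists_degree hr
    have h := ih r hr (fun i hi => by
      have h1 := hne i (Finset.mem_insert_of_mem hi)
      rwa [he, classInner_add_left, classInner_irr_of_ne (hφ a) (hφ i)
        (fun e => ha (hinj e ▸ hi)), zero_add] at h1) m hm
    rw [he, Pi.add_apply, hd, hm, ← Nat.cast_add, Nat.cast_inj] at hn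
    rw [Finset.sum_insert ha]
    omega

variable {M Q : Type u} [Group M] [Fintype M] [Group Q] [Fintype Q]

/-- The base group of a regular wreath product. -/
def baseHom : (Q → M) →* RegularWreathProduct M Q where
  toFun b := ⟨b, 1⟩
  map_one' := rfl
  map_mul' a b := by ext <;> simp

theorem wreath_conj_base (a : Q) (b : Q → M) :
    RegularWreathProduct.inl a * baseHom b * (RegularWreathProduct.inl a)⁻¹ =
      baseHom (fun q => b (a⁻¹ * q)) := by
  ext <;> simp [baseHom]

/-- The regular wreath product of an M-group by a group of prime order is an M-group. -/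
theorem isMGroup_wreath {p : ℕ} [hp : Fact p.Prime] (hQ : Nat.card Q = p) (hM : IsMGroup M)
    [Fintype (RegularWreathProduct M Q)] : IsMGroup (RegularWreathProduct M Q) := by
  classical
  intro χ hχ
  have hχc := IsIrr.isCharacter hχ
  have hcl := IsIrr.isClassFunction hχ
  set f : (Q → M) → ℂ := fun b => χ (baseHom b) with hf
  have hfc : Cfsg.IsCharacter (Q → M) f := IsChar.comp hχc baseHom
  have hf0 : f ≠ 0 := fun h => IsIrr.one_ne_zero hχ (by
    have h1 := congrFun h 1
    simpa [hf] using h1)
  obtain ⟨⟨θ, hθ⟩, hθne⟩ := exists_constituent hfc hf0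
  obtain ⟨ψ, hψ⟩ := exists_piChar_eq M Q hθ
  choose H l hHl using fun q => hM (ψ q : M → ℂ) (ψ q).2
  have hne0 : Cfsg.classInner f (piChar fun q => Cfsg.indFun (H q) fun h => (l q h : ℂ)) ≠ 0 := by
    have e : θ = piChar fun q => Cfsg.indFun (H q) fun h => (l q h : ℂ) := by
      rw [hψ]; exact congrArg piChar (funext fun q => hHl q)
    exact e ▸ hθne
  haveI : Fintype (∀ q, H q) := Fintype.ofFinite _
  have hsum := sum_piSubgroup_ne_zero (IsChar.isClassFunction hfc) H
    (fun q h => (l q h : ℂ)) hne0
  have hdegθ : θ 1 = ((∏ q, (H q).index : ℕ) : ℂ) := by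
    rw [hψ]
    simp only [piChar, Pi.one_apply]
    push_cast
    refine Finset.prod_congr rfl fun q _ => ?_
    rw [hHl q, indFun_one, map_one, Units.val_one, mul_one]
  have hp0 : (p : ℂ) ≠ 0 := Nat.cast_ne_zero.2 hp.out.ne_zero
  have hcardW : Nat.card (RegularWreathProduct M Q) = Nat.card M ^ p * p := by
    rw [RegularWreathProduct.card, hQ]
  -- translates of `θ`
  let θc : Q → (Q → M) → ℂ := fun a b => θ (fun q => b (a * q))
  have hθcirr : ∀ a, Cfsg.IsIrrCharacter (Q → M) (θc a) := fun a =>
    IsIrr.comp hθ (Pi.monoidHom fun q => Pi.evalMonoidHom (fun _ => M) (a * q))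
      fun b => ⟨fun q => b (a⁻¹ * q), funext fun q => congrArg b (inv_mul_cancel_left a q)⟩
  have hθcne : ∀ a, Cfsg.classInner f (θc a) ≠ 0 := by
    intro a
    have hfa : ∀ b : Q → M, f (fun q => b (a⁻¹ * q)) = f b := fun b => by
      simp only [hf]
      rw [← wreath_conj_base, hcl]
    have e : Cfsg.classInner f (θc a) = Cfsg.classInner f θ := by
      rw [classInner_def, classInner_def]
      congr 1
      refine Fintype.sum_equiv
        { toFun := fun b q => b (a * q)
          invFun := fun b q => b (a⁻¹ * q)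
          left_inv := fun b => funext fun q => by simp
          right_inv := fun b => funext fun q => by simp } _ _ fun b => ?_
      show f b * conj (θ fun q => b (a * q)) = f (fun q => b (a * q)) * conj (θ fun q => b (a * q))
      have h := hfa (fun q => b (a * q))
      simp only [mul_inv_cancel_left] at h
      rw [h]
    rw [e]
    exact hθne
  by_cases hfree : ∀ a : Q, θc a = θ → a = 1
  · -- free orbit
    let S : Subgroup (Q → M) := Subgroup.pi Set.univ H
    haveI : Fintype (S.map baseHom) := Fintype.ofFinite _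
    let T : Subgroup (RegularWreathProduct M Q) :=
      { carrier := {w | w.right = 1 ∧ ∀ q, w.left q ∈ H q}
        mul_mem' := fun {v w} hv hw => ⟨by simp [hv.1, hw.1], fun q => by
          simpa [hv.1] using (H q).mul_mem (hv.2 q) (hw.2 q)⟩
        one_mem' := ⟨rfl, fun q => (H q).one_mem⟩
        inv_mem' := fun {v} hv => ⟨by simp [hv.1], fun q => by
          simpa [hv.1] using hv.2 q⟩ }
    haveI : Fintype T := Fintype.ofFinite T
    let L : T →* ℂˣ :=
      { toFun := fun w => ∏ q, l q ⟨(w : (RegularWreathProduct M Q)).left q, w.2.2 q⟩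
        map_one' := Finset.prod_eq_one fun q _ => map_one (l q)
        map_mul' := fun v w => by
          rw [← Finset.prod_mul_distrib]
          refine Finset.prod_congr rfl fun q _ => ?_
          rw [← map_mul]
          congr 1
          exact Subtype.ext (by simp [v.2.1]) }
    let eT : (∀ q, H q) ≃ T :=
      { toFun := fun h => ⟨baseHom fun q => (h q : M), rfl, fun q => (h q).2⟩
        invFun := fun w q => ⟨(w : (RegularWreathProduct M Q)).left q, w.2.2 q⟩
        left_inv := fun h => rfl
        right_inv := fun w => Subtype.ext (RegularWreathProduct.ext rfl w.2.1.symm) }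
    refine isMonomial_of_constituent hχ T L ?_ fun n hn => ?_
    · convert hsum using 1
      refine (Fintype.sum_equiv eT _ _ fun h => ?_).symm
      simp [L, eT, f, baseHom, Units.coe_prod]
    · have hidx : T.index = p * ∏ q, (H q).index := by
        refine Nat.eq_of_mul_eq_mul_left (Nat.card_pos (α := T)) ?_
        rw [Subgroup.card_mul_index, hcardW, ← Nat.card_congr eT, Nat.card_pi, mul_left_comm,
          ← Finset.prod_mul_distrib, Finset.prod_congr rfl fun q _ => (H q).card_mul_index,
          Finset.prod_const, Finset.card_univ, ← Nat.card_eq_fintype_card, hQ, mul_comm]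
      have hinj : Function.Injective θc := by
        intro a a' h
        have h' : θc (a⁻¹ * a') = θ := by
          funext b
          have := congrFun h (fun q => b (a⁻¹ * q))
          simp only [θc, inv_mul_cancel_left] at this
          simpa [θc, mul_assoc] using this.symm
        exact inv_mul_eq_one.1 (hfree _ h')
      have h := sum_degree_le Finset.univ θc (fun _ => ∏ q, (H q).index) hθcirr
        (fun a => hdegθ) hinj f hfc (fun a _ => hθcne a) n (by simp [hf, hn])
      rw [hidx, ← hQ, Nat.card_eq_fintype_card, ← Finset.card_univ]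
      simpa using h
  · -- invariant constituent
    push Not at hfree
    obtain ⟨a, ha, ha1⟩ := hfree
    have hinv : ∀ c, θc c = θ := by
      intro c
      have hc : c ∈ Subgroup.zpowers a := mem_zpowers_of_prime_card hQ ha1
      obtain ⟨i, rfl⟩ := mem_powers_iff_mem_zpowers.2 hc
      dsimp only
      induction i with
      | zero => funext b; simp [θc]
      | succ i ih =>
        funext b
        have h1 := congrFun (ih (Subgroup.npow_mem_zpowers a i)) fun q => b (a * q)
        have h2 := congrFun ha b
        simp only [θc] at h1 h2 ⊢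
        simp only [pow_succ', mul_assoc]
        rw [h1]
        exact h2
    have hψeq : ∀ c, ψ c = ψ 1 := by
      intro c
      set P1 := ∏ q ∈ Finset.univ.erase (1 : Q), (ψ q : M → ℂ) 1
      set P2 := ∏ q ∈ Finset.univ.erase c, (ψ q : M → ℂ) 1
      have key : ∀ m : M, (ψ 1 : M → ℂ) m * P1 = (ψ c : M → ℂ) m * P2 := by
        intro m
        have h := congrFun (hinv c) (Pi.mulSingle c m)
        simp only [θc, hψ, piChar] at h
        rw [← Finset.mul_prod_erase _ _ (Finset.mem_univ (1 : Q)),
          ← Finset.mul_prod_erase _ _ (Finset.mem_univ c), mul_one, Pi.mulSingle_eq_same] at h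
        have e1 : ∀ q ∈ Finset.univ.erase (1 : Q),
            (ψ q : M → ℂ) ((Pi.mulSingle c m : Q → M) (c * q)) = (ψ q : M → ℂ) 1 := fun q hq => by
          rw [Pi.mulSingle_eq_of_ne]
          simpa using (Finset.mem_erase.1 hq).1
        have e2 : ∀ q ∈ Finset.univ.erase c,
            (ψ q : M → ℂ) ((Pi.mulSingle c m : Q → M) q) = (ψ q : M → ℂ) 1 := fun q hq => by
          rw [Pi.mulSingle_eq_of_ne (Finset.mem_erase.1 hq).1]
        rw [Finset.prod_congr rfl e1, Finset.prod_congr rfl e2] at h
        exact h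
      by_contra hne
      have h0 := classInner_irr_of_ne (ψ c).2 (ψ 1).2 fun e => hne (Subtype.ext e)
      have hP1 : P1 ≠ 0 := Finset.prod_ne_zero_iff.2 fun q _ => IsIrr.one_ne_zero (ψ q).2
      have h1 := classInner_irr_self (ψ 1).2
      have hfun : (ψ 1 : M → ℂ) = (P2 / P1) • (ψ c : M → ℂ) := by
        funext m
        rw [Pi.smul_apply, smul_eq_mul, div_mul_eq_mul_div, eq_div_iff hP1, key, mul_comm]
      have h2 : Cfsg.classInner ((P2 / P1) • (ψ c : M → ℂ)) (ψ 1 : M → ℂ) = 1 := hfun ▸ h1
      rw [classInner_smul_left, h0, mul_zero] at h2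
      exact zero_ne_one h2
    -- the subgroup `H₀ ≀ Q`
    let T : Subgroup (RegularWreathProduct M Q) :=
      { carrier := {w | ∀ q, w.left q ∈ H 1}
        mul_mem' := fun {v w} hv hw q => by simpa using (H 1).mul_mem (hv q) (hw _)
        one_mem' := fun q => (H 1).one_mem
        inv_mem' := fun {v} hv q => by simpa using hv (v.right * q) }
    haveI : Fintype T := Fintype.ofFinite T
    let L : (Q →* ℂˣ) → T →* ℂˣ := fun μ =>
      { toFun := fun w => (∏ q, l 1 ⟨(w : (RegularWreathProduct M Q)).left q, w.2 q⟩) * μ (w : (RegularWreathProduct M Q)).right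
        map_one' := by
          rw [Finset.prod_eq_one fun q _ => ?_]
          · simp
          · exact map_one (l 1)
        map_mul' := fun v w => by
          rw [mul_mul_mul_comm, ← map_mul μ]
          congr 1
          rw [← Fintype.prod_equiv (Equiv.mulLeft ((v : (RegularWreathProduct M Q)).right)⁻¹)
            (fun q => l 1 ⟨(w : (RegularWreathProduct M Q)).left ((v : (RegularWreathProduct M Q)).right⁻¹ * q), w.2 _⟩)
            (fun q => l 1 ⟨(w : (RegularWreathProduct M Q)).left q, w.2 q⟩) fun q => rfl, ← Finset.prod_mul_distrib]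
          refine Finset.prod_congr rfl fun q _ => ?_
          rw [← map_mul]
          congr 1 }
    have hidxT : T.index = ∏ q, (H q).index := by
      have hH : ∀ q, (H q).index = (H 1).index := by
        intro q
        have e1 := indFun_one (H q) fun h => (l q h : ℂ)
        have e2 := indFun_one (H 1) fun h => (l 1 h : ℂ)
        rw [← hHl q, map_one, Units.val_one, mul_one] at e1
        rw [← hHl 1, map_one, Units.val_one, mul_one, ← hψeq q, e1] at e2
        exact_mod_cast e2
      refine Nat.eq_of_mul_eq_mul_left (Nat.card_pos (α := T)) ?_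
      let eT : T ≃ (Q → H 1) × Q :=
        { toFun := fun w => (fun q => ⟨(w : (RegularWreathProduct M Q)).left q, w.2 q⟩, (w : (RegularWreathProduct M Q)).right)
          invFun := fun x => ⟨⟨fun q => x.1 q, x.2⟩, fun q => (x.1 q).2⟩
          left_inv := fun w => rfl
          right_inv := fun x => rfl }
      rw [Subgroup.card_mul_index, hcardW, Nat.card_congr eT, Nat.card_prod, Nat.card_fun, hQ,
        Finset.prod_congr rfl fun q _ => hH q, Finset.prod_const, Finset.card_univ,
        ← Nat.card_eq_fintype_card, hQ, mul_right_comm, ← mul_pow, Subgroup.card_mul_index]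
    by_contra hnon
    have hzero : ∀ μ : Q →* ℂˣ, ∑ w : T, χ w * conj ((L μ w : ℂ)) = 0 := by
      intro μ
      by_contra h
      refine hnon (isMonomial_of_constituent hχ T (L μ) h fun n hn => ?_)
      rw [hidxT]
      have h := sum_degree_le {()} (fun _ : Unit => θ) (fun _ => ∏ q, (H q).index)
        (fun _ => hθ) (fun _ => hdegθ) (fun _ _ _ => rfl) f hfc (fun _ _ => hθne) n
        (by simp [hf, hn])
      simpa using h
    haveI : IsCyclic Q := isCyclic_of_prime_card hQ
    letI := IsCyclic.commGroup (α := Q)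
    haveI : Fintype (Q →* ℂˣ) := Fintype.ofFinite _
    have hμsum : ∀ r : Q, ∑ μ : Q →* ℂˣ, ((μ r : ℂˣ) : ℂ) =
        if r = 1 then (Nat.card Q : ℂ) else 0 := by
      intro r
      haveI : NeZero (Monoid.exponent Q) := ⟨Monoid.exponent_ne_zero_of_finite⟩
      split_ifs with hr
      · subst hr
        simp only [map_one, Units.val_one, Finset.sum_const, Finset.card_univ, nsmul_eq_mul,
          mul_one]
        rw [← Nat.card_eq_fintype_card,
          Nat.card_congr (CommGroup.monoidHom_mulEquiv_of_hasEnoughRootsOfUnity Q ℂ).some.toEquiv]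
      · obtain ⟨μ₀, hμ₀⟩ := CommGroup.exists_apply_ne_one_of_hasEnoughRootsOfUnity Q ℂ hr
        have h : ((μ₀ r : ℂˣ) : ℂ) * ∑ μ : Q →* ℂˣ, ((μ r : ℂˣ) : ℂ) =
            ∑ μ : Q →* ℂˣ, ((μ r : ℂˣ) : ℂ) := by
          rw [Finset.mul_sum]
          exact Fintype.sum_equiv (Equiv.mulLeft μ₀) _ _ fun μ => by simp
        rw [← sub_eq_zero, ← sub_one_mul, mul_eq_zero] at h
        exact h.resolve_left fun h1 => hμ₀ (Units.ext (sub_eq_zero.1 h1))
    have hne1 : Cfsg.classInner f (piChar fun _ : Q => Cfsg.indFun (H 1) fun h => (l 1 h : ℂ)) ≠ 0 := by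
      have e : θ = piChar fun _ : Q => Cfsg.indFun (H 1) fun h => (l 1 h : ℂ) := by
        rw [hψ]; exact congrArg piChar (funext fun q => by rw [hψeq q]; exact hHl 1)
      exact e ▸ hθne
    haveI : Fintype (Q → H 1) := Fintype.ofFinite _
    have hsum1 := sum_piSubgroup_ne_zero (IsChar.isClassFunction hfc) (fun _ => H 1)
      (fun _ h => (l 1 h : ℂ)) hne1
    let eT : (Q → H 1) × Q ≃ T :=
      { toFun := fun x => ⟨⟨fun q => x.1 q, x.2⟩, fun q => (x.1 q).2⟩
        invFun := fun w => (fun q => ⟨(w : (RegularWreathProduct M Q)).left q, w.2 q⟩, (w : (RegularWreathProduct M Q)).right)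
        left_inv := fun x => rfl
        right_inv := fun w => rfl }
    have htot : ∑ μ : Q →* ℂˣ, ∑ w : T, χ w * conj ((L μ w : ℂ)) = 0 :=
      Finset.sum_eq_zero fun μ _ => hzero μ
    rw [Finset.sum_comm, ← eT.sum_comp, Fintype.sum_prod_type] at htot
    refine hsum1 (mul_left_cancel₀ (Nat.cast_ne_zero.2 (Nat.card_pos (α := Q)).ne') ?_)
    rw [mul_zero, ← htot, Finset.mul_sum]
    refine Finset.sum_congr rfl fun b _ => ?_
    have hterm : ∀ r : Q, ∑ μ : Q →* ℂˣ,
        χ ((eT (b, r) : T) : (RegularWreathProduct M Q)) * conj ((L μ (eT (b, r)) : ℂ)) =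
          if r = 1 then (Nat.card Q : ℂ) * (χ ((eT (b, r) : T) : (RegularWreathProduct M Q)) *
            conj (∏ q, (l 1 (b q) : ℂ))) else 0 := by
      intro r
      have e : ∀ μ : Q →* ℂˣ, χ ((eT (b, r) : T) : (RegularWreathProduct M Q)) * conj ((L μ (eT (b, r)) : ℂ)) =
          χ ((eT (b, r) : T) : (RegularWreathProduct M Q)) * conj (∏ q, (l 1 (b q) : ℂ)) * conj ((μ r : ℂˣ) : ℂ) := fun μ => by
        show χ _ * conj ((((∏ q, l 1 (b q)) * μ r : ℂˣ)) : ℂ) = _
        rw [Units.val_mul, Units.coe_prod, map_mul]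
        ring
      rw [Finset.sum_congr rfl fun μ _ => e μ, ← Finset.mul_sum, ← map_sum, hμsum]
      split_ifs with hr
      · rw [Complex.conj_natCast]; ring
      · simp
    rw [Finset.sum_congr rfl fun r _ => hterm r, Finset.sum_ite_eq']
    simp [eT, f, baseHom]

end Cfsg.Agent.H81
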