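import Cfsg.Agent.H81.ThreeOrder
import Cfsg.Agent.Fusion.Basic
import Mathlib.GroupTheory.Sylow
import Mathlib.GroupTheory.GroupAction.CardCommute

/-!
# Simple groups with a self-centralizing Sylow subgroup of order nine
-/

open scoped ComplexConjugate

namespace Cfsg.Agent.H81.NineSylow

open CharBasic BlockBasic SimpleDegree

universe u

/-! ## Two integral columns of norm nine -/

theorem columns {ι : Type*} [Fintype ι] [DecidableEq ι] {a b d : ι → ℤ} {t : ι}
    (ha : ∑ i, a i * a i = 9) (hb : ∑ i, b i * b i = 9) (hab : ∑ i, a i * b i = 0)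
    (hda : ∑ i, d i * a i = 0) (hdb : ∑ i, d i * b i = 0) (hd : ∀ i, 0 < d i)
    (ht : a t = 1 ∧ b t = 1) (hmod : ∀ i, (3 : ℤ) ∣ a i - b i) :
    ∃ (i j : ι) (σ : ℤ), i ≠ j ∧ i ≠ t ∧ j ≠ t ∧ (σ = 1 ∨ σ = -1) ∧
      (a i = 2 * σ ∧ b i = -σ) ∧ (a j = -σ ∧ b j = 2 * σ) ∧ d i = d j ∧
      (∀ k, k ≠ i → k ≠ j → b k = a k ∧ -1 ≤ a k ∧ a k ≤ 1) ∧
      ∑ k ∈ ((Finset.univ.erase t).erase i).erase j, a k * a k = 3 := by
  choose w hw using hmod
  have hw2 : ∑ i, w i * w i = 2 := by
    have h : 9 * ∑ i, w i * w i = 18 := by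
      have h' : ∀ i, 9 * (w i * w i) = a i * a i + b i * b i - 2 * (a i * b i) := fun i => by
        linear_combination -(a i - b i + 3 * w i) * hw i
      rw [Finset.mul_sum, Finset.sum_congr rfl fun i _ => h' i, Finset.sum_sub_distrib,
        Finset.sum_add_distrib, ← Finset.mul_sum, ha, hb, hab]
      norm_num
    omega
  have hwd : ∑ i, d i * w i = 0 := by
    have h : 3 * ∑ i, d i * w i = 0 := by
      have h' : ∀ i, 3 * (d i * w i) = d i * a i - d i * b i := fun i => by
        linear_combination -(d i) * hw i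
      rw [Finset.mul_sum, Finset.sum_congr rfl fun i _ => h' i, Finset.sum_sub_distrib, hda, hdb,
        sub_zero]
    omega
  have hwv : ∑ i, w i * (a i + b i) = 0 := by
    have h : 3 * ∑ i, w i * (a i + b i) = 0 := by
      have h' : ∀ i, 3 * (w i * (a i + b i)) = a i * a i - b i * b i := fun i => by
        linear_combination -(a i + b i) * hw i
      rw [Finset.mul_sum, Finset.sum_congr rfl fun i _ => h' i, Finset.sum_sub_distrib, ha, hb]
      norm_num
    omega
  -- exactly two non-zero entries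
  obtain ⟨i, -, hi⟩ := Finset.exists_ne_zero_of_sum_ne_zero (by rw [hw2]; norm_num :
    ∑ i, w i * w i ≠ 0)
  rw [mul_self_ne_zero] at hi
  have hi2 : w i * w i ≤ 2 := by
    rw [← hw2]
    exact Finset.single_le_sum (f := fun i => w i * w i) (fun k _ => mul_self_nonneg _)
      (Finset.mem_univ i)
  have hi1 : w i = 1 ∨ w i = -1 := by
    have h1 : -1 ≤ w i := by nlinarith
    have h2 : w i ≤ 1 := by nlinarith
    omega
  have hrest : ∑ k ∈ Finset.univ.erase i, w k * w k = 1 := by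
    have h := Finset.add_sum_erase Finset.univ (fun k => w k * w k) (Finset.mem_univ i)
    simp only [hw2] at h
    rcases hi1 with h1 | h1 <;> rw [h1] at h <;> linarith
  obtain ⟨j, hjmem, hj⟩ := Finset.exists_ne_zero_of_sum_ne_zero (by rw [hrest]; norm_num :
    ∑ k ∈ Finset.univ.erase i, w k * w k ≠ 0)
  rw [mul_self_ne_zero] at hj
  have hji : j ≠ i := (Finset.mem_erase.1 hjmem).1
  have hj1 : w j = 1 ∨ w j = -1 := by
    have hj2 : w j * w j ≤ 1 := by
      rw [← hrest]
      exact Finset.single_le_sum (f := fun i => w i * w i) (fun k _ => mul_self_nonneg _) hjmem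
    have h1 : -1 ≤ w j := by nlinarith
    have h2 : w j ≤ 1 := by nlinarith
    omega
  have hzero : ∀ k, k ≠ i → k ≠ j → w k = 0 := by
    intro k hki hkj
    have h := Finset.sum_le_sum_of_subset_of_nonneg (f := fun i => w i * w i)
      (s := ({j, k} : Finset ι)) (t := Finset.univ.erase i)
      (by
        intro x hx
        simp only [Finset.mem_insert, Finset.mem_singleton] at hx
        rcases hx with rfl | rfl <;> simp [hki, hji])
      (fun k _ _ => mul_self_nonneg _)
    rw [Finset.sum_pair (Ne.symm hkj), hrest] at h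
    have h1 : w j * w j = 1 := by rcases hj1 with h | h <;> rw [h] <;> norm_num
    have h2 : w k * w k ≤ 0 := by linarith
    exact mul_self_eq_zero.1 (le_antisymm h2 (mul_self_nonneg _))
  have htwo : ∀ f : ι → ℤ, (∀ k, k ≠ i → k ≠ j → f k = 0) → ∑ k, f k = f i + f j := fun f hf =>
    Finset.sum_eq_add i j hji.symm (fun k _ hk => hf k hk.1 hk.2) (by simp) (by simp)
  rw [htwo _ fun k h1 h2 => by rw [hzero k h1 h2, mul_zero]] at hwd
  rw [htwo _ fun k h1 h2 => by rw [hzero k h1 h2, zero_mul]] at hwv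
  have hdi := hd i
  have hdj := hd j
  -- the two exceptional entries
  obtain ⟨I, J, hIJ, hI, hJ, hDIJ, hsum, hother⟩ : ∃ I J : ι, I ≠ J ∧ w I = 1 ∧ w J = -1 ∧
      d I = d J ∧ a I + b I = a J + b J ∧ ∀ k, k ≠ I → k ≠ J → w k = 0 := by
    rcases hi1 with h1 | h1 <;> rcases hj1 with h2 | h2 <;> rw [h1, h2] at hwd hwv
    · omega
    · exact ⟨i, j, hji.symm, h1, h2, by omega, by omega, hzero⟩
    · exact ⟨j, i, hji, h2, h1, by omega, by omega, fun k h h' => hzero k h' h⟩
    · omega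
  have htw : w t = 0 := by
    have := hw t
    omega
  have htI : I ≠ t := fun h => by rw [h, htw] at hI; omega
  have htJ : J ≠ t := fun h => by rw [h, htw] at hJ; omega
  have hIa := hw I
  have hJa := hw J
  rw [hI] at hIa
  rw [hJ] at hJa
  have hsplit : ∀ f : ι → ℤ, ∑ k, f k =
      f t + f I + f J + ∑ k ∈ ((Finset.univ.erase t).erase I).erase J, f k := by
    intro f
    rw [← Finset.add_sum_erase _ f (Finset.mem_univ t),
      ← Finset.add_sum_erase _ f (Finset.mem_erase.2 ⟨htI, Finset.mem_univ I⟩),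
      ← Finset.add_sum_erase _ f
        (Finset.mem_erase.2 ⟨hIJ.symm, Finset.mem_erase.2 ⟨htJ, Finset.mem_univ J⟩⟩)]
    ring
  have hna := hsplit fun k => a k * a k
  simp only [ha, ht.1] at hna
  have hnn : 0 ≤ ∑ k ∈ ((Finset.univ.erase t).erase I).erase J, a k * a k :=
    Finset.sum_nonneg fun k _ => mul_self_nonneg _
  obtain ⟨p, hp⟩ : ∃ p, b I = p := ⟨_, rfl⟩
  have eI : a I = p + 3 := by omega
  have eJ : a J = p := by omega
  have eJ' : b J = p + 3 := by omega
  rw [eI, eJ] at hna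
  have hp1 : -2 ≤ p := by nlinarith
  have hp2 : p ≤ -1 := by nlinarith
  have hrem : ∑ k ∈ ((Finset.univ.erase t).erase I).erase J, a k * a k = 3 := by
    interval_cases p <;> linarith
  have hoth : ∀ k, k ≠ I → k ≠ J → b k = a k ∧ -1 ≤ a k ∧ a k ≤ 1 := by
    intro k h1 h2
    refine ⟨by have := hw k; rw [hother k h1 h2] at this; omega, ?_⟩
    by_cases hkt : k = t
    · rw [hkt, ht.1]; omega
    · have h3 : a k * a k ≤ 3 := by
        rw [← hrem]
        exact Finset.single_le_sum (f := fun k => a k * a k) (fun k _ => mul_self_nonneg _)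
          (Finset.mem_erase.2 ⟨h2, Finset.mem_erase.2
            ⟨h1, Finset.mem_erase.2 ⟨hkt, Finset.mem_univ k⟩⟩⟩)
      constructor <;> nlinarith
  interval_cases p
  · refine ⟨J, I, -1, hIJ.symm, htJ, htI, Or.inr rfl, ⟨eJ, eJ'⟩, ⟨eI, hp⟩, hDIJ.symm,
      fun k h1 h2 => hoth k h2 h1, ?_⟩
    rw [Finset.erase_right_comm]
    exact hrem
  · exact ⟨I, J, 1, hIJ, htI, htJ, Or.inl rfl, ⟨eI, hp⟩, ⟨eJ, eJ'⟩, hDIJ, hoth, hrem⟩

/-! ## The triangle trick -/

/-- Two elements of order three with product of order three are conjugate or commute, if the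
centralizers of such elements are elementary abelian three-groups. -/
theorem conj_or_commute {G : Type u} [Group G] [Finite G]
    (hC : ∀ c : G, c ≠ 1 → c ^ 3 = 1 → ∀ v w : G, Commute v c → Commute w c →
      Commute v w ∧ v ^ 3 = 1)
    {x y : G} (hx1 : x ≠ 1) (hx : x ^ 3 = 1) (hy : y ^ 3 = 1) (hxy : (x * y) ^ 3 = 1) :
    IsConj x y ∨ Commute x y := by
  classical
  have hxinv : x⁻¹ = x * x := inv_eq_of_mul_eq_one_right (by rw [← pow_three]; exact hx)
  have hxx : x⁻¹ * x⁻¹ = x := by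
    calc x⁻¹ * x⁻¹ = x * (x * x) * x := by rw [hxinv]; group
      _ = x := by rw [← pow_three, hx, one_mul]
  set a₀ := x⁻¹ * y with h₀
  set a₁ := y * x⁻¹ with h₁
  set a₂ := x * y * x with h₂
  have e1 : a₁ * a₂ * a₀ = 1 := by
    calc a₁ * a₂ * a₀ = y * (y * y) := by rw [h₀, h₁, h₂]; group
      _ = 1 := by rw [← pow_three, hy]
  have e2 : a₂ * a₁ * a₀ = 1 := by
    calc a₂ * a₁ * a₀ = x * y * x * y * (x⁻¹ * x⁻¹) * y := by rw [h₀, h₁, h₂]; group
      _ = x * y * (x * y * (x * y)) := by rw [hxx]; group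
      _ = 1 := by rw [← pow_three, hxy]
  have h12 : Commute a₁ a₂ := mul_right_cancel (e1.trans e2.symm)
  have h2' : a₂ = a₁⁻¹ * a₀⁻¹ := by
    rw [eq_comm, ← mul_left_inj a₀, ← mul_right_inj a₁]
    rw [show a₁ * (a₂ * a₀) = 1 by rw [← mul_assoc, e1]]
    group
  have h01 : Commute a₀ a₁ := by
    have h := h12.eq
    rw [h2'] at h
    have h' : a₀⁻¹ = a₁⁻¹ * a₀⁻¹ * a₁ := by rw [← h]; group
    have : a₀ * a₁ = a₁ * a₀ := by
      calc a₀ * a₁ = a₀ * a₁ * (a₀⁻¹ * a₀) := by group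
        _ = a₀ * a₁ * ((a₁⁻¹ * a₀⁻¹ * a₁) * a₀) := by rw [← h']
        _ = a₁ * a₀ := by group
    exact this
  let A := Subgroup.closure ({a₀, a₁} : Set G)
  have hA0 : a₀ ∈ A := Subgroup.subset_closure (by simp)
  have hA1 : a₁ ∈ A := Subgroup.subset_closure (by simp)
  have hA2 : a₂ ∈ A := h2' ▸ mul_mem (inv_mem hA1) (inv_mem hA0)
  have hAc : IsMulCommutative A := Subgroup.isMulCommutative_closure (by
    rintro v (rfl | rfl) w (rfl | rfl) <;> first | rfl | exact h01.eq | exact h01.symm.eq)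
  have hcom : ∀ v ∈ A, ∀ w ∈ A, v * w = w * v := fun v hv w hw =>
    congrArg Subtype.val (hAc.is_comm.comm (⟨v, hv⟩ : A) ⟨w, hw⟩)
  have hinv : A ≤ A.comap (MulAut.conj x⁻¹).toMonoidHom := by
    refine (Subgroup.closure_le _).2 ?_
    rintro v (rfl | rfl) <;>
      simp only [SetLike.mem_coe, Subgroup.mem_comap, MulEquiv.coe_toMonoidHom, MulAut.conj_apply,
        inv_inv]
    · rw [show x⁻¹ * a₀ * x = a₂ by
        calc x⁻¹ * a₀ * x = x⁻¹ * x⁻¹ * y * x := by rw [h₀]; group
          _ = a₂ := by rw [hxx, h₂]]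
      exact hA2
    · rw [show x⁻¹ * a₁ * x = a₀ by rw [h₀, h₁]; group]
      exact hA0
  let f : A → A := fun v => ⟨x⁻¹ * v * x * (v : G)⁻¹, mul_mem
    (by simpa [MulAut.conj_apply] using hinv v.2) (inv_mem v.2)⟩
  by_cases hfix : ∃ c ∈ A, c ≠ 1 ∧ Commute c x
  · obtain ⟨c, hcA, hc1, hcx⟩ := hfix
    have hc3 : c ^ 3 = 1 := (hC x hx1 hx c x hcx (Commute.refl x)).2
    have h := (hC c hc1 hc3 x a₀ hcx.symm (hcom a₀ hA0 c hcA)).1
    refine Or.inr ?_
    rw [show y = x * a₀ by rw [h₀]; group]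
    exact (Commute.refl x).mul_right h
  · refine Or.inl ?_
    push Not at hfix
    have hinj : Function.Injective f := by
      intro v w h
      have h' : x⁻¹ * v * x * (v : G)⁻¹ = x⁻¹ * w * x * (w : G)⁻¹ := congrArg Subtype.val h
      have hx' : x⁻¹ * (w : G) * x ∈ A := by simpa [MulAut.conj_apply] using hinv w.2
      have h3 : x⁻¹ * ((w : G)⁻¹ * v) * x = (w : G)⁻¹ * v := by
        calc x⁻¹ * ((w : G)⁻¹ * v) * x
            = (x⁻¹ * w * x)⁻¹ * (x⁻¹ * v * x * (v : G)⁻¹) * v := by group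
          _ = (x⁻¹ * w * x)⁻¹ * (x⁻¹ * w * x * (w : G)⁻¹) * v := by rw [h']
          _ = (w : G)⁻¹ * v := by group
      by_contra hne
      refine hfix _ (mul_mem (inv_mem w.2) v.2) (fun h1 => hne ?_) ?_
      · exact Subtype.ext (inv_mul_eq_one.1 h1).symm
      · show (w : G)⁻¹ * v * x = x * ((w : G)⁻¹ * v)
        calc (w : G)⁻¹ * v * x = x * (x⁻¹ * ((w : G)⁻¹ * v) * x) := by group
          _ = x * ((w : G)⁻¹ * v) := by rw [h3]
    obtain ⟨v, hv⟩ := (Finite.injective_iff_surjective.1 hinj) ⟨a₀, hA0⟩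
    refine isConj_iff.2 ⟨(v : G), ?_⟩
    have hv' : x⁻¹ * v * x * (v : G)⁻¹ = x⁻¹ * y := congrArg Subtype.val hv
    have := congrArg (x * ·) hv'
    simpa [mul_assoc] using this

/-! ## The group -/

variable {G : Type u} [Group G] [Finite G]

/-- An element killed by three has a conjugate in a given Sylow subgroup. -/
theorem exists_conj_mem (P : Sylow 3 G) {c : G} (hc : c ^ 3 = 1) :
    ∃ g : G, g * c * g⁻¹ ∈ (P : Subgroup G) := by
  haveI : Fact (Nat.Prime 3) := ⟨Nat.prime_three⟩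
  have hpg : IsPGroup 3 (Subgroup.zpowers c) := by
    rintro ⟨_, i, rfl⟩
    refine ⟨1, Subtype.ext ?_⟩
    rw [pow_one, Subgroup.coe_pow, Subgroup.coe_one, ← zpow_natCast, ← zpow_mul, mul_comm, zpow_mul,
      zpow_natCast, hc, one_zpow]
  obtain ⟨Q, hQ⟩ := hpg.exists_le_sylow
  obtain ⟨g, hg⟩ := MulAction.exists_smul_eq G Q P
  refine ⟨g, ?_⟩
  rw [← hg, Sylow.coe_subgroup_smul]
  exact Subgroup.smul_mem_pointwise_smul _ (MulAut.conj g) _ (hQ (Subgroup.mem_zpowers c))

/-- The arithmetic at one pair of columns. -/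
theorem pair_cases {ι : Type*} [Fintype ι] [DecidableEq ι] {a b d : ι → ℤ} {t : ι}
    (ha : ∑ i, a i * a i = 9) (hb : ∑ i, b i * b i = 9) (hab : ∑ i, a i * b i = 0)
    (hda : ∑ i, d i * a i = 0) (hdb : ∑ i, d i * b i = 0) (hd : ∀ i, 0 < d i)
    (ht : a t = 1 ∧ b t = 1) (hmod : ∀ i, (3 : ℤ) ∣ a i - b i) (k : ι) :
    (b k = a k ∧ -1 ≤ a k ∧ a k ≤ 1) ∨ ∃ σ : ℤ, (σ = 1 ∨ σ = -1) ∧
      ((a k = 2 * σ ∧ b k = -σ) ∨ (a k = -σ ∧ b k = 2 * σ)) := by
  obtain ⟨i, j, σ, -, -, -, hσ, hi, hj, -, hoth, -⟩ := columns ha hb hab hda hdb hd ht hmod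
  by_cases h1 : k = i
  · exact Or.inr ⟨σ, hσ, Or.inl (h1 ▸ hi)⟩
  by_cases h2 : k = j
  · exact Or.inr ⟨σ, hσ, Or.inr (h2 ▸ hj)⟩
  exact Or.inl (hoth k h1 h2)

variable [IsSimpleGroup G]

/-- The order, from the number of Sylow subgroups. -/
theorem card_of_index (P : Sylow 3 G) (hcomm : IsMulCommutative (P : Subgroup G))
    (hcard : Nat.card (P : Subgroup G) = 9)
    (hcent : ∀ s ∈ (P : Subgroup G), s ≠ 1 →
      Subgroup.centralizer ({s} : Set G) = (P : Subgroup G))
    (hN : Nat.card (Subgroup.normalizer ((P : Subgroup G) : Set G)) = 36)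
    (hle : Nat.card G ≤ 945) : Nat.card G = 360 := by
  classical
  cases nonempty_fintype G
  haveI : Fact (Nat.Prime 3) := ⟨Nat.prime_three⟩
  haveI : Fintype (Sylow 3 G) := Fintype.ofFinite _
  have hG : Nat.card G = 36 * Nat.card (Sylow 3 G) := by
    rw [P.card_eq_index_normalizer, ← hN]
    exact (Subgroup.card_mul_index _).symm
  haveI : Fintype (MulAction.orbitRel.Quotient (P : Subgroup G) (Sylow 3 G)) := Fintype.ofFinite _
  have hstab : ∀ Q : Sylow 3 G, Q ≠ P → MulAction.stabilizer (P : Subgroup G) Q = ⊥ := by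
    intro Q hQ
    rw [eq_bot_iff]
    rintro ⟨s, hs⟩ hst
    rw [MulAction.mem_stabilizer_iff] at hst
    have hsN : s ∈ (P : Subgroup G) ⊓ Subgroup.normalizer ((Q : Subgroup G) : Set G) :=
      ⟨hs, Sylow.smul_eq_iff_mem_normalizer.1 hst⟩
    replace hsN : s ∈ (P : Subgroup G) ⊓ (Q : Subgroup G) :=
      (le_of_eq (P.isPGroup'.inf_normalizer_sylow Q)) hsN
    rw [Subgroup.mem_bot]
    by_contra hne
    have hs1 : s ≠ 1 := fun h => hne (Subtype.ext h)
    have hle : (Q : Subgroup G) ≤ (P : Subgroup G) := by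
      intro q hq
      rw [← hcent s hs hs1]
      refine Subgroup.mem_centralizer_singleton_iff.2 ?_
      let φ := Q.equiv P
      have := congrArg φ.symm (hcomm.is_comm.comm (φ ⟨q, hq⟩) (φ ⟨s, hsN.2⟩))
      simp only [map_mul, MulEquiv.symm_apply_apply] at this
      exact congrArg Subtype.val this
    exact hQ (Sylow.ext (Q.is_maximal' P.isPGroup' hle).symm)
  have h9 : (9 : ℕ) ∣ Nat.card (Sylow 3 G) - 1 := by
    have hfix : ∀ s : (P : Subgroup G), s • P = P := fun s =>
      Sylow.smul_eq_iff_mem_normalizer.2 (Subgroup.le_normalizer s.2)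
    have hcardω : ∀ Q : Sylow 3 G,
        Nat.card (MulAction.orbit (P : Subgroup G) Q) = if Q = P then 1 else 9 := by
      intro Q
      rw [Nat.card_coe_set_eq, ← MulAction.index_stabilizer]
      split_ifs with h
      · subst h
        rw [Subgroup.index_eq_one, eq_top_iff]
        exact fun s _ => MulAction.mem_stabilizer_iff.2 (hfix s)
      · rw [hstab Q h, Subgroup.index_bot, hcard]
    rw [Nat.card_congr (MulAction.selfEquivSigmaOrbits (P : Subgroup G) (Sylow 3 G)), Nat.card_sigma,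
      Finset.sum_congr rfl fun ω _ => hcardω ω.out,
      ← Finset.add_sum_erase _ _ (Finset.mem_univ
        (Quotient.mk'' P : MulAction.orbitRel.Quotient (P : Subgroup G) (Sylow 3 G)))]
    have houtP : ∀ ω : MulAction.orbitRel.Quotient (P : Subgroup G) (Sylow 3 G),
        ω.out = P ↔ ω = Quotient.mk'' P := by
      intro ω
      refine ⟨fun h => (Quotient.out_eq' ω).symm.trans (congrArg Quotient.mk'' h), fun h => ?_⟩
      have h' : ω.out ∈ MulAction.orbit (P : Subgroup G) P :=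
        MulAction.orbitRel_apply.1 (Quotient.exact' (by rw [Quotient.out_eq', h]))
      obtain ⟨s, hs⟩ := h'
      exact hs.symm.trans (hfix s)
    rw [if_pos ((houtP _).2 rfl), Nat.add_sub_cancel_left]
    exact Finset.dvd_sum fun ω hω => by
      rw [if_neg fun h => (Finset.mem_erase.1 hω).1 ((houtP ω).1 h)]
  have hn0 : 0 < Nat.card (Sylow 3 G) := Nat.card_pos
  have hn : Nat.card (Sylow 3 G) = 1 ∨ Nat.card (Sylow 3 G) = 10 ∨ Nat.card (Sylow 3 G) = 19 := by
    omega
  rcases hn with hn | hn | hn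
  · exfalso
    have hnorm : Subgroup.normalizer ((P : Subgroup G) : Set G) = ⊤ :=
      Subgroup.eq_top_of_card_eq _ (by rw [hN, hG, hn])
    haveI := Subgroup.normalizer_eq_top_iff.1 hnorm
    rcases Subgroup.Normal.eq_bot_or_eq_top (H := (P : Subgroup G)) inferInstance with h | h
    · rw [h, Subgroup.card_bot] at hcard
      norm_num at hcard
    · rw [h, Subgroup.card_top, hG, hn] at hcard
      norm_num at hcard
  · rw [hG, hn]
  · exfalso
    haveI : Fact (Nat.Prime 19) := ⟨by norm_num⟩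
    rw [hn] at hG
    obtain ⟨Q⟩ : Nonempty (Sylow 19 G) := inferInstance
    have hQ : Nat.card Q = 19 := by
      rw [Q.card_eq_multiplicity, hG, Nat.factorization_mul (by norm_num) (by norm_num),
        Finsupp.add_apply, Nat.factorization_eq_zero_of_not_dvd (by norm_num),
        Nat.Prime.factorization_self (by norm_num), zero_add, pow_one]
    have hidx : (Q : Subgroup G).index = 36 := by
      have h := (Q : Subgroup G).card_mul_index
      rw [hG, hQ] at h
      omega
    have hdvd := Q.card_dvd_index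
    rw [hidx] at hdvd
    have hmod : Nat.card (Sylow 19 G) % 19 = 1 := card_sylow_modEq_one 19 G
    have hle36 := Nat.le_of_dvd (by norm_num) hdvd
    have hone : Nat.card (Sylow 19 G) = 1 := by
      have hcase : Nat.card (Sylow 19 G) = 1 ∨ Nat.card (Sylow 19 G) = 20 := by omega
      refine hcase.resolve_right fun h => ?_
      rw [h] at hdvd
      norm_num at hdvd
    haveI : Subsingleton (Sylow 19 G) := (Nat.card_eq_one_iff_unique.1 hone).1
    haveI := Sylow.normal_of_subsingleton Q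
    rcases Subgroup.Normal.eq_bot_or_eq_top (H := (Q : Subgroup G)) inferInstance with h | h
    · rw [h, Subgroup.card_bot] at hQ
      norm_num at hQ
    · rw [h, Subgroup.card_top, hG] at hQ
      norm_num at hQ

theorem card_eq_three_sixty (P : Sylow 3 G) (hcomm : IsMulCommutative (P : Subgroup G))
    (hexp : ∀ a ∈ (P : Subgroup G), a ^ 3 = 1) (hcard : Nat.card (P : Subgroup G) = 9)
    (hclasses : ∃ a b : G, orderOf a = 3 ∧ orderOf b = 3 ∧ ∀ g : G, g * a * g⁻¹ ≠ b)
    (hcent : ∀ s ∈ (P : Subgroup G), s ≠ 1 →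
      Subgroup.centralizer ({s} : Set G) = (P : Subgroup G)) :
    Nat.card G = 360 := by
  classical
  cases nonempty_fintype G
  haveI : Fact (Nat.Prime 3) := ⟨Nat.prime_three⟩
  set S : Subgroup G := (P : Subgroup G) with hSdef
  have hScomm : ∀ v ∈ S, ∀ w ∈ S, v * w = w * v := fun v hv w hw =>
    congrArg Subtype.val (hcomm.is_comm.comm (⟨v, hv⟩ : S) ⟨w, hw⟩)
  have hmemC : ∀ {s g : G}, s ∈ S → s ≠ 1 → g * s = s * g → g ∈ S := by
    intro s g hs hs1 h
    rw [← hcent s hs hs1]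
    exact Subgroup.mem_centralizer_singleton_iff.2 h
  have hCen : ∀ c : G, c ≠ 1 → c ^ 3 = 1 → ∀ v w : G, Commute v c → Commute w c →
      Commute v w ∧ v ^ 3 = 1 := by
    intro c hc1 hc v w hv hw
    obtain ⟨g, hg⟩ := exists_conj_mem P hc
    have hg1 : g * c * g⁻¹ ≠ 1 := fun h => hc1 (conj_eq_one_iff.1 h)
    have hv' := hmemC hg hg1 ((Commute.conj_iff g).2 hv).eq
    have hw' := hmemC hg hg1 ((Commute.conj_iff g).2 hw).eq
    refine ⟨(Commute.conj_iff g).1 (hScomm _ hv' _ hw'), ?_⟩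
    have := hexp _ hv'
    rwa [conj_pow, conj_eq_one_iff] at this
  have hord : ∀ x ∈ S, x ≠ 1 → orderOf x = 3 := fun x hx hx1 => orderOf_eq_prime (hexp x hx) hx1
  have hnz : ∀ x ∈ S, x ≠ 1 → x ≠ x⁻¹ := by
    intro x hx hx1 h
    have h2 : x * x = 1 := mul_eq_one_iff_eq_inv.2 h
    have h3 := hexp x hx
    rw [pow_three, h2, mul_one] at h3
    exact hx1 h3
  have hcardC : ∀ x ∈ S, x ≠ 1 → Nat.card (Subgroup.centralizer ({x} : Set G)) = 9 :=
    fun x hx hx1 => by rw [hcent x hx hx1, hcard]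
  have hG9 : 9 ∣ Nat.card G := hcard ▸ S.card_subgroup_dvd_card
  have hSG : S ≠ ⊤ := by
    intro h
    obtain ⟨a, ha⟩ : ∃ a : G, a ≠ 1 := exists_ne 1
    have h9 : Nat.card G = 9 := by rw [← hcard, h, Subgroup.card_top]
    letI : CommGroup G :=
      { ‹Group G› with mul_comm := fun v w => hScomm v (h ▸ trivial) w (h ▸ trivial) }
    have hp : (Nat.card G).Prime := by
      exact IsSimpleGroup.prime_card
    rw [h9] at hp
    norm_num at hp
  have hna : ∃ x y : G, x * y ≠ y * x := by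
    by_contra h
    push Not at h
    obtain ⟨a, b, ha, -, -⟩ := hclasses
    obtain ⟨g, hg⟩ := exists_conj_mem P (c := a) (by rw [← ha, pow_orderOf_eq_one])
    refine hSG (eq_top_iff.2 fun z _ => hmemC hg ?_ (h z _))
    intro h1
    rw [conj_eq_one_iff] at h1
    rw [h1, orderOf_one] at ha
    norm_num at ha
  -- the normalizer
  set N : Subgroup G := Subgroup.normalizer (S : Set G) with hN
  have hSN : S ≤ N := Subgroup.le_normalizer
  let K : G → Finset G := fun a => Finset.univ.filter fun x => x ∈ S ∧ IsConj a x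
  have hSC : S ≤ Subgroup.centralizer (S : Set G) :=
    Subgroup.le_centralizer_iff_isMulCommutative.2 hcomm
  have hK : ∀ a ∈ S, a ≠ 1 → Nat.card N = 9 * (K a).card := by
    intro a ha ha1
    have hmap : ∀ n ∈ Finset.univ.filter (fun n : G => n ∈ N), n * a * n⁻¹ ∈ K a := by
      intro n hn
      simp only [Finset.mem_filter, Finset.mem_univ, true_and, K] at hn ⊢
      exact ⟨(Subgroup.mem_normalizer_iff.1 hn a).1 ha, isConj_iff.2 ⟨n, rfl⟩⟩
    rw [Nat.card_eq_fintype_card, Fintype.card_subtype, Finset.card_eq_sum_card_fiberwise hmap,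
      Finset.sum_const_nat (m := 9), mul_comm]
    intro x hx
    simp only [Finset.mem_filter, Finset.mem_univ, true_and, K] at hx
    obtain ⟨hxS, hcx⟩ := hx
    obtain ⟨g, rfl⟩ := isConj_iff.1 hcx
    obtain ⟨n, hn, hnx⟩ := Fusion.burnside_fusion_centralizer P (hSC ha) (hSC hxS)
    rw [← hcard, Nat.card_eq_fintype_card, Fintype.card_subtype]
    refine Finset.card_bij' (fun z _ => n⁻¹ * z) (fun z _ => n * z) ?_ ?_
      (fun z _ => mul_inv_cancel_left n z) (fun z _ => inv_mul_cancel_left n z)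
    · intro z hz
      simp only [Finset.mem_filter, Finset.mem_univ, true_and] at hz ⊢
      refine hmemC ha ha1 ?_
      have h := hz.2.trans hnx.symm
      calc n⁻¹ * z * a = n⁻¹ * (z * a * z⁻¹) * z := by group
        _ = n⁻¹ * (n * a * n⁻¹) * z := by rw [h]
        _ = a * (n⁻¹ * z) := by group
    · intro z hz
      simp only [Finset.mem_filter, Finset.mem_univ, true_and] at hz ⊢
      refine ⟨mul_mem hn (hSN hz), ?_⟩
      calc n * z * a * (n * z)⁻¹ = n * (z * a) * z⁻¹ * n⁻¹ := by group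
        _ = n * (a * z) * z⁻¹ * n⁻¹ := by rw [hScomm z hz a ha]
        _ = n * a * n⁻¹ := by group
        _ = g * a * g⁻¹ := hnx
  have hmemK : ∀ {c x : G}, x ∈ S → IsConj c x → x ∈ K c := fun hx h =>
    Finset.mem_filter.2 ⟨Finset.mem_univ _, hx, h⟩
  have hnmemK : ∀ {c x : G}, ¬ IsConj c x → x ∉ K c := fun h hx => h (Finset.mem_filter.1 hx).2.2
  have hS' : (Finset.univ.filter fun x : G => x ∈ S ∧ x ≠ 1).card = 8 := by
    rw [show (Finset.univ.filter fun x : G => x ∈ S ∧ x ≠ 1) =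
      (Finset.univ.filter fun x : G => x ∈ S).erase 1 by ext; simp [and_comm],
      Finset.card_erase_of_mem (by simp), ← Fintype.card_subtype, ← Nat.card_eq_fintype_card]
    change Nat.card S - 1 = 8
    rw [hcard]
  -- two representatives
  obtain ⟨a, b, haS, ha1, hbS, hb1, hab⟩ : ∃ a b : G, a ∈ S ∧ a ≠ 1 ∧ b ∈ S ∧ b ≠ 1 ∧ ¬ IsConj a b := by
    obtain ⟨a, b, ha, hb, hne⟩ := hclasses
    obtain ⟨g, hg⟩ := exists_conj_mem P (c := a) (by rw [← ha, pow_orderOf_eq_one])
    obtain ⟨h, hh⟩ := exists_conj_mem P (c := b) (by rw [← hb, pow_orderOf_eq_one])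
    refine ⟨_, _, hg, ?_, hh, ?_, fun hc => ?_⟩
    · intro h1; rw [conj_eq_one_iff] at h1; rw [h1, orderOf_one] at ha; norm_num at ha
    · intro h1; rw [conj_eq_one_iff] at h1; rw [h1, orderOf_one] at hb; norm_num at hb
    · obtain ⟨z, hz⟩ := isConj_iff.1
        (((isConj_iff.2 ⟨g, rfl⟩ : IsConj a (g * a * g⁻¹)).trans hc).trans
          (isConj_iff.2 ⟨h, rfl⟩ : IsConj b (h * b * h⁻¹)).symm)
      exact hne z hz
  have hKsub : ∀ {c x : G}, c ≠ 1 → x ∈ K c → x ∈ S ∧ x ≠ 1 := by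
    intro c x hc hx
    simp only [Finset.mem_filter, Finset.mem_univ, true_and, K] at hx
    refine ⟨hx.1, fun h => hc ?_⟩
    obtain ⟨z, hz⟩ := isConj_iff.1 (h ▸ hx.2)
    exact conj_eq_one_iff.1 hz
  obtain ⟨e, he⟩ : ∃ e, (K a).card = e := ⟨_, rfl⟩
  have hKe : ∀ c ∈ S, c ≠ 1 → (K c).card = e := fun c hc hc1 => by
    have := hK a haS ha1
    rw [hK c hc hc1, he] at this
    omega
  have hKd : Disjoint (K a) (K b) := by
    rw [Finset.disjoint_left]
    intro x hx hx'
    simp only [Finset.mem_filter, Finset.mem_univ, true_and, K] at hx hx'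
    exact hab (hx.2.trans hx'.2.symm)
  have hKu : K a ∪ K b ⊆ Finset.univ.filter fun x : G => x ∈ S ∧ x ≠ 1 := by
    intro x hx
    rcases Finset.mem_union.1 hx with h | h
    · exact Finset.mem_filter.2 ⟨Finset.mem_univ _, hKsub ha1 h⟩
    · exact Finset.mem_filter.2 ⟨Finset.mem_univ _, hKsub hb1 h⟩
  have he4 : 2 * e ≤ 8 := by
    rw [← hS', two_mul]
    nth_rw 1 [← he]
    rw [← hKe b hbS hb1, ← Finset.card_union_of_disjoint hKd]
    exact Finset.card_le_card hKu
  have hNe : Nat.card N = 9 * e := by rw [hK a haS ha1, he]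
  have he0 : 0 < e := by
    rw [← he]
    exact Finset.card_pos.2 ⟨a, hmemK haS (IsConj.refl a)⟩
  have he1 : e ≠ 1 := by
    intro h
    have hNS : N = S := (Subgroup.eq_of_le_of_card_ge hSN (by rw [hNe, hcard, h])).symm
    obtain ⟨Q, U, hU, hcompl⟩ := Fusion.hasNormalPComplement_of_normalizer_le_centralizer P
      (show N ≤ Subgroup.centralizer (S : Set G) from hNS.symm ▸ hSC)
    have hQ : Nat.card Q = 9 := by
      rw [Nat.card_congr (Q.equiv P).toEquiv]
      exact hcard
    have hmul := hcompl.card_mul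
    rw [hQ] at hmul
    rcases hU.eq_bot_or_eq_top with rfl | rfl
    · rw [Subgroup.card_bot, one_mul] at hmul
      exact hSG (Subgroup.eq_top_of_card_eq _ (hcard.trans hmul))
    · rw [Subgroup.card_top] at hmul
      have : 0 < Nat.card G := Nat.card_pos
      omega
  have he3 : e ≠ 3 := by
    intro h
    have hp : IsPGroup 3 N := IsPGroup.of_card (n := 3) (by rw [hNe, h]; norm_num)
    have := P.is_maximal' hp hSN
    have hc := congrArg (fun H : Subgroup G => Nat.card H) this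
    simp only [hNe, h] at hc
    rw [← hSdef] at hc
    omega
  have he24 : e = 2 ∨ e = 4 := by omega
  -- inversion
  haveI : Fact (Nat.Prime 2) := ⟨Nat.prime_two⟩
  have hev : 2 ∣ Nat.card N := by rw [hNe]; rcases he24 with h | h <;> rw [h] <;> norm_num
  have heven : 2 ∣ Nat.card G := hev.trans N.card_subgroup_dvd_card
  obtain ⟨⟨t, htN⟩, ht2⟩ := exists_prime_orderOf_dvd_card' 2 hev
  rw [Subgroup.orderOf_mk] at ht2
  have htt : t * t = 1 := by rw [← pow_two, ← ht2, pow_orderOf_eq_one]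
  have hinv : ∀ s ∈ S, t * s * t⁻¹ = s⁻¹ := by
    intro s hs
    have hs' : t * s * t⁻¹ ∈ S := (Subgroup.mem_normalizer_iff.1 htN s).1 hs
    by_contra hne
    have hu : t * s * t⁻¹ * s ≠ 1 := fun h => hne (mul_eq_one_iff_eq_inv.1 h)
    have htS : t ∈ S := by
      refine hmemC (mul_mem hs' hs) hu ?_
      have hti : t⁻¹ = t := inv_eq_of_mul_eq_one_right htt
      calc t * (t * s * t⁻¹ * s) = t * t * s * t⁻¹ * s := by group
        _ = s * t * s := by rw [htt, hti, one_mul]
        _ = s * (t * s * t⁻¹) * t := by group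
        _ = t * s * t⁻¹ * s * t := by rw [hScomm s hs _ hs']
    have := hexp t htS
    rw [pow_three, htt, mul_one] at this
    rw [this, orderOf_one] at ht2
    norm_num at ht2
  have hreal : ∀ s ∈ S, IsConj s s⁻¹ := fun s hs => isConj_iff.2 ⟨t, hinv s hs⟩
  -- values
  have hval : ∀ (x : G) (ψ : Cfsg.IrrCharacter G), ∃ v : ℤ, x ∈ S → x ≠ 1 →
      (ψ : G → ℂ) x = (v : ℂ) ∧ (3 : ℤ) ∣ (Cfsg.charDegree (ψ : G → ℂ) : ℤ) + 2 * v := by
    intro x ψ
    by_cases h : x ∈ S ∧ x ≠ 1
    · obtain ⟨v, hv⟩ := ThreeOrder.exists_value (hord x h.1 h.2) (hreal x h.1) ψ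
      exact ⟨v, fun _ _ => hv⟩
    · exact ⟨0, fun h1 h2 => absurd ⟨h1, h2⟩ h⟩
  choose v hv using hval
  set d : Cfsg.IrrCharacter G → ℤ := fun ψ => (Cfsg.charDegree (ψ : G → ℂ) : ℤ) with hd
  have hd0 : ∀ ψ, 0 < d ψ := fun ψ => by
    have := charDegree_pos ψ
    simp only [hd]
    omega
  have ht1 : ∀ x ∈ S, x ≠ 1 → v x trivialIrr = 1 := fun x hx hx1 => by
    have := (hv x trivialIrr hx hx1).1
    simp only [trivialIrr] at this
    exact_mod_cast this.symm
  have hdt : d trivialIrr = 1 := by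
    have := apply_one_eq_charDegree (trivialIrr : Cfsg.IrrCharacter G)
    simp only [trivialIrr] at this ⊢
    simp only [hd]
    exact_mod_cast this.symm
  have hconst : ∀ {x y : G}, x ∈ S → x ≠ 1 → y ∈ S → y ≠ 1 → IsConj x y →
      ∀ ψ, v x ψ = v y ψ := by
    intro x y hx hx1 hy hy1 h ψ
    have h1 := (CharBasic.isConj_iff_forall_irr _ _).1 h ψ
    rw [(hv x ψ hx hx1).1, (hv y ψ hy hy1).1] at h1
    exact_mod_cast h1
  have hnorm : ∀ x ∈ S, x ≠ 1 → ∑ ψ, v x ψ * v x ψ = 9 := by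
    intro x hx hx1
    have h := second_orthogonality_self x
    simp only [hcardC x hx hx1, (hv x _ hx hx1).1, map_intCast] at h
    exact_mod_cast h
  have hzero : ∀ x ∈ S, x ≠ 1 → ∑ ψ, d ψ * v x ψ = 0 := by
    intro x hx hx1
    have h := second_orthogonality_not_isConj (g := x) (h := 1) fun h => hx1 (isConj_one_right.1 h.symm)
    simp only [(hv x _ hx hx1).1, apply_one_eq_charDegree, map_natCast] at h
    simp only [hd, mul_comm _ (v x _)]
    exact_mod_cast h
  have horth : ∀ x ∈ S, x ≠ 1 → ∀ y ∈ S, y ≠ 1 → ¬ IsConj x y → ∑ ψ, v x ψ * v y ψ = 0 := by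
    intro x hx hx1 y hy hy1 hxy
    have h := second_orthogonality_not_isConj hxy
    simp only [(hv x _ hx hx1).1, (hv y _ hy hy1).1, map_intCast] at h
    exact_mod_cast h
  have hmod3 : ∀ x ∈ S, x ≠ 1 → ∀ y ∈ S, y ≠ 1 → ∀ ψ, (3 : ℤ) ∣ v x ψ - v y ψ := by
    intro x hx hx1 y hy hy1 ψ
    have h1 := (hv x ψ hx hx1).2
    have h2 := (hv y ψ hy hy1).2
    omega
  have hpair : ∀ x ∈ S, x ≠ 1 → ∀ y ∈ S, y ≠ 1 → ¬ IsConj x y → ∀ ψ,
      (v y ψ = v x ψ ∧ -1 ≤ v x ψ ∧ v x ψ ≤ 1) ∨ ∃ σ : ℤ, (σ = 1 ∨ σ = -1) ∧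
        ((v x ψ = 2 * σ ∧ v y ψ = -σ) ∨ (v x ψ = -σ ∧ v y ψ = 2 * σ)) :=
    fun x hx hx1 y hy hy1 hxy => pair_cases (hnorm x hx hx1) (hnorm y hy hy1)
      (horth x hx hx1 y hy hy1 hxy) (hzero x hx hx1) (hzero y hy hy1) hd0
      ⟨ht1 x hx hx1, ht1 y hy hy1⟩ (hmod3 x hx hx1 y hy hy1)
  -- the congruence at the whole Sylow subgroup
  have hnine : ∀ (ψ : Cfsg.IrrCharacter G) (M : Finset G) (q r : ℤ),
      M ⊆ (Finset.univ.filter fun x : G => x ∈ S ∧ x ≠ 1) →
      (∀ x ∈ S, x ≠ 1 → v x ψ = q + if x ∈ M then r else 0) →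
      (9 : ℤ) ∣ d ψ + 8 * q + r * M.card := by
    intro ψ M q r hM hf
    haveI : Fintype S := Fintype.ofFinite _
    obtain ⟨m, hm⟩ := H83.sum_subgroup_eq (IsIrr.isCharacter ψ.2) S
    rw [hcard, ← Finset.sum_subtype (Finset.univ.filter fun x : G => x ∈ S) (by simp)
        (fun x => (ψ : G → ℂ) x), ← Finset.add_sum_erase _ _
        (show (1 : G) ∈ Finset.univ.filter fun x : G => x ∈ S by simp), apply_one_eq_charDegree,
      show (Finset.univ.filter fun x : G => x ∈ S).erase 1 =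
        Finset.univ.filter fun x : G => x ∈ S ∧ x ≠ 1 by ext; simp [and_comm],
      Finset.sum_congr rfl (g := fun x => ((q + if x ∈ M then r else 0 : ℤ) : ℂ)) fun x hx => by
        simp only [Finset.mem_filter, Finset.mem_univ, true_and] at hx
        rw [(hv x ψ hx.1 hx.2).1, hf x hx.1 hx.2]] at hm
    have h : d ψ + ∑ x ∈ (Finset.univ.filter fun x : G => x ∈ S ∧ x ≠ 1),
        (q + if x ∈ M then r else 0) = 9 * (m : ℤ) := by
      simp only [hd]
      exact_mod_cast hm
    refine ⟨m, ?_⟩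
    rw [← h, Finset.sum_add_distrib, Finset.sum_const, hS', Finset.sum_ite_mem,
      Finset.inter_eq_right.2 hM, Finset.sum_const]
    simp only [nsmul_eq_mul]
    push_cast
    ring
  -- the two special characters and the others
  obtain ⟨i, j, σ, hij, hit, hjt, hσ, hi, hj, hDij, hoth, hrem⟩ :=
    columns (hnorm a haS ha1) (hnorm b hbS hb1) (horth a haS ha1 b hbS hb1 hab) (hzero a haS ha1)
      (hzero b hbS hb1) hd0 ⟨ht1 a haS ha1, ht1 b hbS hb1⟩ (hmod3 a haS ha1 b hbS hb1)
  have hdeg : ∀ ψ, ψ ≠ trivialIrr → 2 ≤ d ψ ∧ d ψ ≠ 2 := by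
    intro ψ hψ
    have hne : (ψ : G → ℂ) ≠ fun _ => 1 := fun h => hψ (Subtype.ext h)
    have h1 := two_le_charDegree hna hne
    have h2 := charDegree_ne_two hna heven hne
    simp only [hd]
    omega
  have hDbound : σ = 1 → 5 ≤ d i := by
    intro h
    have h9 := hnine i (K a) (-σ) (3 * σ)
      (Finset.union_subset_left hKu)
      (fun x hx hx1 => by
        by_cases hxa : IsConj a x
        · rw [if_pos (hmemK hx hxa), ← hconst haS ha1 hx hx1 hxa, hi.1]
          ring
        · rw [if_neg (hnmemK hxa)]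
          rcases hpair a haS ha1 x hx hx1 hxa i with ⟨h1, h2, h3⟩ | ⟨τ, hτ, ⟨h1, h2⟩ | ⟨h1, h2⟩⟩ <;>
            rw [hi.1] at * <;> omega)
    rw [he, h] at h9
    have := hdeg i hit
    rcases he24 with h4 | h4 <;> rw [h4] at h9 <;> push_cast at h9 <;> omega
  have hobound : ∀ ψ, ψ ≠ trivialIrr → ψ ≠ i → ψ ≠ j → v a ψ ≠ 0 → 7 ≤ d ψ := by
    intro ψ hψ hψi hψj hne
    obtain ⟨hba, hb1', hb2'⟩ := hoth ψ hψi hψj
    set δ := v a ψ with hδ
    have hcase : ∀ x ∈ S, x ≠ 1 → v x ψ = δ ∨ v x ψ = -(2 * δ) := by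
      intro x hx hx1
      by_cases hxa : IsConj a x
      · exact Or.inl (hconst haS ha1 hx hx1 hxa ψ).symm
      rcases hpair a haS ha1 x hx hx1 hxa ψ with ⟨h1, -, -⟩ | ⟨τ, hτ, ⟨h1, h2⟩ | ⟨h1, h2⟩⟩ <;>
        omega
    set M := Finset.univ.filter fun x : G => (x ∈ S ∧ x ≠ 1) ∧ v x ψ ≠ δ with hM
    have h9 := hnine ψ M δ (-(3 * δ)) (fun x hx => by
        simp only [hM, Finset.mem_filter] at hx ⊢
        exact ⟨hx.1, hx.2.1⟩)
      (fun x hx hx1 => by
        by_cases hm : v x ψ = δ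
        · rw [if_neg (by simp [hM, hm]), hm, add_zero]
        · rw [if_pos (by simp [hM, hm, hx, hx1])]
          have := (hcase x hx hx1).resolve_left hm
          omega)
    have := hdeg ψ hψ
    by_cases hMe : M = ∅
    · rw [hMe, Finset.card_empty] at h9
      push_cast at h9
      omega
    obtain ⟨c, hc⟩ := Finset.nonempty_iff_ne_empty.2 hMe
    simp only [hM, Finset.mem_filter, Finset.mem_univ, true_and] at hc
    obtain ⟨⟨hcS, hc1⟩, hcv⟩ := hc
    have hMK : M = K c := by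
      ext x
      simp only [hM, K, Finset.mem_filter, Finset.mem_univ, true_and]
      refine ⟨fun hx => ⟨hx.1.1, ?_⟩, fun hx => ?_⟩
      · by_contra hne'
        have e1 := (hcase c hcS hc1).resolve_left hcv
        have e2 := (hcase x hx.1.1 hx.1.2).resolve_left hx.2
        rcases hpair c hcS hc1 x hx.1.1 hx.1.2 hne' ψ with
          ⟨-, h1, h2⟩ | ⟨τ, hτ, ⟨h1, h2⟩ | ⟨h1, h2⟩⟩ <;> omega
      · have hx1 : x ≠ 1 := (hKsub hc1 (hmemK hx.1 hx.2)).2
        exact ⟨⟨hx.1, hx1⟩, by rw [← hconst hcS hc1 hx.1 hx1 hx.2]; exact hcv⟩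
    have he2 : e = 2 := by
      refine he24.resolve_right fun h4 => ?_
      have hcu : c ∈ K a ∪ K b := by
        rw [Finset.eq_of_subset_of_card_le hKu (by
          rw [hS', Finset.card_union_of_disjoint hKd, he, hKe b hbS hb1, h4])]
        simp [hcS, hc1]
      simp only [Finset.mem_union, K, Finset.mem_filter, Finset.mem_univ, true_and] at hcu
      rcases hcu with h | h
      · exact hcv (hconst haS ha1 hcS hc1 h.2 ψ).symm
      · exact hcv ((hconst hbS hb1 hcS hc1 h.2 ψ).symm.trans hba)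
    rw [hMK, hKe c hcS hc1, he2] at h9
    push_cast at h9
    omega
  -- the class multiplication constant
  set T : ℚ := ∑ ψ, ((v a ψ * v a ψ * v b ψ : ℤ) : ℚ) / (d ψ : ℚ) with hT
  have hcoef : (81 : ℚ) * ((e - 2 : ℕ) : ℚ) = (Nat.card G : ℚ) * T := by
    have h := (H84.coeff_classSum_mul a b a).symm.trans (H84.coeff_classSum_mul_eq a b a)
    have hcnt : (Finset.univ.filter fun g : G => IsConj a g ∧ IsConj b (g⁻¹ * a)) =
        ((K a).erase a).erase a⁻¹ := by
      ext g
      simp only [Finset.mem_erase, Finset.mem_filter, Finset.mem_univ, true_and, K]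
      constructor
      · rintro ⟨hg, hy⟩
        have hpow : ∀ {c z : G}, c ∈ S → c ≠ 1 → IsConj c z → z ≠ 1 ∧ z ^ 3 = 1 := by
          intro c z hc hc1 hcz
          obtain ⟨w, rfl⟩ := isConj_iff.1 hcz
          exact ⟨fun h => hc1 (conj_eq_one_iff.1 h), by rw [conj_pow, hexp c hc, conj_eq_one_iff]⟩
        obtain ⟨hg1, hg3⟩ := hpow haS ha1 hg
        have hy3 := (hpow hbS hb1 hy).2
        have hcom := (conj_or_commute hCen hg1 hg3 hy3 (by rw [mul_inv_cancel_left, hexp a haS])).resolve_left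
          fun hgy => hab ((hg.trans hgy).trans hy.symm)
        have hgS : g ∈ S := by
          refine hmemC haS ha1 ?_
          have := ((Commute.refl g).mul_right hcom).eq
          rwa [mul_inv_cancel_left] at this
        refine ⟨fun h => ?_, fun h => ?_, hgS, hg⟩
        · rw [h, inv_inv] at hy
          have h3 : a * a = a⁻¹ := (inv_eq_of_mul_eq_one_right
            (by rw [← pow_three]; exact hexp a haS)).symm
          rw [h3] at hy
          exact hab ((hreal a haS).trans hy.symm)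
        · rw [h, inv_mul_cancel] at hy
          exact hb1 (isConj_one_right.1 hy.symm)
      · rintro ⟨hgi, hga, hgS, hg⟩
        refine ⟨hg, ?_⟩
        have hg1 : g ≠ 1 := (hKsub ha1 (hmemK hgS hg)).2
        have hg' : IsConj a g⁻¹ := hg.trans (hreal g hgS)
        have hgne : g⁻¹ ≠ a := fun h => hgi (by rw [← h, inv_inv])
        have hgne' : g⁻¹ ≠ a⁻¹ := fun h => hga (inv_inj.1 h)
        have hfour : ({a, a⁻¹, g, g⁻¹} : Finset G).card = 4 := by
          have := hnz a haS ha1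
          have := hnz g hgS hg1
          simp [Finset.card_insert_of_notMem, *, Ne.symm hga, Ne.symm hgi, Ne.symm hgne,
            Ne.symm hgne']
        have hsub : ({a, a⁻¹, g, g⁻¹} : Finset G) ⊆ K a := by
          intro x hx
          simp only [Finset.mem_insert, Finset.mem_singleton] at hx
          rcases hx with h | h | h | h <;> rw [h]
          · exact hmemK haS (IsConj.refl a)
          · exact hmemK (inv_mem haS) (hreal a haS)
          · exact hmemK hgS hg
          · exact hmemK (inv_mem hgS) hg'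
        have he4' : e = 4 := by
          have := Finset.card_le_card hsub
          omega
        have hKa := Finset.eq_of_subset_of_card_le hsub (by rw [hfour, he, he4'])
        have hyS : g⁻¹ * a ∈ S := mul_mem (inv_mem hgS) haS
        have hy1 : g⁻¹ * a ≠ 1 := fun h => hga (inv_mul_eq_one.1 h)
        have hyu : g⁻¹ * a ∈ K a ∪ K b := by
          rw [Finset.eq_of_subset_of_card_le hKu (by
            rw [hS', Finset.card_union_of_disjoint hKd, he, hKe b hbS hb1, he4'])]
          simp [hyS, hy1]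
        rcases Finset.mem_union.1 hyu with hy | hy
        · exfalso
          rw [← hKa] at hy
          simp only [Finset.mem_insert, Finset.mem_singleton] at hy
          have h3 := hexp g hgS
          have h3a := hexp a haS
          rcases hy with h | h | h | h
          · exact hg1 (inv_eq_one.1 (mul_eq_right.1 h))
          · refine hgi ?_
            have : g⁻¹ = a⁻¹ * a⁻¹ := eq_mul_inv_of_mul_eq h
            rw [← inv_inj, inv_inv, this, ← mul_inv_rev]
            exact inv_eq_of_mul_eq_one_right (by rw [mul_assoc, ← pow_three]; exact h3a)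
          · refine hgi ?_
            have : a = g * g := inv_mul_eq_iff_eq_mul.1 h
            rw [this]
            exact (inv_eq_of_mul_eq_one_right (by rw [mul_assoc, ← pow_three]; exact h3)).symm
          · exact ha1 (mul_eq_left.1 h)
        · exact (Finset.mem_filter.1 hy).2.2
    have hcntc : (Finset.univ.filter fun g : G => IsConj a g ∧ IsConj b (g⁻¹ * a)).card = e - 2 := by
      rw [hcnt, Finset.card_erase_of_mem, Finset.card_erase_of_mem, he]
      · omega
      · exact hmemK haS (IsConj.refl a)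
      · exact Finset.mem_erase.2 ⟨(hnz a haS ha1).symm, hmemK (inv_mem haS) (hreal a haS)⟩
    rw [hcntc] at h
    have hI : ∀ x ∈ S, x ≠ 1 →
        ((Subgroup.centralizer ({x} : Set G)).index : ℂ) * 9 = (Nat.card G : ℂ) := fun x hx hx1 => by
      rw [← Subgroup.card_mul_index (Subgroup.centralizer ({x} : Set G)), hcardC x hx hx1]
      push_cast
      ring
    have hsum : ((Nat.card G : ℂ)⁻¹ * ∑ χ : Cfsg.IrrCharacter G,
        (χ : G → ℂ) 1 * (Cfsg.centralChar (χ : G → ℂ) a * Cfsg.centralChar (χ : G → ℂ) b) *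
          conj ((χ : G → ℂ) a)) = (Nat.card G : ℂ) / 81 * (T : ℂ) := by
      have hG0 : (Nat.card G : ℂ) ≠ 0 := Nat.cast_ne_zero.2 Nat.card_pos.ne'
      rw [hT, Rat.cast_sum, Finset.mul_sum, Finset.mul_sum]
      refine Finset.sum_congr rfl fun χ _ => ?_
      have hd' : (d χ : ℂ) ≠ 0 := Int.cast_ne_zero.2 (hd0 χ).ne'
      have h1 : (χ : G → ℂ) 1 = (d χ : ℂ) := by simp [hd, apply_one_eq_charDegree]
      rw [Cfsg.centralChar, Cfsg.centralChar, (hv a χ haS ha1).1, (hv b χ hbS hb1).1, map_intCast, h1]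
      have i1 := hI a haS ha1
      have i2 := hI b hbS hb1
      push_cast
      field_simp
      linear_combination ((v a χ : ℂ) ^ 2 * (v b χ : ℂ)) *
        (((Subgroup.centralizer ({b} : Set G)).index : ℂ) * 9 * i1 + (Nat.card G : ℂ) * i2)
    rw [hsum] at h
    have h2 : ((81 * ((e - 2 : ℕ) : ℚ) : ℚ) : ℂ) = (((Nat.card G : ℚ) * T : ℚ) : ℂ) := by
      push_cast
      linear_combination 81 * h
    exact_mod_cast h2
  have hlow : (6 / 35 : ℚ) ≤ T := by
    rw [hT, ← Finset.add_sum_erase _ _ (Finset.mem_univ trivialIrr),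
      ← Finset.add_sum_erase _ _ (Finset.mem_erase.2 ⟨hit, Finset.mem_univ i⟩),
      ← Finset.add_sum_erase _ _
        (Finset.mem_erase.2 ⟨hij.symm, Finset.mem_erase.2 ⟨hjt, Finset.mem_univ j⟩⟩)]
    have h1 : ((v a trivialIrr * v a trivialIrr * v b trivialIrr : ℤ) : ℚ) / (d trivialIrr : ℚ) = 1 := by
      rw [ht1 a haS ha1, ht1 b hbS hb1, hdt]
      norm_num
    have h2 : -(2 / 5 : ℚ) ≤ ((v a i * v a i * v b i : ℤ) : ℚ) / (d i : ℚ) +
        ((v a j * v a j * v b j : ℤ) : ℚ) / (d j : ℚ) := by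
      rw [← hDij, hi.1, hi.2, hj.1, hj.2, ← add_div]
      have hD : (0 : ℚ) < d i := by exact_mod_cast hd0 i
      rw [le_div_iff₀ hD]
      rcases hσ with rfl | rfl
      · have h5 : (5 : ℚ) ≤ d i := by exact_mod_cast hDbound rfl
        push_cast
        linarith
      · push_cast
        linarith
    have h3 : -(3 / 7 : ℚ) ≤ ∑ ψ ∈ ((Finset.univ.erase trivialIrr).erase i).erase j,
        ((v a ψ * v a ψ * v b ψ : ℤ) : ℚ) / (d ψ : ℚ) := by
      have : -(3 / 7 : ℚ) = ∑ ψ ∈ ((Finset.univ.erase trivialIrr).erase i).erase j,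
          -((v a ψ * v a ψ : ℤ) : ℚ) / 7 := by
        rw [← Finset.sum_div, Finset.sum_neg_distrib, ← Int.cast_sum, hrem]
        norm_num
      rw [this]
      refine Finset.sum_le_sum fun ψ hψ => ?_
      simp only [Finset.mem_erase, Finset.mem_univ, and_true] at hψ
      obtain ⟨hψj, hψi, hψt⟩ := hψ
      obtain ⟨hba, hl, hu⟩ := hoth ψ hψi hψj
      rw [hba]
      have hD : (0 : ℚ) < d ψ := by exact_mod_cast hd0 ψ
      rw [div_le_div_iff₀ (by norm_num) hD]
      by_cases h0 : v a ψ = 0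
      · rw [h0]; norm_num
      have h7 : (7 : ℚ) ≤ d ψ := by exact_mod_cast hobound ψ hψt hψi hψj h0
      rcases (show v a ψ = 1 ∨ v a ψ = -1 by omega) with h | h <;> rw [h] <;> push_cast <;> linarith
    linarith
  have he4e : e = 4 := by
    refine he24.resolve_left fun h => ?_
    rw [h] at hcoef
    have : (0 : ℚ) < (Nat.card G : ℚ) * T :=
      mul_pos (by exact_mod_cast Nat.card_pos) (by linarith)
    norm_num at hcoef
    linarith
  rw [he4e] at hcoef hNe
  have hGle : Nat.card G ≤ 945 := by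
    have h : (Nat.card G : ℚ) ≤ 945 := by
      norm_num at hcoef
      have := mul_le_mul_of_nonneg_left hlow (Nat.cast_nonneg (α := ℚ) (Nat.card G))
      simp only [Nat.card_eq_fintype_card] at this ⊢
      linarith
    exact_mod_cast h
  exact card_of_index P hcomm hcard hcent hNe hGle

end Cfsg.Agent.H81.NineSylow
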