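import Cfsg.Agent.CharInduce.Monomial

/-!
# Irreducible characters of finite powers of a group
-/

set_option linter.unusedSectionVars false

namespace Cfsg.Agent.H81

open Finset Cfsg.Agent.CharBasic Cfsg.Agent.CharInduce
open scoped ComplexConjugate

universe u v

variable {M : Type u} [Group M] {Q : Type v} [Fintype Q]

/-- The outer product of a family of functions. -/
def piChar (f : Q → M → ℂ) : (Q → M) → ℂ := fun b => ∏ q, f q (b q)

theorem isCharacter_piChar {f : Q → M → ℂ} (hf : ∀ q, Cfsg.IsCharacter M (f q)) :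
    Cfsg.IsCharacter (Q → M) (piChar f) := by
  classical
  have key : ∀ s : Finset Q, Cfsg.IsCharacter (Q → M) fun b => ∏ q ∈ s, f q (b q) := by
    intro s
    induction s using Finset.induction_on with
    | empty => simpa using (IsChar.one : Cfsg.IsCharacter (Q → M) fun _ => (1 : ℂ))
    | insert a s ha ih =>
      have h := IsChar.mul (IsChar.comp (hf a) (Pi.evalMonoidHom (fun _ => M) a)) ih
      have e : (fun b : Q → M => ∏ q ∈ insert a s, f q (b q)) =
          (fun b : Q → M => f a (Pi.evalMonoidHom (fun _ => M) a b)) *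
            fun b => ∏ q ∈ s, f q (b q) := by
        funext b
        rw [Finset.prod_insert ha]
        rfl
      rw [e]
      exact h
  exact key Finset.univ

variable [Fintype M] [DecidableEq Q]

theorem classInner_piChar (f g : Q → M → ℂ) :
    Cfsg.classInner (piChar f) (piChar g) = ∏ q, Cfsg.classInner (f q) (g q) := by
  simp only [Cfsg.classInner, piChar, map_prod, ← Finset.prod_mul_distrib]
  rw [Finset.prod_mul_distrib, Finset.prod_const, Fintype.prod_sum, Nat.card_fun,
    Nat.cast_pow, inv_pow, Finset.card_univ, Nat.card_eq_fintype_card (α := Q)]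

variable (M Q) in
/-- Every irreducible character of `Q → M` is an outer product. -/
theorem exists_piChar_eq {θ : (Q → M) → ℂ} (hθ : Cfsg.IsIrrCharacter (Q → M) θ) :
    ∃ ψ : Q → Cfsg.IrrCharacter M, θ = piChar fun q => (ψ q : M → ℂ) := by
  classical
  haveI : Finite (Cfsg.IrrCharacter M) := finite_irrCharacter
  haveI : Finite (Cfsg.IrrCharacter (Q → M)) := finite_irrCharacter
  have hirr : ∀ ψ : Q → Cfsg.IrrCharacter M,
      Cfsg.IsIrrCharacter (Q → M) (piChar fun q => (ψ q : M → ℂ)) := by
    intro ψ
    refine isIrr_of_norm_one (isCharacter_piChar fun q => IsIrr.isCharacter (ψ q).2) ?_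
    rw [classInner_piChar, Finset.prod_eq_one fun q _ => classInner_irr_self (ψ q).2]
  let Φ : (Q → Cfsg.IrrCharacter M) → Cfsg.IrrCharacter (Q → M) := fun ψ => ⟨_, hirr ψ⟩
  have hinj : Function.Injective Φ := by
    intro ψ ψ' h
    by_contra hne
    obtain ⟨q, hq⟩ := Function.ne_iff.1 hne
    have h1 := classInner_piChar (fun q => (ψ q : M → ℂ)) (fun q => (ψ' q : M → ℂ))
    rw [Finset.prod_eq_zero (Finset.mem_univ q)
      (classInner_irr_of_ne (ψ q).2 (ψ' q).2 fun e => hq (Subtype.ext e)),
      show piChar (fun q => (ψ q : M → ℂ)) = piChar fun q => (ψ' q : M → ℂ) from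
        congrArg Subtype.val h, classInner_irr_self (hirr ψ')] at h1
    exact one_ne_zero h1
  by_contra hne
  push Not at hne
  have hsum : ∑ χ ∈ Finset.univ.image Φ, (χ : (Q → M) → ℂ) 1 ^ 2 = (Nat.card (Q → M) : ℂ) := by
    rw [Finset.sum_image fun a _ b _ h => hinj h, Nat.card_fun, Nat.cast_pow,
      Nat.card_eq_fintype_card (α := Q), ← Finset.card_univ, ← Finset.prod_const,
      ← sum_sq_degree (G := M), Fintype.prod_sum]
    refine Finset.sum_congr rfl fun ψ _ => ?_
    show (∏ q, (ψ q : M → ℂ) 1) ^ 2 = _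
    rw [Finset.prod_pow]
  have hall := sum_sq_degree (G := Q → M)
  rw [← Finset.sum_sdiff (Finset.subset_univ (Finset.univ.image Φ)), hsum, add_eq_right] at hall
  have hnat : ∀ χ : Cfsg.IrrCharacter (Q → M), ∃ n : ℕ, 0 < n ∧ (χ : (Q → M) → ℂ) 1 = n :=
    fun χ => IsIrr.exists_degree χ.2
  choose d hd hd' using hnat
  simp only [hd'] at hall
  have hall' : ∑ χ ∈ Finset.univ \ Finset.univ.image Φ, d χ ^ 2 = 0 := by exact_mod_cast hall
  have hmem : (⟨θ, hθ⟩ : Cfsg.IrrCharacter (Q → M)) ∈ Finset.univ \ Finset.univ.image Φ := by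
    simp only [Finset.mem_sdiff, Finset.mem_univ, true_and, Finset.mem_image, not_exists]
    exact fun ψ h => hne ψ (congrArg Subtype.val h).symm
  have := (Finset.sum_eq_zero_iff.1 hall') _ hmem
  exact (pow_pos (hd ⟨θ, hθ⟩) 2).ne' this

/-- Inner product with a product of induced characters, restricted to the product subgroup. -/
theorem sum_piSubgroup_ne_zero {f : (Q → M) → ℂ} (hf : Cfsg.IsClassFunction (Q → M) f)
    (H : Q → Subgroup M) (l : ∀ q, H q → ℂ)
    (hne : Cfsg.classInner f (piChar fun q => Cfsg.indFun (H q) (l q)) ≠ 0)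
    [Fintype (∀ q, H q)] :
    ∑ h : (∀ q, H q), f (fun q => (h q : M)) * conj (∏ q, l q (h q)) ≠ 0 := by
  classical
  intro h0
  apply hne
  set S : Subgroup (Q → M) := Subgroup.pi Set.univ H
  haveI : Fintype S := Fintype.ofFinite S
  set L : S → ℂ := fun s => ∏ q, l q ⟨(s : Q → M) q, s.2 q (Set.mem_univ q)⟩
  have hind : piChar (fun q => Cfsg.indFun (H q) (l q)) = Cfsg.indFun S L := by
    funext b
    simp only [piChar, indFun_apply, Finset.prod_mul_distrib, Fintype.prod_sum]
    have hext : ∀ y : Q → M,
        Cfsg.extendByZero S L y = ∏ q, Cfsg.extendByZero (H q) (l q) (y q) := by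
      intro y
      by_cases hy : y ∈ S
      · rw [extendByZero_of_mem _ hy]
        refine Finset.prod_congr rfl fun q _ => ?_
        rw [extendByZero_of_mem _ (hy q (Set.mem_univ q))]
      · rw [extendByZero_of_not_mem _ hy]
        obtain ⟨q, hq⟩ : ∃ q, y q ∉ H q := by
          by_contra hall
          push Not at hall
          exact hy fun q _ => hall q
        exact (Finset.prod_eq_zero (Finset.mem_univ q)
          (extendByZero_of_not_mem (l q) hq)).symm
    have hcard : (Nat.card S : ℂ) = ∏ q, (Nat.card (H q) : ℂ) := by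
      rw [← Nat.cast_prod, ← Nat.card_pi]
      exact congrArg _ (Nat.card_congr
        { toFun := fun s q => ⟨(s : Q → M) q, s.2 q (Set.mem_univ q)⟩
          invFun := fun h => ⟨fun q => h q, fun q _ => (h q).2⟩
          left_inv := fun s => rfl
          right_inv := fun h => rfl })
    rw [hcard, Finset.prod_inv_distrib]
    congr 1
    exact Finset.sum_congr rfl fun x _ => (hext _).symm
  rw [hind, classInner_indFun_right S L f hf, classInner_def]
  refine mul_eq_zero_of_right _ (Eq.trans ?_ h0)
  exact Fintype.sum_equiv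
    { toFun := fun s q => ⟨(s : Q → M) q, s.2 q (Set.mem_univ q)⟩
      invFun := fun h => ⟨fun q => h q, fun q _ => (h q).2⟩
      left_inv := fun s => rfl
      right_inv := fun h => rfl } _ _ fun s => rfl

end Cfsg.Agent.H81
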