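import Cfsg.Agent.H81.Adams
import Cfsg.Agent.CharInduce.Induce

/-!
# The twist `χ ↦ χ ∘ (· ^ k)` for `k` prime to the group order
-/

open scoped ComplexConjugate
open Cfsg.Agent.CharBasic

namespace Cfsg.Agent.H81

universe u

variable {G : Type u} [Group G]

theorem coprime_subgroup {k : ℕ} (hk : Nat.Coprime k (Nat.card G)) (H : Subgroup G) :
    Nat.Coprime k (Nat.card H) :=
  hk.coprime_dvd_right H.card_subgroup_dvd_card

theorem pow_bijective [Finite G] {k : ℕ} (hk : Nat.Coprime k (Nat.card G)) :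
    Function.Bijective (fun g : G => g ^ k) :=
  (powCoprime hk.symm).bijective

theorem mem_of_pow_mem [Finite G] {k : ℕ} (hk : Nat.Coprime k (Nat.card G)) {H : Subgroup G}
    {g : G} (h : g ^ k ∈ H) : g ∈ H := by
  obtain ⟨j, hj⟩ := exists_pow_eq_self_of_coprime
    (hk.coprime_dvd_right (orderOf_dvd_natCard g))
  exact hj ▸ H.pow_mem h j

theorem pow_pow_eq_self [Finite G] {k m : ℕ} (h : k ^ m ≡ 1 [MOD Nat.card G]) (g : G) :
    g ^ k ^ m = g := by
  conv_rhs => rw [← pow_one g]
  rw [pow_eq_pow_iff_modEq]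
  exact h.of_dvd (orderOf_dvd_natCard g)

theorem classInner_comp_pow [Fintype G] {k : ℕ} (hk : Nat.Coprime k (Nat.card G)) (φ ψ : G → ℂ) :
    classInner (fun g => φ (g ^ k)) (fun g => ψ (g ^ k)) = classInner φ ψ := by
  rw [classInner, classInner]
  congr 1
  exact Fintype.sum_bijective _ (pow_bijective hk) _ _ fun g => rfl

theorem isClassFunction_comp_pow {φ : G → ℂ} (hφ : IsClassFunction G φ) (k : ℕ) :
    IsClassFunction G (fun g => φ (g ^ k)) := fun g h => by
  show φ ((h * g * h⁻¹) ^ k) = φ (g ^ k)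
  rw [conj_pow]
  exact hφ _ _

theorem conjFun_comp_pow {N : Subgroup G} [N.Normal] (θ : N → ℂ) (x : G) (k : ℕ) :
    CharInduce.conjFun N (fun n => θ (n ^ k)) x = fun n => CharInduce.conjFun N θ x (n ^ k) := by
  funext n
  simp only [CharInduce.conjFun]
  congr 1
  apply Subtype.ext
  simp [conj_pow]

theorem indFun_comp_pow [Fintype G] {k : ℕ} (hk : Nat.Coprime k (Nat.card G)) (H : Subgroup G)
    (φ : H → ℂ) (g : G) : indFun H φ (g ^ k) = indFun H (fun h => φ (h ^ k)) g := by
  simp only [CharInduce.indFun_apply]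
  congr 1
  refine Finset.sum_congr rfl fun x _ => ?_
  have he : x⁻¹ * g ^ k * x = (x⁻¹ * g * x) ^ k := by simpa using (conj_pow (a := x⁻¹) (b := g)).symm
  rw [he]
  by_cases hmem : x⁻¹ * g * x ∈ H
  · rw [CharInduce.extendByZero_of_mem _ (H.pow_mem hmem k), CharInduce.extendByZero_of_mem _ hmem]
    rfl
  · rw [CharInduce.extendByZero_of_not_mem _ fun h => hmem (mem_of_pow_mem hk h),
      CharInduce.extendByZero_of_not_mem _ hmem]

/-- The twist of an irreducible character. -/
noncomputable def powIrr [Finite G] {k : ℕ} (hk : Nat.Coprime k (Nat.card G))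
    (χ : IrrCharacter G) : IrrCharacter G :=
  ⟨fun g => (χ : G → ℂ) (g ^ k), isIrr_comp_pow hk χ.2⟩

theorem powIrr_injective [Finite G] {k : ℕ} (hk : Nat.Coprime k (Nat.card G)) :
    Function.Injective (powIrr hk) := by
  intro a b h
  refine Subtype.ext (funext fun g => ?_)
  obtain ⟨x, rfl⟩ := (pow_bijective hk).2 g
  exact congrFun (congrArg Subtype.val h) x

theorem powIrr_iterate [Finite G] {k : ℕ} (hk : Nat.Coprime k (Nat.card G)) (m : ℕ)
    (χ : IrrCharacter G) (g : G) :
    (((powIrr hk)^[m] χ : IrrCharacter G) : G → ℂ) g = (χ : G → ℂ) (g ^ k ^ m) := by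
  induction m generalizing g with
  | zero => simp
  | succ m ih =>
    rw [Function.iterate_succ_apply']
    show (((powIrr hk)^[m] χ : IrrCharacter G) : G → ℂ) (g ^ k) = _
    rw [ih, ← pow_mul, ← pow_succ']

end Cfsg.Agent.H81
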