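import Cfsg.Agent.H81.Central
import Cfsg.Agent.BlockBasic.Center

/-!
# Characters over a faithful character of a central subgroup
-/

open scoped ComplexConjugate
open Cfsg.Agent.CharBasic

namespace Cfsg.Agent.H81

universe u

variable {G : Type u} [Group G] [Fintype G] (N : Subgroup G) [Fintype N]

omit [Fintype G] in
/-- An irreducible character of a central subgroup is a multiple of a linear character. -/
theorem exists_hom_of_central (hN : N ≤ Subgroup.center G) {ψ : N → ℂ}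
    (hψ : IsIrrCharacter N ψ) :
    ∃ ω : N →* ℂ, (∀ n, ψ n = ω n * ψ 1) ∧ ∀ n, ‖ω n‖ = 1 := by
  haveI : IsMulCommutative N :=
    ⟨⟨fun a b => Subtype.ext (Subgroup.mem_center_iff.1 (hN b.2) a)⟩⟩
  obtain ⟨α', hα, hα1⟩ := exists_centralHom (⊤ : Subgroup N)
    (fun a _ => Subgroup.mem_center_iff.2 fun b => mul_comm' b a) hψ
  refine ⟨α'.comp Subgroup.topEquiv.symm.toMonoidHom, fun n => ?_, fun n => hα1 _⟩
  simpa using hα (Subgroup.topEquiv.symm n) 1

open scoped Classical in
/-- The column sums over `ω`. -/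
theorem sum_over_sq (hN : N ≤ Subgroup.center G) {ψ : N → ℂ} (hψ : IsIrrCharacter N ψ)
    (ω : N →* ℂ) (hωψ : ∀ n, ψ n = ω n * ψ 1) (hω1 : ∀ n, ‖ω n‖ = 1) (g : G) :
    ∑ χ : IrrCharacter G, (if classInner (fun n : N => (χ : G → ℂ) n) ψ ≠ 0 then
        (χ : G → ℂ) g * conj ((χ : G → ℂ) g) else 0) =
      (Nat.card N : ℂ)⁻¹ *
        ∑ x : G, (if h : x * g * x⁻¹ * g⁻¹ ∈ N then conj (ω ⟨_, h⟩) else 0) := by
  have hN0 : (Nat.card N : ℂ) ≠ 0 := Nat.cast_ne_zero.2 Nat.card_pos.ne'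
  have hψ1 := IsIrr.one_ne_zero hψ
  have step : ∀ χ : IrrCharacter G, (if classInner (fun n : N => (χ : G → ℂ) n) ψ ≠ 0 then
        (χ : G → ℂ) g * conj ((χ : G → ℂ) g) else 0) =
      (Nat.card N : ℂ)⁻¹ * ∑ n : N, conj (ω n) *
        ((χ : G → ℂ) (n * g) * conj ((χ : G → ℂ) g)) := by
    intro χ
    obtain ⟨α, hα, hα1⟩ := exists_centralHom N hN χ.2
    have hrw : ∀ n : N, conj (ω n) * ((χ : G → ℂ) (n * g) * conj ((χ : G → ℂ) g)) =
        (α n * conj (ω n)) * ((χ : G → ℂ) g * conj ((χ : G → ℂ) g)) := fun n => by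
      rw [hα]; ring
    have hci : classInner (fun n : N => (χ : G → ℂ) n) ψ =
        (Nat.card N : ℂ)⁻¹ * (∑ n : N, α n * conj (ω n)) * ((χ : G → ℂ) 1 * conj (ψ 1)) := by
      rw [classInner_def, mul_assoc, Finset.sum_mul]
      congr 1
      refine Finset.sum_congr rfl fun n _ => ?_
      rw [show (χ : G → ℂ) (n : G) = α n * (χ : G → ℂ) 1 by simpa using hα n 1, hωψ, map_mul]
      ring
    simp only [hrw, ← Finset.sum_mul]
    split_ifs with h
    · have hsum : ∑ n : N, α n * conj (ω n) ≠ 0 := fun h0 => h (by rw [hci, h0]; ring)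
      have hval : ∑ n : N, α n * conj (ω n) = (Nat.card N : ℂ) := by
        rw [eq_of_sum_mul_conj_ne_zero α ω hω1 hsum,
          Finset.sum_congr rfl fun n _ => show ω n * conj (ω n) = 1 by
            rw [Complex.mul_conj', hω1]; simp]
        simp [Nat.card_eq_fintype_card]
      rw [hval, ← mul_assoc, inv_mul_cancel₀ hN0, one_mul]
    · rw [not_not, hci] at h
      have h2 : ∑ n : N, α n * conj (ω n) = 0 := by
        rcases mul_eq_zero.1 h with h3 | h3
        · exact (mul_eq_zero.1 h3).resolve_left (inv_ne_zero hN0)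
        · exact absurd h3 (mul_ne_zero (IsIrr.one_ne_zero χ.2) (by simpa using hψ1))
      rw [h2, zero_mul, mul_zero]
  simp only [step, ← Finset.mul_sum]
  congr 1
  rw [Finset.sum_comm]
  simp only [← Finset.mul_sum, second_orthogonality_count]
  simp only [Nat.card_eq_fintype_card, Fintype.card_subtype, Finset.natCast_card_filter]
  simp only [Finset.mul_sum, mul_ite, mul_one, mul_zero]
  rw [Finset.sum_comm]
  refine Finset.sum_congr rfl fun x _ => ?_
  split_ifs with h
  · rw [Finset.sum_eq_single (⟨_, h⟩ : N)]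
    · simp
    · intro n _ hn
      rw [if_neg fun e => hn (Subtype.ext (eq_mul_inv_of_mul_eq e.symm))]
    · simp
  · refine Finset.sum_eq_zero fun n _ => ?_
    rw [if_neg fun e => h (by rw [e, mul_inv_cancel_right]; exact n.2)]

open scoped Classical in
/-- Special elements count centralisers, the others nothing. -/
theorem sum_commutator_eq (hN : N ≤ Subgroup.center G) (ω : N →* ℂ)
    (hfaith : ∀ n, ω n = 1 → n = 1) (g : G) :
    ∑ x : G, (if h : x * g * x⁻¹ * g⁻¹ ∈ N then conj (ω ⟨_, h⟩) else 0) =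
      if (∀ x : G, x * g * x⁻¹ * g⁻¹ ∈ N → x * g = g * x) then
        (Nat.card (Subgroup.centralizer ({g} : Set G)) : ℂ) else 0 := by
  classical
  split_ifs with hs
  · rw [Nat.card_eq_fintype_card, Fintype.card_subtype, Finset.natCast_card_filter]
    refine Finset.sum_congr rfl fun x _ => ?_
    by_cases hc : x ∈ Subgroup.centralizer ({g} : Set G)
    · have hx : x * g * x⁻¹ * g⁻¹ = 1 := by
        rw [Subgroup.mem_centralizer_singleton_iff.1 hc, mul_inv_cancel_right, mul_inv_cancel]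
      rw [dif_pos (hx ▸ N.one_mem), if_pos hc,
        show (⟨x * g * x⁻¹ * g⁻¹, hx ▸ N.one_mem⟩ : N) = 1 from Subtype.ext hx, map_one, map_one]
    · rw [dif_neg fun h => hc (Subgroup.mem_centralizer_singleton_iff.2 (hs x h)), if_neg hc]
  · push Not at hs
    obtain ⟨x₀, hm, hne⟩ := hs
    set m : N := ⟨_, hm⟩
    set T := ∑ x : G, (if h : x * g * x⁻¹ * g⁻¹ ∈ N then conj (ω ⟨_, h⟩) else 0) with hT
    have hmove : conj (ω m) * T = T := by
      rw [hT, Finset.mul_sum]
      refine Fintype.sum_equiv (Equiv.mulLeft x₀) _ _ fun x => ?_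
      show _ = if h : x₀ * x * g * (x₀ * x)⁻¹ * g⁻¹ ∈ N then conj (ω ⟨_, h⟩) else 0
      by_cases h : x * g * x⁻¹ * g⁻¹ ∈ N
      · have hcomm : x₀ * (x * g * x⁻¹ * g⁻¹) = (x * g * x⁻¹ * g⁻¹) * x₀ :=
          Subgroup.mem_center_iff.1 (hN h) x₀
        have key : x₀ * x * g * (x₀ * x)⁻¹ * g⁻¹ = (x * g * x⁻¹ * g⁻¹) * (m : G) := by
          show _ = (x * g * x⁻¹ * g⁻¹) * (x₀ * g * x₀⁻¹ * g⁻¹)
          calc x₀ * x * g * (x₀ * x)⁻¹ * g⁻¹
              = (x₀ * (x * g * x⁻¹ * g⁻¹)) * (g * x₀⁻¹ * g⁻¹) := by group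
            _ = _ := by rw [hcomm]; group
        have h' : x₀ * x * g * (x₀ * x)⁻¹ * g⁻¹ ∈ N := key ▸ N.mul_mem h m.2
        rw [dif_pos h, ← map_mul, ← map_mul]
        refine Eq.trans ?_ (dif_pos h').symm
        congr 2
        exact Subtype.ext ((Subgroup.mem_center_iff.1 (hN h) (m : G)).trans key.symm)
      · rw [dif_neg h, mul_zero]
        have hneg : x₀ * x * g * (x₀ * x)⁻¹ * g⁻¹ ∉ N := fun h' => h <| by
          have hc2 : x₀ * g * x₀⁻¹ * g⁻¹ ∈ Subgroup.center G := hN hm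
          have hmid : x * g * x⁻¹ * g⁻¹ = x₀⁻¹ * ((x₀ * x * g * (x₀ * x)⁻¹ * g⁻¹) *
              (x₀ * g * x₀⁻¹ * g⁻¹)⁻¹) * x₀ := by group
          rw [hmid]
          have hn := N.mul_mem h' (N.inv_mem hm)
          rw [Subgroup.mem_center_iff.1 (hN hn) x₀⁻¹, inv_mul_cancel_right]
          exact hn
        rw [dif_neg hneg]
    have hm1 : conj (ω m) ≠ 1 := fun h1 => hne (by
      have h2 : ω m = 1 := by simpa using congrArg (starRingEnd ℂ) h1
      have h3 : x₀ * g * x₀⁻¹ * g⁻¹ = 1 := congrArg Subtype.val (hfaith m h2)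
      rwa [mul_inv_eq_one, mul_inv_eq_iff_eq_mul] at h3)
    have : (conj (ω m) - 1) * T = 0 := by rw [sub_mul, hmove, one_mul, sub_self]
    exact (mul_eq_zero.1 this).resolve_left (sub_ne_zero.2 hm1)

/-- The number of characters over a faithful character of a central subgroup. -/
theorem card_over_eq_card_special [N.Normal] (hN : N ≤ Subgroup.center G) {ψ : N → ℂ}
    (hψ : IsIrrCharacter N ψ) (hfaith : ∀ n, ψ n = ψ 1 → n = 1) :
    Nat.card {χ : IrrCharacter G // classInner (fun n : N => (χ : G → ℂ) n) ψ ≠ 0} =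
      Nat.card {C : ConjClasses (G ⧸ N) // ∃ g : G, ConjClasses.mk (g : G ⧸ N) = C ∧
        ∀ x : G, x⁻¹ * g⁻¹ * x * g ∈ N → x * g = g * x} := by
  classical
  obtain ⟨ω, hωψ, hω1⟩ := exists_hom_of_central N hN hψ
  have hf : ∀ n, ω n = 1 → n = 1 := fun n h => hfaith n (by rw [hωψ, h, one_mul])
  let special : G → Prop := fun g => ∀ x : G, x * g * x⁻¹ * g⁻¹ ∈ N → x * g = g * x
  have hspec : ∀ g, special g ↔ ∀ x : G, x⁻¹ * g⁻¹ * x * g ∈ N → x * g = g * x := by
    intro g
    refine ⟨fun h x hx => ?_, fun h x hx => ?_⟩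
    · have h2 : x⁻¹ * g * x⁻¹⁻¹ * g⁻¹ ∈ N := by
        have h3 := Subgroup.Normal.conj_mem ‹N.Normal› _ (N.inv_mem hx) g
        simpa [mul_assoc] using h3
      exact ((Commute.inv_left_iff (a := x) (b := g)).1 (h x⁻¹ h2)).eq
    · have h2 : x⁻¹⁻¹ * g⁻¹ * x⁻¹ * g ∈ N := by
        have h3 := Subgroup.Normal.conj_mem ‹N.Normal› _ (N.inv_mem hx) g⁻¹
        simpa [mul_assoc] using h3
      exact ((Commute.inv_left_iff (a := x) (b := g)).1 (h x⁻¹ h2)).eq
  -- special only depends on the class in the quotient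
  have hmul : ∀ (g : G) (n : G), n ∈ N → special g → special (g * n) := by
    intro g n hn h x hx
    have hc : ∀ y : G, y * n = n * y := Subgroup.mem_center_iff.1 (hN hn)
    have he : x * (g * n) * x⁻¹ * (g * n)⁻¹ = x * g * x⁻¹ * g⁻¹ := by
      calc x * (g * n) * x⁻¹ * (g * n)⁻¹ = x * g * (n * x⁻¹) * n⁻¹ * g⁻¹ := by group
        _ = _ := by rw [← hc]; group
    rw [he] at hx
    rw [← mul_assoc, h x hx, mul_assoc, hc x, mul_assoc]
  have hconj : ∀ g c : G, special g → special (c * g * c⁻¹) := by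
    intro g c h x hx
    have he : (c⁻¹ * x * c) * g * (c⁻¹ * x * c)⁻¹ * g⁻¹ =
        c⁻¹ * (x * (c * g * c⁻¹) * x⁻¹ * (c * g * c⁻¹)⁻¹) * c⁻¹⁻¹ := by group
    have h2 := h (c⁻¹ * x * c) (he ▸ Subgroup.Normal.conj_mem ‹N.Normal› _ hx c⁻¹)
    calc x * (c * g * c⁻¹) = c * ((c⁻¹ * x * c) * g) * c⁻¹ := by group
      _ = _ := by rw [h2]; group
  let spQ : G ⧸ N → Prop := fun q => special q.out
  have hspQ : ∀ g : G, spQ (g : G ⧸ N) ↔ special g := by
    intro g
    obtain ⟨n, hn⟩ := QuotientGroup.mk_out_eq_mul N g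
    show special (g : G ⧸ N).out ↔ _
    rw [hn]
    exact ⟨fun h => by simpa using hmul _ _ (N.inv_mem n.2) h, hmul g n n.2⟩
  have hspQc : ∀ q r : G ⧸ N, IsConj q r → spQ q → spQ r := by
    intro q r hqr h
    obtain ⟨c, rfl⟩ := isConj_iff.1 hqr
    obtain ⟨c, rfl⟩ := QuotientGroup.mk'_surjective N c
    obtain ⟨g, rfl⟩ := QuotientGroup.mk'_surjective N q
    exact (hspQ _).2 (hconj g c ((hspQ g).1 h))
  -- the count
  have hG0 : (Nat.card G : ℂ) ≠ 0 := Nat.cast_ne_zero.2 Nat.card_pos.ne'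
  have hN0 : (Nat.card N : ℂ) ≠ 0 := Nat.cast_ne_zero.2 Nat.card_pos.ne'
  have hL : (Nat.card {χ : IrrCharacter G // classInner (fun n : N => (χ : G → ℂ) n) ψ ≠ 0} : ℂ) =
      (Nat.card G : ℂ)⁻¹ * (Nat.card N : ℂ)⁻¹ * ∑ g : G,
        if special g then (Nat.card (Subgroup.centralizer ({g} : Set G)) : ℂ) else 0 := by
    have key : ∀ g : G, (Nat.card N : ℂ)⁻¹ *
        (if special g then (Nat.card (Subgroup.centralizer ({g} : Set G)) : ℂ) else 0) =
        ∑ χ : IrrCharacter G, (if classInner (fun n : N => (χ : G → ℂ) n) ψ ≠ 0 then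
          (χ : G → ℂ) g * conj ((χ : G → ℂ) g) else 0) := fun g => by
      rw [sum_over_sq N hN hψ ω hωψ hω1 g, sum_commutator_eq N hN ω hf g]
    rw [Nat.card_eq_fintype_card, Fintype.card_subtype, Finset.natCast_card_filter, mul_assoc,
      Finset.mul_sum Finset.univ, Finset.sum_congr rfl (fun g _ => key g), Finset.sum_comm,
      Finset.mul_sum]
    refine Finset.sum_congr rfl fun χ _ => ?_
    split_ifs with h
    · rw [← classInner_irr_self χ.2, classInner_def]
    · simp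
  haveI : Finite (ConjClasses (G ⧸ N)) := Finite.of_surjective _ ConjClasses.mk_surjective
  haveI : Fintype (ConjClasses (G ⧸ N)) := Fintype.ofFinite _
  haveI : Fintype (G ⧸ N) := Fintype.ofFinite _
  have hterm : ∀ g : G, (Nat.card G : ℂ)⁻¹ * (Nat.card N : ℂ)⁻¹ *
      (if special g then (Nat.card (Subgroup.centralizer ({g} : Set G)) : ℂ) else 0) =
      (Nat.card N : ℂ)⁻¹ * if spQ (g : G ⧸ N) then
        ((Subgroup.centralizer ({(g : G ⧸ N)} : Set (G ⧸ N))).index : ℂ)⁻¹ else 0 := by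
    intro g
    simp only [hspQ g]
    split_ifs with h
    · have hcen : Subgroup.centralizer ({g} : Set G) =
          (Subgroup.centralizer ({(g : G ⧸ N)} : Set (G ⧸ N))).comap (QuotientGroup.mk' N) := by
        ext x
        rw [Subgroup.mem_comap, Subgroup.mem_centralizer_singleton_iff,
          Subgroup.mem_centralizer_singleton_iff]
        refine ⟨fun hx => by simp [← QuotientGroup.mk_mul, hx], fun hx => h x ?_⟩
        rw [← QuotientGroup.eq_one_iff]
        simp only [QuotientGroup.mk'_apply] at hx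
        rw [QuotientGroup.mk_mul, QuotientGroup.mk_mul, QuotientGroup.mk_mul, QuotientGroup.mk_inv,
          QuotientGroup.mk_inv, hx, mul_inv_cancel_right, mul_inv_cancel]
      have hi := (Subgroup.centralizer ({g} : Set G)).index_mul_card
      rw [show (Subgroup.centralizer ({g} : Set G)).index =
          (Subgroup.centralizer ({(g : G ⧸ N)} : Set (G ⧸ N))).index by
            rw [hcen, Subgroup.index_comap_of_surjective _ (QuotientGroup.mk'_surjective N)]] at hi
      have h0 : ((Subgroup.centralizer ({(g : G ⧸ N)} : Set (G ⧸ N))).index : ℂ) ≠ 0 :=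
        Nat.cast_ne_zero.2 Subgroup.index_ne_zero_of_finite
      rw [← hi, Nat.cast_mul]
      have := Nat.cast_ne_zero (R := ℂ).2 (Nat.card_pos (α := Subgroup.centralizer ({g} : Set G))).ne'
      field_simp
    · simp
  have hfib : ∀ q : G ⧸ N, (Finset.univ.filter fun g : G => (g : G ⧸ N) = q).card = Nat.card N := by
    intro q
    rw [← Fintype.card_subtype, ← Nat.card_eq_fintype_card]
    obtain ⟨g, rfl⟩ := QuotientGroup.mk'_surjective N q
    exact (Nat.card_congr (Equiv.subtypeEquiv (Equiv.mulLeft g) fun n => by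
      rw [eq_comm (a := ((Equiv.mulLeft g n : G) : G ⧸ N)), QuotientGroup.mk'_apply, QuotientGroup.eq]
      simp)).symm
  rw [← Nat.cast_inj (R := ℂ), hL, Finset.mul_sum, Finset.sum_congr rfl (fun g _ => hterm g),
    ← Finset.mul_sum, ← Finset.sum_fiberwise Finset.univ (fun g : G => (g : G ⧸ N)),
    Finset.sum_congr rfl fun q _ => Finset.sum_congr rfl fun g (hg : g ∈ _) => by
      rw [(Finset.mem_filter.1 hg).2]]
  simp only [Finset.sum_const, hfib, nsmul_eq_mul, ← Finset.mul_sum]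
  rw [← mul_assoc, inv_mul_cancel₀ hN0, one_mul, Nat.card_eq_fintype_card, Fintype.card_subtype,
    Finset.natCast_card_filter,
    ← Finset.sum_fiberwise Finset.univ (fun q : G ⧸ N => ConjClasses.mk q)]
  refine Finset.sum_congr rfl fun C _ => ?_
  obtain ⟨q, rfl⟩ := ConjClasses.mk_surjective C
  have hset : (Finset.univ.filter fun r : G ⧸ N => ConjClasses.mk r = ConjClasses.mk q) =
      Finset.univ.filter fun r => IsConj q r := Finset.filter_congr fun r _ => by
    rw [ConjClasses.mk_eq_mk_iff_isConj, isConj_comm]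
  have hiff : (∃ g : G, ConjClasses.mk (g : G ⧸ N) = ConjClasses.mk q ∧
      ∀ x : G, x⁻¹ * g⁻¹ * x * g ∈ N → x * g = g * x) ↔ spQ q := by
    refine ⟨fun ⟨g, hgq, hg⟩ => hspQc _ _ (ConjClasses.mk_eq_mk_iff_isConj.1 hgq)
      ((hspQ g).2 ((hspec g).2 hg)), fun h => ⟨q.out, by rw [QuotientGroup.out_eq'],
      (hspec _).1 h⟩⟩
  have hconst : ∀ r ∈ (Finset.univ.filter fun r => IsConj q r),
      (if spQ r then ((Subgroup.centralizer ({r} : Set (G ⧸ N))).index : ℂ)⁻¹ else 0) =
      if spQ q then ((Subgroup.centralizer ({q} : Set (G ⧸ N))).index : ℂ)⁻¹ else 0 := by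
    intro r hr
    have hqr := (Finset.mem_filter.1 hr).2
    have h1 : spQ r ↔ spQ q := ⟨hspQc r q hqr.symm, hspQc q r hqr⟩
    have h2 : (Subgroup.centralizer ({r} : Set (G ⧸ N))).index =
        (Subgroup.centralizer ({q} : Set (G ⧸ N))).index := by
      rw [← BlockBasic.card_class, ← BlockBasic.card_class]
      congr 1
      exact Finset.filter_congr fun s _ => ⟨hqr.trans, hqr.symm.trans⟩
    simp only [h1, h2]
  rw [hset, Finset.sum_congr rfl hconst, Finset.sum_const, BlockBasic.card_class, nsmul_eq_mul]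
  simp only [hiff]
  split_ifs with h
  · exact mul_inv_cancel₀ (Nat.cast_ne_zero.2 Subgroup.index_ne_zero_of_finite)
  · simp

end Cfsg.Agent.H81
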