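import Cfsg.Agent.H84.TraceFixed
import Mathlib.LinearAlgebra.Matrix.ToLin
import Mathlib.RingTheory.LocalRing.ResidueField.Basic
import Mathlib.LinearAlgebra.Matrix.Basis

/-!
# Lattices over a valuation subring of `ℂ`

Every subspace of `ℂ^ι` has a basis of integral vectors with pivot coordinates, and every
representation of a finite group has an integral matrix form.
-/

set_option autoImplicit false
set_option linter.unusedSectionVars false

namespace Cfsg.Agent.H81

open Module Matrix

variable (A : ValuationSubring ℂ)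

/-- Some nonzero entry of a nonzero tuple divides all the others. -/
theorem exists_dividing_entry {ι : Type*} [Fintype ι] (f : ι → ℂ) (hf : f ≠ 0) :
    ∃ i, f i ≠ 0 ∧ ∀ j, f j / f i ∈ A := by
  obtain ⟨j0, hj0⟩ : ∃ j, f j ≠ 0 := Function.ne_iff.1 hf
  obtain ⟨i, -, hmax⟩ := Finset.exists_max_image Finset.univ (fun i => A.valuation (f i))
    ⟨j0, Finset.mem_univ j0⟩
  have hne : f i ≠ 0 := fun h => hj0 (by simpa [h] using hmax j0 (Finset.mem_univ j0))
  refine ⟨i, hne, fun j => ?_⟩
  rw [← A.valuation_le_one_iff, map_div₀, div_le_one₀ (zero_lt_iff.2 (by simpa using hne))]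
  exact hmax j (Finset.mem_univ j)

/-- Every subspace has integral spanning vectors with pivot coordinates. -/
theorem exists_pivot_basis {ι : Type*} [Fintype ι] [DecidableEq ι] (V : Submodule ℂ (ι → ℂ)) :
    ∃ (b : Fin (finrank ℂ V) → ι → A) (piv : Fin (finrank ℂ V) → ι),
      (∀ i j, b j (piv i) = if i = j then 1 else 0) ∧
      (∀ j, (fun l => (b j l : ℂ)) ∈ V) ∧
      ∀ v ∈ V, v = ∑ j, v (piv j) • fun l => (b j l : ℂ) := by
  generalize hm : finrank ℂ V = m
  induction m generalizing V with
  | zero =>
    refine ⟨Fin.elim0, Fin.elim0, fun i => i.elim0, fun j => j.elim0, fun v hv => ?_⟩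
    rw [Submodule.finrank_eq_zero] at hm
    rw [hm, Submodule.mem_bot] at hv
    simp [hv]
  | succ m ih =>
    obtain ⟨w, hw, hw0⟩ : ∃ w ∈ V, w ≠ 0 := by
      by_contra h
      push Not at h
      rw [(Submodule.eq_bot_iff V).2 h, finrank_bot] at hm
      omega
    obtain ⟨i0, hi0, hdiv⟩ := exists_dividing_entry A w hw0
    let V' : Submodule ℂ (ι → ℂ) := V ⊓ LinearMap.ker (LinearMap.proj i0)
    have hV' : finrank ℂ V' = m := by
      let f : V →ₗ[ℂ] ℂ := (LinearMap.proj i0).comp V.subtype
      have hr : LinearMap.range f = ⊤ := by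
        rw [eq_top_iff]
        exact fun c _ => ⟨(c / w i0) • ⟨w, hw⟩, by simp [f, hi0]⟩
      have h := LinearMap.finrank_range_add_finrank_ker f
      have hk : LinearMap.ker f = V'.comap V.subtype := by
        ext v; simp [f, V']
      have hk' : finrank ℂ (LinearMap.ker f) = finrank ℂ V' := by
        rw [hk]; exact (Submodule.comapSubtypeEquivOfLe inf_le_left).finrank_eq
      rw [hr, finrank_top, finrank_self, hk', hm] at h
      omega
    obtain ⟨b', piv', hb1, hb2, hb3⟩ := ih V' hV'
    have hb0 : ∀ j, b' j i0 = 0 := fun j => Subtype.ext (by simpa using (hb2 j).2)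
    let u : ι → A := fun l => ⟨_, hdiv l⟩
    let b0 : ι → A := fun l => u l - ∑ j, u (piv' j) * b' j l
    have hu : u i0 = 1 := Subtype.ext (by simp [u, hi0])
    have hb00 : b0 i0 = 1 := by simp [b0, hb0, hu]
    have hb0p : ∀ i, b0 (piv' i) = 0 := fun i => by simp [b0, hb1, mul_ite]
    have hb0V : (fun l => (b0 l : ℂ)) ∈ V := by
      have : (fun l => (b0 l : ℂ)) =
          (w i0)⁻¹ • w - ∑ j, (u (piv' j) : ℂ) • fun l => (b' j l : ℂ) := by
        funext l
        simp [b0, u, div_eq_inv_mul, Finset.sum_apply, AddSubmonoidClass.coe_finsetSum]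
      rw [this]
      exact V.sub_mem (V.smul_mem _ hw)
        (V.sum_mem fun j _ => V.smul_mem _ (hb2 j).1)
    refine ⟨Fin.cons b0 b', Fin.cons i0 piv', ?_, ?_, ?_⟩
    · intro i j
      induction i using Fin.cases with
      | zero =>
        induction j using Fin.cases with
        | zero => simp [hb00]
        | succ j => simp [hb0, (Fin.succ_ne_zero j).symm]
      | succ i =>
        induction j using Fin.cases with
        | zero => simp [hb0p, Fin.succ_ne_zero i]
        | succ j => simp [hb1]
    · intro j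
      induction j using Fin.cases with
      | zero => simpa using hb0V
      | succ j => simpa using (hb2 j).1
    · intro v hv
      set v' := v - v i0 • fun l => (b0 l : ℂ) with hv'
      have hv'V : v' ∈ V' := ⟨V.sub_mem hv (V.smul_mem _ hb0V), by simp [v', hb00]⟩
      have h := hb3 v' hv'V
      have hp : ∀ j, v' (piv' j) = v (piv' j) := fun j => by simp [v', hb0p]
      simp only [hp, v', sub_eq_iff_eq_add'] at h
      rw [Fin.sum_univ_succ]
      simpa using h

/-- The residues of pivot vectors are linearly independent. -/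
theorem linearIndependent_pivot {ι κ k : Type*} [Fintype κ] [DecidableEq κ] [CommRing k]
    (b : κ → ι → k) (piv : κ → ι) (hb : ∀ i j, b j (piv i) = if i = j then 1 else 0) :
    LinearIndependent k b := by
  rw [Fintype.linearIndependent_iff]
  intro c hc i
  simpa [Finset.sum_apply, hb] using congrFun hc (piv i)

/-- The finitely generated `A`-submodules spanning `ℂ^n` are free of rank `n`. -/
theorem exists_lattice_basis {n : ℕ} {κ : Type*} [Finite κ] (s : κ → Fin n → ℂ)
    (hs : Submodule.span ℂ (Set.range s) = ⊤) :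
    ∃ b : Basis (Fin n) ℂ (Fin n → ℂ), (∀ i, b i ∈ Submodule.span A (Set.range s)) ∧
      ∀ v ∈ Submodule.span A (Set.range s), ∀ i, b.repr v i ∈ A := by
  classical
  set N := Submodule.span A (Set.range s) with hN
  have hex : ∃ c : ℕ, ∃ T : Finset (Fin n → ℂ), T.card = c ∧ Submodule.span A (T : Set _) = N :=
    ⟨_, (Set.finite_range s).toFinset, rfl, by rw [Set.Finite.coe_toFinset]⟩
  obtain ⟨T, hTc, hT⟩ := Nat.find_spec hex
  have hli : LinearIndependent ℂ (fun v : T => (v : Fin n → ℂ)) := by
    by_contra hdep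
    obtain ⟨α, hα, j, hj⟩ := Fintype.not_linearIndependent_iff.1 hdep
    obtain ⟨i, hi, hdiv⟩ := exists_dividing_entry A α (fun h => hj (congrFun h j))
    have hmem : (i : Fin n → ℂ) ∈
        Submodule.span A ((T.erase (i : Fin n → ℂ) : Finset _) : Set (Fin n → ℂ)) := by
      have h0 : (i : Fin n → ℂ) =
          ∑ l ∈ Finset.univ.erase i, (-⟨_, hdiv l⟩ : A) • (l : Fin n → ℂ) := by
        have h1 : ∑ l, (α l / α i) • (l : Fin n → ℂ) = 0 := by
          simp only [div_eq_inv_mul, mul_smul, ← Finset.smul_sum, hα, smul_zero]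
        rw [← Finset.add_sum_erase _ _ (Finset.mem_univ i), div_self hi, one_smul,
          add_eq_zero_iff_eq_neg, ← Finset.sum_neg_distrib] at h1
        refine h1.trans (Finset.sum_congr rfl fun l _ => ?_)
        rw [neg_smul, ← algebraMap_smul ℂ (⟨_, hdiv l⟩ : A) (l : Fin n → ℂ)]
        rfl
      have h2 : ∑ l ∈ Finset.univ.erase i, (-⟨_, hdiv l⟩ : A) • (l : Fin n → ℂ) ∈
          Submodule.span A ((T.erase (i : Fin n → ℂ) : Finset _) : Set (Fin n → ℂ)) := by
        refine Submodule.sum_mem _ fun l hl => Submodule.smul_mem _ _ (Submodule.subset_span ?_)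
        simpa using fun h => (Finset.mem_erase.1 hl).1 (Subtype.ext h)
      rwa [← h0] at h2
    refine Nat.find_min hex (hTc ▸ Finset.card_erase_lt_of_mem i.2) ⟨_, rfl, ?_⟩
    refine le_antisymm (hT ▸ Submodule.span_mono (by simp)) (hT ▸ Submodule.span_le.2 ?_)
    intro v hv
    by_cases hvi : v = (i : Fin n → ℂ)
    · exact hvi ▸ hmem
    · exact Submodule.subset_span (by simpa [hvi] using hv)
  have htop : ⊤ ≤ Submodule.span ℂ (Set.range fun v : T => (v : Fin n → ℂ)) := by
    rw [← hs]
    refine Submodule.span_le.2 ?_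
    intro v hv
    have h1 : v ∈ Submodule.span A (T : Set (Fin n → ℂ)) := hT ▸ Submodule.subset_span hv
    have h2 := Submodule.span_le_restrictScalars A ℂ (T : Set (Fin n → ℂ)) h1
    simpa using h2
  let b0 := Basis.mk hli htop
  have hcard : Fintype.card T = n := by
    rw [← finrank_eq_card_basis b0, Module.finrank_fin_fun]
  let e := Fintype.equivFinOfCardEq hcard
  refine ⟨b0.reindex e, fun i => ?_, fun v hv i => ?_⟩
  · rw [Basis.reindex_apply, Basis.mk_apply]
    exact hT ▸ Submodule.subset_span (e.symm i).2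
  · rw [← hT] at hv
    induction hv using Submodule.span_induction with
    | mem x hx =>
      have hx' : x = b0 ⟨x, hx⟩ := by simp [b0]
      rw [hx', Basis.repr_reindex_apply, Basis.repr_self, Finsupp.single_apply]
      split_ifs
      · exact A.one_mem
      · exact A.zero_mem
    | zero => simp
    | add x y _ _ h1 h2 => rw [map_add, Finsupp.add_apply]; exact A.add_mem _ _ h1 h2
    | smul a x _ h =>
      rw [← algebraMap_smul ℂ a x, map_smul, Finsupp.smul_apply, smul_eq_mul]
      exact A.mul_mem _ _ a.2 h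

/-- Every representation of a finite group has a matrix form with entries in `A`. -/
theorem exists_integral_form {G : Type*} [Group G] [Finite G] {n : ℕ}
    (ρ : Representation ℂ G (Fin n → ℂ)) :
    ∃ (φ : G →* Matrix (Fin n) (Fin n) A) (e : (Fin n → ℂ) ≃ₗ[ℂ] (Fin n → ℂ)),
      ∀ g v, (φ g).map (fun a => (a : ℂ)) *ᵥ e v = e (ρ g v) := by
  classical
  let s : G × Fin n → Fin n → ℂ := fun x => ρ x.1 (Pi.single x.2 1)
  have hs : Submodule.span ℂ (Set.range s) = ⊤ := by
    rw [eq_top_iff, ← (Pi.basisFun ℂ (Fin n)).span_eq]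
    refine Submodule.span_mono ?_
    rintro _ ⟨i, rfl⟩
    exact ⟨(1, i), by simp [s]⟩
  obtain ⟨b, hb, hint⟩ := exists_lattice_basis A s hs
  have hstab : ∀ g, ∀ v ∈ Submodule.span A (Set.range s),
      ρ g v ∈ Submodule.span A (Set.range s) := by
    intro g v hv
    induction hv using Submodule.span_induction with
    | mem x hx =>
      obtain ⟨⟨h, i⟩, rfl⟩ := hx
      exact Submodule.subset_span ⟨(g * h, i), by simp [s]⟩
    | zero => simp
    | add x y _ _ h1 h2 => rw [map_add]; exact Submodule.add_mem _ h1 h2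
    | smul a x _ h =>
      rw [← algebraMap_smul ℂ a x, map_smul, algebraMap_smul]
      exact Submodule.smul_mem _ a h
  let f : Matrix (Fin n) (Fin n) A →+* Matrix (Fin n) (Fin n) ℂ := A.subtype.mapMatrix
  have hf : Function.Injective f := Matrix.map_injective Subtype.val_injective
  let M : G → Matrix (Fin n) (Fin n) A := fun g i j =>
    ⟨LinearMap.toMatrix b b (ρ g) i j, by
      rw [LinearMap.toMatrix_apply]; exact hint _ (hstab g _ (hb j)) i⟩
  have hM : ∀ g, f (M g) = LinearMap.toMatrix b b (ρ g) := fun g => rfl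
  let φ : G →* Matrix (Fin n) (Fin n) A :=
    { toFun := M
      map_one' := hf (by rw [hM, map_one, map_one f]; exact LinearMap.toMatrix_one b)
      map_mul' := fun g h => hf (by rw [map_mul f, hM, hM, hM, map_mul, LinearMap.toMatrix_mul]) }
  refine ⟨φ, b.equivFun, fun g v => ?_⟩
  have hφ : (φ g).map (fun a => (a : ℂ)) = LinearMap.toMatrix b b (ρ g) := rfl
  rw [hφ, Basis.equivFun_apply, Basis.equivFun_apply, LinearMap.toMatrix_mulVec_repr]

end Cfsg.Agent.H81
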