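import Cfsg.Agent.H81.JordanBound
import Cfsg.Agent.H81.ValuationLattice
import Cfsg.Agent.H81.FixedProjection
import Mathlib.LinearAlgebra.Matrix.DotProduct
import Mathlib.LinearAlgebra.Eigenspace.Triangularizable
import Mathlib.Analysis.Complex.Polynomial.Basic
import Mathlib.GroupTheory.QuotientGroup.Basic

/-!
# The bound on fixed vectors in an irreducible lattice

For `P = ⟨x⟩` of order `p` with normalizer `P ⋊ E`, `O = C_E(x)`, an irreducible integral
representation on which `x` is unipotent of index less than `p` satisfies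
`(p + 1) * dim (fixed by P O) ≤ 2 * dim (fixed by O)`.
-/

set_option autoImplicit false
set_option linter.unusedSectionVars false

namespace Cfsg.Agent.H81

open Module Matrix

/-- The data attached to a Sylow subgroup `⟨x⟩` of prime order: `O` centralizes `x`, and `t`
generates the normalizer over `⟨x⟩ O`. -/
structure PrimeSylowData {G : Type*} [Group G] (p : ℕ) (x : G) (O : Subgroup G) (t : G)
    (e : ℕ) : Prop where
  order : orderOf x = p
  comm : ∀ o ∈ O, x * o = o * x
  coprime : ¬ p ∣ Nat.card O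
  t_mem : t ∈ Subgroup.normalizer ((Subgroup.zpowers x : Subgroup G) : Set G)
  t_norm : ∀ o, o ∈ O ↔ t * o * t⁻¹ ∈ O
  e_pos : 0 < e
  e_coprime : ¬ p ∣ e
  t_pow : t ^ e ∈ O
  normalizer_eq : ∀ g ∈ Subgroup.normalizer ((Subgroup.zpowers x : Subgroup G) : Set G),
    ∃ a i : ℕ, ∃ o ∈ O, g = x ^ a * (t ^ i * o)
  unique : ∀ g ∈ Subgroup.normalizer ((Subgroup.zpowers x : Subgroup G) : Set G),
    orderOf g = p → g ∈ Subgroup.zpowers x

section Residue

variable (A : ValuationSubring ℂ)

theorem natCast_inv_mem {p : ℕ} (hp : p.Prime) (hA : A.valuation (p : ℂ) < 1) {n : ℕ}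
    (hn : ¬ p ∣ n) : ((n : ℂ))⁻¹ ∈ A := by
  rw [← A.valuation_le_one_iff, map_inv₀]
  have h1 : A.valuation (n : ℂ) = 1 := by
    refine le_antisymm ((A.valuation_le_one_iff _).2 (natCast_mem A n)) (not_lt.1 fun hlt => ?_)
    obtain ⟨a, b, hab⟩ := (Int.isCoprime_iff_gcd_eq_one.2
      (by simpa [Int.gcd_natCast_natCast] using (hp.coprime_iff_not_dvd.2 hn).symm) :
        IsCoprime (n : ℤ) (p : ℤ))
    have h : (a : ℂ) * n + (b : ℂ) * p = 1 := by exact_mod_cast hab
    have hle : ∀ c : ℤ, A.valuation (c : ℂ) ≤ 1 := fun c =>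
      (A.valuation_le_one_iff _).2 (intCast_mem A c)
    have hlt' : A.valuation ((a : ℂ) * n + (b : ℂ) * p) < 1 := by
      refine (A.valuation.map_add _ _).trans_lt (max_lt ?_ ?_) <;> rw [map_mul]
      · exact (mul_le_of_le_one_left' (hle a)).trans_lt hlt
      · exact (mul_le_of_le_one_left' (hle b)).trans_lt hA
    rw [h, map_one] at hlt'
    exact lt_irrefl _ hlt'
  simp [h1]

theorem mem_of_pow_eq_one {z : ℂ} {m : ℕ} (hm : m ≠ 0) (h : z ^ m = 1) : z ∈ A := by
  rw [← A.valuation_le_one_iff, ← pow_le_one_iff hm, ← map_pow, h, map_one]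

theorem charP_residue {p : ℕ} (hp : p.Prime) (hA : A.valuation (p : ℂ) < 1) :
    CharP (IsLocalRing.ResidueField A) p := by
  refine (CharP.charP_iff_prime_eq_zero hp).2 ?_
  rw [← map_natCast (IsLocalRing.residue A), IsLocalRing.residue_eq_zero_iff,
    A.valuation_lt_one_iff]
  simpa using hA

/-- Coerce an integral vector to a complex one. -/
abbrev upVec {ι : Type*} (v : ι → A) : ι → ℂ := fun i => (v i : ℂ)

/-- Reduce an integral vector. -/
noncomputable abbrev redVec {ι : Type*} (v : ι → A) : ι → IsLocalRing.ResidueField A :=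
  fun i => IsLocalRing.residue A (v i)

/-- Coerce an integral matrix to a complex one. -/
noncomputable abbrev upMat (ι : Type*) [Fintype ι] [DecidableEq ι] : Matrix ι ι A →+* Matrix ι ι ℂ :=
  A.subtype.mapMatrix

/-- Reduce an integral matrix. -/
noncomputable abbrev redMat (ι : Type*) [Fintype ι] [DecidableEq ι] :
    Matrix ι ι A →+* Matrix ι ι (IsLocalRing.ResidueField A) :=
  (IsLocalRing.residue A).mapMatrix

variable {A} {ι : Type*} [Fintype ι] [DecidableEq ι]

theorem upVec_injective {v w : ι → A} (h : upVec A v = upVec A w) : v = w :=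
  funext fun i => Subtype.ext (congrFun h i)

theorem upMat_injective : Function.Injective (upMat A ι) :=
  Matrix.map_injective Subtype.val_injective

theorem mulVec_eq_of_up (M : Matrix ι ι A) (v w : ι → A)
    (h : upMat A ι M *ᵥ upVec A v = upVec A w) : M *ᵥ v = w :=
  upVec_injective (funext fun i => (RingHom.map_mulVec A.subtype M v i).trans (congrFun h i))

theorem redMat_mulVec (M : Matrix ι ι A) (v : ι → A) :
    redMat A ι M *ᵥ redVec A v = redVec A (M *ᵥ v) :=
  funext fun i => (RingHom.map_mulVec (IsLocalRing.residue A) M v i).symm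

/-- An integral idempotent onto the fixed space has reduction of no larger rank. -/
theorem finrank_range_redMat_le (M : Matrix ι ι A) (S : Submodule ℂ (ι → ℂ))
    (h : ∀ v, upMat A ι M *ᵥ v ∈ S) :
    finrank (IsLocalRing.ResidueField A) (LinearMap.range (Matrix.toLin' (redMat A ι M))) ≤
      finrank ℂ S := by
  obtain ⟨b, piv, -, -, hb⟩ := exists_pivot_basis A S
  have hle : LinearMap.range (Matrix.toLin' (redMat A ι M)) ≤
      Submodule.span (IsLocalRing.ResidueField A) (Set.range fun j => redVec A (b j)) := by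
    rintro _ ⟨v, rfl⟩
    choose v' hv' using fun i => IsLocalRing.residue_surjective (R := A) (v i)
    have hv : v = redVec A v' := funext fun i => (hv' i).symm
    rw [Matrix.toLin'_apply, hv, redMat_mulVec]
    have h1 := hb _ (h (upVec A v'))
    have h2 : upVec A (M *ᵥ v') = upVec A (∑ j, (M *ᵥ v') (piv j) • b j) := by
      have e : upMat A ι M *ᵥ upVec A v' = upVec A (M *ᵥ v') :=
        funext fun i => (RingHom.map_mulVec A.subtype M v' i).symm
      rw [e] at h1
      refine h1.trans (funext fun l => ?_)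
      simp [upVec, Finset.sum_apply, AddSubmonoidClass.coe_finsetSum]
    rw [upVec_injective h2]
    have h3 : redVec A (∑ j, (M *ᵥ v') (piv j) • b j) =
        ∑ j, IsLocalRing.residue A ((M *ᵥ v') (piv j)) • redVec A (b j) := by
      funext l
      simp [redVec, Finset.sum_apply]
    rw [h3]
    exact Submodule.sum_mem _ fun j _ =>
      Submodule.smul_mem _ _ (Submodule.subset_span ⟨j, rfl⟩)
  exact (Submodule.finrank_mono hle).trans ((finrank_range_le_card
    (R := IsLocalRing.ResidueField A) fun j => redVec A (b j)).trans_eq (Fintype.card_fin _))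

end Residue

section Main

variable {G : Type*} [Group G] [Finite G] {A : ValuationSubring ℂ} {p : ℕ} [hp : Fact p.Prime]
  {d : ℕ} {x t : G} {O : Subgroup G} {e : ℕ}

/-- The vectors fixed by `x` and `O` on which `t` acts by `μ`, for a family of matrices. -/
def eigenFixed (m : G → Matrix (Fin d) (Fin d) ℂ) (x t : G) (O : Subgroup G) (μ : ℂ) :
    Submodule ℂ (Fin d → ℂ) where
  carrier := {v | (∀ g ∈ insert x (O : Set G), m g *ᵥ v = v) ∧ m t *ᵥ v = μ • v}
  add_mem' {a b} ha hb := ⟨fun g hg => by rw [mulVec_add, ha.1 g hg, hb.1 g hg],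
    by rw [mulVec_add, ha.2, hb.2, smul_add]⟩
  zero_mem' := ⟨fun g _ => mulVec_zero _, by rw [mulVec_zero, smul_zero]⟩
  smul_mem' c a ha := ⟨fun g hg => by rw [mulVec_smul, ha.1 g hg],
    by rw [mulVec_smul, ha.2, smul_comm]⟩

theorem fix_zpowers (ψ : G →* Matrix (Fin d) (Fin d) ℂ) {v : Fin d → ℂ}
    (hv : ψ x *ᵥ v = v) : ∀ g ∈ Subgroup.zpowers x, ψ g *ᵥ v = v := by
  intro g hg
  obtain ⟨a, rfl⟩ := mem_powers_iff_mem_zpowers.2 hg
  clear hg
  simp only
  induction a with
  | zero => simp
  | succ a ih => rw [pow_succ, map_mul, ← mulVec_mulVec, hv, ih]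

theorem fix_zpowers_transpose (ψ : G →* Matrix (Fin d) (Fin d) ℂ) {v : Fin d → ℂ}
    (hv : (ψ x)ᵀ *ᵥ v = v) : ∀ g ∈ Subgroup.zpowers x, (ψ g)ᵀ *ᵥ v = v := by
  intro g hg
  obtain ⟨a, rfl⟩ := mem_powers_iff_mem_zpowers.2 hg
  clear hg
  simp only
  induction a with
  | zero => simp
  | succ a ih => rw [pow_succ, map_mul, transpose_mul, ← mulVec_mulVec, ih, hv]

theorem avgOn_transpose_mulVec (ψ : G →* Matrix (Fin d) (Fin d) ℂ) (H : Subgroup G) [Fintype H]
    {v : Fin d → ℂ} (hv : ∀ o ∈ H, (ψ o)ᵀ *ᵥ v = v) : (avgOn ψ H)ᵀ *ᵥ v = v := by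
  rw [avgOn, transpose_smul, transpose_sum, smul_mulVec, Matrix.sum_mulVec]
  simp [fun o : H => hv o o.2, ← Nat.cast_smul_eq_nsmul ℂ, smul_smul]

theorem specProj_transpose (T : Matrix (Fin d) (Fin d) ℂ) (μ : ℂ) (e : ℕ) :
    (specProj T μ e)ᵀ = specProj Tᵀ μ e := by
  simp only [specProj, transpose_smul, transpose_sum, transpose_pow]

/-- The eigenspace pairs: equal dimensions, adding up to the fixed space of `⟨x⟩ O`. -/
theorem eigenFixed_dims (ψ : G →* Matrix (Fin d) (Fin d) ℂ) (D : PrimeSylowData p x O t e)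
    {ζ : ℂ} (hζ : IsPrimitiveRoot ζ e) :
    (∀ j, finrank ℂ (eigenFixed (fun g => (ψ g)ᵀ) x t O (ζ ^ j)) =
      finrank ℂ (eigenFixed ψ x t O (ζ ^ j))) ∧
    ∑ j ∈ Finset.range e, finrank ℂ (eigenFixed ψ x t O (ζ ^ j)) =
      finrank ℂ (fixVec ψ (insert x (O : Set G))) := by
  cases nonempty_fintype G
  classical
  set P := Subgroup.zpowers x
  set Q := avgOn ψ P * avgOn ψ O with hQdef
  have hne : ∀ j, ζ ^ j ≠ 0 := fun j => pow_ne_zero j (hζ.ne_zero D.e_pos.ne')
  have hxP : x ∈ P := Subgroup.mem_zpowers x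
  have hcomm : ∀ o ∈ O, ψ o * avgOn ψ P = avgOn ψ P * ψ o := by
    intro o ho
    refine avgOn_comm ψ P fun g => ?_
    have h : ∀ h ∈ P, o * h * o⁻¹ = h := by
      intro h hh
      obtain ⟨k, rfl⟩ := Subgroup.mem_zpowers_iff.1 hh
      have hc : Commute o x := (D.comm o ho).symm
      rw [(hc.zpow_right k).eq, mul_inv_cancel_right]
    constructor
    · intro hg; rwa [h g hg]
    · intro hg
      have h1 := h _ hg
      have : o * g * o⁻¹ = g := by
        have h2 : o⁻¹ * (o * (o * g * o⁻¹) * o⁻¹) * o = o⁻¹ * (o * g * o⁻¹) * o := by rw [h1]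
        simpa [mul_assoc] using h2
      rwa [this] at hg
  have hQl : ∀ g ∈ insert x (O : Set G), ψ g * Q = Q := by
    intro g hg
    rcases Set.mem_insert_iff.1 hg with rfl | hg
    · rw [hQdef, ← mul_assoc, avgOn_mul_left ψ P hxP]
    · rw [hQdef, ← mul_assoc, hcomm g hg, mul_assoc, avgOn_mul_left ψ O hg]
  have hxO : ψ x * avgOn ψ O = avgOn ψ O * ψ x := by
    refine avgOn_comm ψ O fun o => ?_
    constructor
    · intro ho; rwa [D.comm o ho, mul_inv_cancel_right]
    · intro ho
      have h := D.comm _ ho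
      have h2 : x * o * x⁻¹ = o := by
        have h3 : x⁻¹ * (x * (x * o * x⁻¹)) = x⁻¹ * ((x * o * x⁻¹) * x) := by rw [h]
        simpa [mul_assoc] using h3
      rwa [h2] at ho
  have hQr : ∀ g ∈ insert x (O : Set G), Q * ψ g = Q := by
    intro g hg
    rcases Set.mem_insert_iff.1 hg with rfl | hg
    · rw [hQdef, mul_assoc, ← hxO, ← mul_assoc, avgOn_mul_right ψ P hxP]
    · rw [hQdef, mul_assoc, avgOn_mul_right ψ O hg]
  have htQ : Commute (ψ t) Q := by
    have h1 : Commute (ψ t) (avgOn ψ P) :=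
      avgOn_comm ψ P fun o => Subgroup.mem_normalizer_iff.1 D.t_mem o
    exact h1.mul_right (avgOn_comm ψ O D.t_norm)
  have hroot : ∀ j, ((ζ ^ j)⁻¹ • ψ t) ^ e * Q = Q := fun j => by
    rw [smul_pow, ← map_pow, inv_pow, ← pow_mul, mul_comm, pow_mul, hζ.pow_eq_one, one_pow,
      inv_one, one_smul, hQl _ (Set.mem_insert_of_mem x D.t_pow)]
  have hSQ : ∀ j, Commute (specProj (ψ t) (ζ ^ j) e) Q := fun j =>
    (Commute.sum_left _ _ _ fun i _ => (htQ.smul_left _).pow_left i).smul_left _
  have hSt : ∀ j, Commute (specProj (ψ t) (ζ ^ j) e) (ψ t) := fun j =>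
    (Commute.sum_left _ _ _ fun i _ => ((Commute.refl (ψ t)).smul_left _).pow_left i).smul_left _
  have hW : ∀ j, (specProj (ψ t) (ζ ^ j) e * Q).trace =
      (finrank ℂ (eigenFixed ψ x t O (ζ ^ j)) : ℂ) := by
    intro j
    refine trace_eq_finrank _ _ (fun v => ⟨fun g hg => ?_, ?_⟩) fun v hv => ?_
    · rw [mulVec_mulVec, (hSQ j).eq, ← mul_assoc, hQl g hg]
    · rw [mulVec_mulVec, mul_specProj _ (hne j) _ _ (hroot j), smul_mulVec]
    · rw [← mulVec_mulVec, hQdef, ← mulVec_mulVec,
        avgOn_mulVec ψ O fun o ho => hv.1 o (Set.mem_insert_of_mem x ho),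
        avgOn_mulVec ψ P (fix_zpowers ψ (hv.1 x (Set.mem_insert x _))),
        specProj_mulVec_self _ (hne j) D.e_pos hv.2]
  have hV : ∀ j, (specProj (ψ t) (ζ ^ j) e * Q).trace =
      (finrank ℂ (eigenFixed (fun g => (ψ g)ᵀ) x t O (ζ ^ j)) : ℂ) := by
    intro j
    rw [← trace_transpose]
    refine trace_eq_finrank _ _ (fun v => ⟨fun g hg => ?_, ?_⟩) fun v hv => ?_
    · rw [mulVec_mulVec, ← transpose_mul, mul_assoc, hQr g hg]
    · rw [mulVec_mulVec, ← transpose_mul, mul_assoc, ← htQ.eq, ← mul_assoc, (hSt j).eq, mul_assoc,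
        mul_specProj _ (hne j) _ _ (hroot j), transpose_smul, smul_mulVec]
    · rw [(hSQ j).eq, transpose_mul, hQdef, transpose_mul, ← mulVec_mulVec, ← mulVec_mulVec,
        avgOn_transpose_mulVec ψ P (fix_zpowers_transpose ψ (hv.1 x (Set.mem_insert x _))),
        avgOn_transpose_mulVec ψ O fun o ho => hv.1 o (Set.mem_insert_of_mem x ho),
        specProj_transpose, specProj_mulVec_self _ (hne j) D.e_pos hv.2]
  have hC : Q.trace = (finrank ℂ (fixVec ψ (insert x (O : Set G))) : ℂ) := by
    refine trace_eq_finrank _ _ (fun v g hg => ?_) fun v hv => ?_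
    · rw [mulVec_mulVec, hQl g hg]
    · rw [hQdef, ← mulVec_mulVec,
        avgOn_mulVec ψ O fun o ho => hv o (Set.mem_insert_of_mem x ho),
        avgOn_mulVec ψ P (fix_zpowers ψ (hv x (Set.mem_insert x _)))]
  refine ⟨fun j => by exact_mod_cast (hV j).symm.trans (hW j), ?_⟩
  have h : (∑ j ∈ Finset.range e, (finrank ℂ (eigenFixed ψ x t O (ζ ^ j)) : ℂ)) =
      (finrank ℂ (fixVec ψ (insert x (O : Set G))) : ℂ) := by
    rw [← hC, ← Finset.sum_congr rfl fun j _ => hW j, ← Matrix.trace_sum, ← Finset.sum_mul,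
      sum_specProj _ D.e_pos hζ, one_mul]
  exact_mod_cast h

/-- The key congruence: the pairing of a pair of eigenvectors. -/
theorem pairing_mem_range (hA : A.valuation (p : ℂ) < 1)
    (φ : G →* Matrix (Fin d) (Fin d) A) (D : PrimeSylowData p x O t e) (hd : 1 < d)
    (hirr : ∀ U : Submodule ℂ (Fin d → ℂ),
      (∀ g, ∀ v ∈ U, upMat A (Fin d) (φ g) *ᵥ v ∈ U) → U = ⊥ ∨ U = ⊤)
    (hnil : (redMat A (Fin d) (φ x) - 1) ^ (p - 1) = 0) (z : A) (w η : Fin d → A)
    (hw : ∀ g ∈ insert x (O : Set G), φ g *ᵥ w = w) (hwt : φ t *ᵥ w = z • w)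
    (hη : ∀ g ∈ insert x (O : Set G), η ᵥ* φ g = η) (hηt : η ᵥ* φ t = z • η)
    (b : ℕ) (q : Fin d → IsLocalRing.ResidueField A)
    (hq : q ∈ LinearMap.ker ((Matrix.toLin' (redMat A (Fin d) (φ x)) - 1) ^ b)) :
    (redVec A η ⬝ᵥ q) • redVec A w ∈
      LinearMap.range ((Matrix.toLin' (redMat A (Fin d) (φ x)) - 1) ^ (p - b)) := by
  classical
  cases nonempty_fintype G
  haveI := charP_residue A hp.out hA
  set N := Subgroup.normalizer ((Subgroup.zpowers x : Subgroup G) : Set G) with hN
  set f : Matrix (Fin d) (Fin d) A := vecMulVec w η with hf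
  have hf' : ∀ (g : G) (c : A), φ g *ᵥ w = c • w → η ᵥ* φ g = c • η → Commute (φ g) f := by
    intro g c h1 h2
    rw [Commute, SemiconjBy, hf, mul_vecMulVec, vecMulVec_mul, h1, h2, smul_vecMulVec,
      vecMulVec_smul]
  have hfN : ∀ g ∈ N, Commute (φ g) f := by
    intro g hg
    obtain ⟨a, i, o, ho, rfl⟩ := D.normalizer_eq g hg
    rw [map_mul, map_mul, map_pow, map_pow]
    refine ((hf' x 1 ?_ ?_).pow_left a).mul_left
      (((hf' t z hwt hηt).pow_left i).mul_left (hf' o 1 ?_ ?_))
    · simpa using hw x (Set.mem_insert x _)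
    · simpa using hη x (Set.mem_insert x _)
    · simpa using hw o (Set.mem_insert_of_mem x ho)
    · simpa using hη o (Set.mem_insert_of_mem x ho)
  let F : G ⧸ N → Matrix (Fin d) (Fin d) A := fun c => φ c.out * f * φ c.out⁻¹
  have hmk : ∀ g : G, F (g : G ⧸ N) = φ g * f * φ g⁻¹ := fun g => by
    obtain ⟨n, hn⟩ := QuotientGroup.mk_out_eq_mul N g
    show φ _ * f * φ _ = _
    rw [hn, map_mul, mul_assoc (φ g), (hfN _ n.2).eq, _root_.mul_inv_rev, map_mul]
    have h1 : φ (n : G) * φ (n : G)⁻¹ = 1 := by rw [← map_mul, mul_inv_cancel, map_one]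
    simp only [← mul_assoc]
    rw [mul_assoc (φ g * f), h1, mul_one]
  have hact : ∀ (g : G) (c : G ⧸ N), F (g • c) = φ g * F c * φ g⁻¹ := fun g c => by
    induction c using Quotient.inductionOn' with
    | h h =>
      show F ((g * h : G) : G ⧸ N) = φ g * F (h : G ⧸ N) * φ g⁻¹
      rw [hmk, hmk, map_mul, _root_.mul_inv_rev, map_mul]
      simp only [mul_assoc]
  set S := ∑ c : G ⧸ N, F c with hS
  have hcommS : ∀ g, Commute (φ g) S := by
    intro g
    have h : φ g * S * φ g⁻¹ = S := by
      rw [hS, Finset.mul_sum, Finset.sum_mul]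
      exact Fintype.sum_equiv (MulAction.toPerm g) _ _ fun c => by simp [hact]
    calc φ g * S = φ g * S * (φ g⁻¹ * φ g) := by
          rw [← map_mul, inv_mul_cancel, map_one, mul_one]
      _ = S * φ g := by rw [← mul_assoc, h]
  -- Schur
  haveI : Nonempty (Fin d) := ⟨⟨0, by omega⟩⟩
  obtain ⟨μ, hμ⟩ := Module.End.exists_eigenvalue (Matrix.toLin' (upMat A (Fin d) S))
  have hscal : S = (S ⟨0, by omega⟩ ⟨0, by omega⟩) • (1 : Matrix (Fin d) (Fin d) A) := by
    have htop := (hirr (Module.End.eigenspace (Matrix.toLin' (upMat A (Fin d) S)) μ) ?_).resolve_left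
      hμ
    · have h1 : upMat A (Fin d) S = μ • 1 := Matrix.toLin'.injective <| LinearMap.ext fun v => by
        have : v ∈ Module.End.eigenspace (Matrix.toLin' (upMat A (Fin d) S)) μ := by
          rw [htop]; exact Submodule.mem_top
        rw [Module.End.mem_eigenspace_iff] at this
        simpa using this
      apply upMat_injective
      rw [h1]
      have h0 := congrFun (congrFun h1 ⟨0, by omega⟩) ⟨0, by omega⟩
      ext i j
      rcases eq_or_ne i j with rfl | hij
      · simpa using h0.symm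
      · simp [hij]
    · intro g v hv
      rw [Module.End.mem_eigenspace_iff] at hv ⊢
      simp only [Matrix.toLin'_apply] at hv ⊢
      rw [mulVec_mulVec, ← map_mul, ← (hcommS g).eq, map_mul, ← mulVec_mulVec, hv, mulVec_smul]
  -- reduction
  let k := IsLocalRing.ResidueField A
  let L : Matrix (Fin d) (Fin d) k ≃ₐ[k] Module.End k (Fin d → k) := Matrix.toLinAlgEquiv'
  have hxx : φ x⁻¹ * φ x = 1 ∧ φ x * φ x⁻¹ = 1 :=
    ⟨by rw [← map_mul, inv_mul_cancel, map_one], by rw [← map_mul, mul_inv_cancel, map_one]⟩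
  have hsplit : ∀ s : Finset (G ⧸ N), ((1 : G) : G ⧸ N) ∉ s →
      (∀ u ∈ Subgroup.zpowers x, ∀ c ∈ s, u • c ∈ s) →
      ∃ H, redMat A (Fin d) (∑ c ∈ s, F c) = ∑ i ∈ Finset.range p,
        redMat A (Fin d) (φ x) ^ i * H * redMat A (Fin d) (φ x⁻¹) ^ i := by
    intro s
    induction s using Finset.strongInduction with
    | _ s ih =>
      intro h0 hinv
      rcases s.eq_empty_or_nonempty with rfl | ⟨c, hc⟩
      · exact ⟨0, by simp⟩
      have hinj : Set.InjOn (fun i : ℕ => (x ^ i) • c) (Finset.range p : Set ℕ) := by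
        intro i hi j hj hij
        by_contra hne
        simp only [Finset.coe_range, Set.mem_Iio] at hi hj
        set u := (x ^ j)⁻¹ * x ^ i
        have hu : u • c = c := by rw [mul_smul, show x ^ i • c = x ^ j • c from hij, inv_smul_smul]
        have huP : u ∈ Subgroup.zpowers x := Subgroup.mul_mem _
          (Subgroup.inv_mem _ (Subgroup.npow_mem_zpowers x j)) (Subgroup.npow_mem_zpowers x i)
        have hu1 : u ≠ 1 := fun h => hne (pow_injOn_Iio_orderOf (by simpa [D.order] using hi)
          (by simpa [D.order] using hj) (inv_mul_eq_one.1 h).symm)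
        induction c using Quotient.inductionOn' with
        | h g =>
          have h1 : g⁻¹ * u * g ∈ N := by
            have := QuotientGroup.eq.1 (hu.symm : (g : G ⧸ N) = ((u * g : G) : G ⧸ N))
            simpa [mul_assoc] using this
          have hou : orderOf u = p := by
            have := orderOf_dvd_of_mem_zpowers huP
            rw [D.order] at this
            exact (hp.out.eq_one_or_self_of_dvd _ this).resolve_left
              (by rwa [orderOf_eq_one_iff])
          have hconj : orderOf (g⁻¹ * u * g) = p := by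
            rw [← hou]
            simpa using (MulAut.conj g⁻¹).orderOf_eq u
          have h2 := D.unique _ h1 hconj
          have hgen : Subgroup.zpowers u = Subgroup.zpowers x := by
            refine Subgroup.eq_of_le_of_card_ge (Subgroup.zpowers_le.2 huP) ?_
            rw [Nat.card_zpowers, Nat.card_zpowers, hou, D.order]
          have hgen' : Subgroup.zpowers (g⁻¹ * u * g) = Subgroup.zpowers x := by
            refine Subgroup.eq_of_le_of_card_ge (Subgroup.zpowers_le.2 h2) ?_
            rw [Nat.card_zpowers, Nat.card_zpowers, hconj, D.order]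
          have hgN : g⁻¹ ∈ N := by
            refine Subgroup.mem_normalizer_iff.2 fun v => ?_
            rw [inv_inv]
            constructor
            · intro hv
              rw [← hgen] at hv
              obtain ⟨k, rfl⟩ := Subgroup.mem_zpowers_iff.1 hv
              rw [← hgen']
              refine ⟨k, ?_⟩
              simpa using (map_zpow (MulAut.conj g⁻¹) u k).symm
            · intro hv
              rw [← hgen'] at hv
              obtain ⟨k, hk⟩ := Subgroup.mem_zpowers_iff.1 hv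
              rw [← hgen]
              refine ⟨k, ?_⟩
              have h3 : (g⁻¹ * u * g) ^ k = g⁻¹ * u ^ k * g := by
                simpa using (map_zpow (MulAut.conj g⁻¹) u k).symm
              rw [h3] at hk
              simpa using hk
          refine h0 ?_
          rwa [show ((1 : G) : G ⧸ N) = (g : G ⧸ N) from
            QuotientGroup.eq.2 (by simpa using N.inv_mem hgN)]
      set orb := (Finset.range p).image fun i => x ^ i • c
      have hsub : orb ⊆ s := by
        intro y hy
        obtain ⟨i, -, rfl⟩ := Finset.mem_image.1 hy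
        exact hinv _ (Subgroup.npow_mem_zpowers x i) c hc
      have hmem : c ∈ orb := Finset.mem_image.2 ⟨0, Finset.mem_range.2 hp.out.pos, by simp⟩
      have hinv' : ∀ u ∈ Subgroup.zpowers x, ∀ y ∈ orb, u • y ∈ orb := by
        intro u hu y hy
        obtain ⟨i, -, rfl⟩ := Finset.mem_image.1 hy
        rw [mem_zpowers_iff_mem_range_orderOf, Finset.mem_image] at hu
        obtain ⟨j, -, rfl⟩ := hu
        refine Finset.mem_image.2 ⟨(j + i) % p, Finset.mem_range.2 (Nat.mod_lt _ hp.out.pos), ?_⟩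
        rw [← mul_smul, ← pow_add, ← D.order, pow_mod_orderOf]
      obtain ⟨H, hH⟩ := ih (s \ orb) (Finset.sdiff_ssubset hsub ⟨c, hmem⟩)
        (fun h => h0 (Finset.mem_sdiff.1 h).1) fun u hu y hy => by
          obtain ⟨hy1, hy2⟩ := Finset.mem_sdiff.1 hy
          refine Finset.mem_sdiff.2 ⟨hinv u hu y hy1, fun h => hy2 ?_⟩
          simpa using hinv' u⁻¹ (Subgroup.inv_mem _ hu) _ h
      refine ⟨H + redMat A (Fin d) (F c), ?_⟩
      rw [← Finset.sum_sdiff hsub, map_add, hH, Finset.sum_image hinj, map_sum,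
        ← Finset.sum_add_distrib]
      refine Finset.sum_congr rfl fun i _ => ?_
      rw [hact, map_mul, map_mul, map_pow, map_pow, ← inv_pow, map_pow, map_pow, mul_add, add_mul]
  obtain ⟨H, hH⟩ := hsplit (Finset.univ.erase ((1 : G) : G ⧸ N)) (by simp) fun u hu c hc => by
    simp only [Finset.mem_erase, Finset.mem_univ, and_true] at hc ⊢
    intro h
    apply hc
    have h1 : u • ((1 : G) : G ⧸ N) = ((1 : G) : G ⧸ N) := by
      show (((u * 1 : G)) : G ⧸ N) = _
      refine QuotientGroup.eq.2 ?_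
      simpa using Subgroup.le_normalizer hu
    exact MulAction.injective u (h.trans h1.symm)
  set s := IsLocalRing.residue A (S ⟨0, by omega⟩ ⟨0, by omega⟩) with hs
  have hred : s • (1 : Matrix (Fin d) (Fin d) k) = redMat A (Fin d) f + ∑ i ∈ Finset.range p,
      redMat A (Fin d) (φ x) ^ i * H * redMat A (Fin d) (φ x⁻¹) ^ i := by
    rw [← hH, ← map_add]
    have h1 : f + ∑ c ∈ Finset.univ.erase ((1 : G) : G ⧸ N), F c = S := by
      rw [hS, ← Finset.add_sum_erase _ _ (Finset.mem_univ ((1 : G) : G ⧸ N)), hmk]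
      simp
    rw [h1, hscal]
    ext i j
    simp [hs, Matrix.map_apply, one_apply, apply_ite (IsLocalRing.residue A)]
  set X := Matrix.toLin' (redMat A (Fin d) (φ x)) - 1 with hX
  have hsum : ∀ (b : ℕ) (v : Fin d → k), v ∈ LinearMap.ker (X ^ b) →
      s • v - (redVec A η ⬝ᵥ v) • redVec A w ∈ LinearMap.range (X ^ (p - b)) := by
    intro b v hv
    have h := sum_conj_mapsTo p (L (redMat A (Fin d) (φ x))) (L (redMat A (Fin d) (φ x⁻¹)))
      (by rw [← map_mul, ← map_mul, hxx.1, map_one, map_one])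
      (by rw [← map_mul, ← map_mul, hxx.2, map_one, map_one]) (L H) b v hv
    have h2 := congrArg (fun M => M *ᵥ v) hred
    simp only [smul_mulVec, one_mulVec, add_mulVec] at h2
    have h3 : redMat A (Fin d) f *ᵥ v = (redVec A η ⬝ᵥ v) • redVec A w := by
      funext i
      simp [hf, vecMulVec_apply, mulVec, dotProduct, redVec, Finset.mul_sum, Finset.sum_mul]
      exact Finset.sum_congr rfl fun j _ => by ring
    rw [h3] at h2
    rw [h2, add_sub_cancel_left]
    have e1 : ∑ i ∈ Finset.range p, L (redMat A (Fin d) (φ x)) ^ i * L H *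
        L (redMat A (Fin d) (φ x⁻¹)) ^ i = L (∑ i ∈ Finset.range p,
          redMat A (Fin d) (φ x) ^ i * H * redMat A (Fin d) (φ x⁻¹) ^ i) := by
      rw [map_sum]
      refine Finset.sum_congr rfl fun i _ => ?_
      rw [map_mul L, map_mul L, map_pow L, map_pow L]
    rw [e1] at h
    have e2 : ∀ (M : Matrix (Fin d) (Fin d) k) (u : Fin d → k), L M u = M *ᵥ u :=
      fun M u => rfl
    have e3 : L (redMat A (Fin d) (φ x)) - 1 = X := rfl
    rw [e2, e3] at h
    exact h
  have hXp : X ^ (p - 1) = 0 := by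
    have h := congrArg L hnil
    rw [map_pow, map_sub, map_one, map_zero] at h
    exact h
  have hs0 : s = 0 := by
    refine scalar_eq_zero_of_socle X hXp (by simpa using hd) (redVec A w)
      (dotProductEquiv k (Fin d) (redVec A η)) (fun v => ?_) s fun v hv => ?_
    · have h1 : redVec A η ᵥ* redMat A (Fin d) (φ x) = redVec A η := by
        funext i
        have h2 := congrFun (hη x (Set.mem_insert x _)) i
        exact (RingHom.map_vecMul (IsLocalRing.residue A) (φ x) η i).symm.trans
          (congrArg (IsLocalRing.residue A) h2)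
      show redVec A η ⬝ᵥ (X v) = 0
      rw [hX, LinearMap.sub_apply, Matrix.toLin'_apply, dotProduct_sub, dotProduct_mulVec, h1]
      exact sub_self _
    · have h := hsum 1 v (by rwa [pow_one])
      rw [hXp] at h
      obtain ⟨y, hy⟩ := h
      exact (sub_eq_zero.1 hy.symm).symm
  have h := hsum b q hq
  rwa [hs0, zero_smul, zero_sub, Submodule.neg_mem_iff] at h

/-- The bound for an irreducible integral representation. -/
theorem irreducible_bound (hA : A.valuation (p : ℂ) < 1)
    (φ : G →* Matrix (Fin d) (Fin d) A) (D : PrimeSylowData p x O t e)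
    (hgen : ∀ K : Subgroup G, K.Normal → x ∈ K → K = ⊤)
    (hirr : ∀ U : Submodule ℂ (Fin d → ℂ),
      (∀ g, ∀ v ∈ U, upMat A (Fin d) (φ g) *ᵥ v ∈ U) → U = ⊥ ∨ U = ⊤)
    (hfix : fixVec ((upMat A (Fin d)).toMonoidHom.comp φ) Set.univ = ⊥)
    (hnil : (redMat A (Fin d) (φ x) - 1) ^ (p - 1) = 0) :
    (p + 1) * finrank ℂ (fixVec ((upMat A (Fin d)).toMonoidHom.comp φ) (insert x (O : Set G))) ≤
      2 * finrank ℂ (fixVec ((upMat A (Fin d)).toMonoidHom.comp φ) (O : Set G)) := by
  classical
  cases nonempty_fintype G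
  set ψ := (upMat A (Fin d)).toMonoidHom.comp φ with hψ
  rcases le_or_gt d 1 with hd | hd
  · suffices h : fixVec ψ (insert x (O : Set G)) = ⊥ by
      rw [h, finrank_bot, mul_zero]; exact Nat.zero_le _
    by_contra hne
    have hx1 : ψ x = 1 := by
      have hdim : 1 ≤ finrank ℂ (fixVec ψ (insert x (O : Set G))) :=
        Nat.one_le_iff_ne_zero.2 fun h => hne (Submodule.finrank_eq_zero.1 h)
      have htop : fixVec ψ (insert x (O : Set G)) = ⊤ :=
        Submodule.eq_top_of_finrank_eq (le_antisymm (Submodule.finrank_le _) (by simp; omega))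
      refine Matrix.toLin'.injective (LinearMap.ext fun v => ?_)
      have hv : v ∈ fixVec ψ (insert x (O : Set G)) := by simp [htop]
      simpa using hv x (Set.mem_insert x _)
    apply hne
    rw [eq_bot_iff, ← hfix]
    intro v _ g _
    have hg : g ∈ ψ.ker := by simp [hgen ψ.ker inferInstance hx1]
    rw [MonoidHom.mem_ker.1 hg, one_mulVec]
  haveI := charP_residue A hp.out hA
  let k := IsLocalRing.ResidueField A
  obtain ⟨ζ, hζ⟩ : ∃ ζ : ℂ, IsPrimitiveRoot ζ e :=
    ⟨_, Complex.isPrimitiveRoot_exp e D.e_pos.ne'⟩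
  obtain ⟨hdual, htot⟩ := eigenFixed_dims ψ D hζ
  -- integral projections
  let cO : A := ⟨(Fintype.card O : ℂ)⁻¹, natCast_inv_mem A hp.out hA
    (by simpa [← Nat.card_eq_fintype_card] using D.coprime)⟩
  let eA : Matrix (Fin d) (Fin d) A := cO • ∑ o : O, φ (o : G)
  have heA : upMat A (Fin d) eA = avgOn ψ O := by
    ext i j
    simp [eA, cO, avgOn, hψ, Matrix.sum_apply, AddSubmonoidClass.coe_finsetSum]
  let ce : A := ⟨(e : ℂ)⁻¹, natCast_inv_mem A hp.out hA D.e_coprime⟩
  let zr : Fin e → A := fun j => ⟨ζ ^ (j : ℕ), mem_of_pow_eq_one A D.e_pos.ne'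
    (by rw [← pow_mul, mul_comm, pow_mul, hζ.pow_eq_one, one_pow])⟩
  let zi : Fin e → A := fun j => ⟨(ζ ^ (j : ℕ))⁻¹, mem_of_pow_eq_one A D.e_pos.ne'
    (by rw [inv_pow, ← pow_mul, mul_comm, pow_mul, hζ.pow_eq_one, one_pow, inv_one])⟩
  let sA : Fin e → Matrix (Fin d) (Fin d) A := fun j =>
    ce • ∑ i ∈ Finset.range e, (zi j • φ t) ^ i
  have hsA : ∀ j, upMat A (Fin d) (sA j) = specProj (ψ t) (ζ ^ (j : ℕ)) e := fun j => by
    have h1 : ∀ (c : A) (M : Matrix (Fin d) (Fin d) A),
        upMat A (Fin d) (c • M) = (c : ℂ) • upMat A (Fin d) M := fun c M => by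
      ext a b; simp
    simp only [sA, specProj, h1, map_sum, map_pow]
    rfl
  -- pivot bases
  choose bW pW hW1 hW2 _hW3 using fun j : Fin e =>
    exists_pivot_basis A (eigenFixed ψ x t O (ζ ^ (j : ℕ)))
  choose bV pV hV1 hV2 _hV3 using fun j : Fin e =>
    exists_pivot_basis A (eigenFixed (fun g => (ψ g)ᵀ) x t O (ζ ^ (j : ℕ)))
  set eL := Matrix.toLin' (redMat A (Fin d) eA) with heL
  set xL := Matrix.toLin' (redMat A (Fin d) (φ x)) - 1 with hxL
  let M := LinearMap.range eL
  have hup : ∀ (g : G), upMat A (Fin d) (φ g) = ψ g := fun g => rfl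
  have hwfix : ∀ j l, ∀ g ∈ insert x (O : Set G), φ g *ᵥ bW j l = bW j l := fun j l g hg =>
    mulVec_eq_of_up _ _ _ ((hW2 j l).1 g hg)
  have hwt : ∀ j l, φ t *ᵥ bW j l = zr j • bW j l := fun j l =>
    mulVec_eq_of_up _ _ _ (((hW2 j l).2).trans (funext fun i => by simp [upVec, zr]))
  have hvfix : ∀ j l, ∀ g ∈ insert x (O : Set G), bV j l ᵥ* φ g = bV j l := fun j l g hg => by
    rw [← mulVec_transpose]
    exact mulVec_eq_of_up _ _ _ ((hV2 j l).1 g hg)
  have hvt : ∀ j l, bV j l ᵥ* φ t = zr j • bV j l := fun j l => by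
    rw [← mulVec_transpose]
    exact mulVec_eq_of_up _ _ _ (((hV2 j l).2).trans (funext fun i => by simp [upVec, zr]))
  have hmulA : ∀ (M : Matrix (Fin d) (Fin d) A) (v : Fin d → A) (v' : Fin d → A),
      upMat A (Fin d) M *ᵥ upVec A v = upVec A v' → redMat A (Fin d) M *ᵥ redVec A v = redVec A v' :=
    fun M v v' h => by rw [redMat_mulVec, mulVec_eq_of_up M v v' h]
  have heW : ∀ j l, eL (redVec A (bW j l)) = redVec A (bW j l) := fun j l => by
    rw [heL, Matrix.toLin'_apply]
    refine hmulA _ _ _ ?_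
    rw [heA]
    exact avgOn_mulVec ψ O fun o ho => (hW2 j l).1 o (Set.mem_insert_of_mem x ho)
  have heV : ∀ j l v, redVec A (bV j l) ⬝ᵥ eL v = redVec A (bV j l) ⬝ᵥ v := fun j l v => by
    rw [heL, Matrix.toLin'_apply, dotProduct_mulVec, ← mulVec_transpose]
    congr 1
    refine hmulA eAᵀ _ _ ?_
    show (upMat A (Fin d) eA)ᵀ *ᵥ _ = _
    rw [heA]
    exact avgOn_transpose_mulVec ψ O fun o ho => (hV2 j l).1 o (Set.mem_insert_of_mem x ho)
  have hsW : ∀ i j l, Matrix.toLin' (redMat A (Fin d) (sA i)) (redVec A (bW j l)) =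
      if i = j then redVec A (bW j l) else 0 := fun i j l => by
    rw [Matrix.toLin'_apply]
    split_ifs with hij
    · subst hij
      refine hmulA _ _ _ ?_
      rw [hsA]
      exact specProj_mulVec_self _ (pow_ne_zero _ (hζ.ne_zero D.e_pos.ne')) D.e_pos (hW2 i l).2
    · rw [hmulA (sA i) (bW j l) 0]
      · funext a; simp [redVec]
      · rw [hsA, specProj_mulVec_other _ (pow_ne_zero _ (hζ.ne_zero D.e_pos.ne'))
          (fun h => hij (Fin.ext (hζ.pow_inj i.2 j.2 h))) ?_ (hW2 j l).2]
        · funext a; simp [upVec]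
        · rw [← pow_mul, ← pow_mul, mul_comm, mul_comm (j : ℕ), pow_mul, pow_mul,
            hζ.pow_eq_one, one_pow, one_pow]
  have hsV : ∀ i j l v, redVec A (bV j l) ⬝ᵥ Matrix.toLin' (redMat A (Fin d) (sA i)) v =
      if i = j then redVec A (bV j l) ⬝ᵥ v else 0 := fun i j l v => by
    rw [Matrix.toLin'_apply, dotProduct_mulVec, ← mulVec_transpose]
    have h1 : (redMat A (Fin d) (sA i))ᵀ = redMat A (Fin d) (sA i)ᵀ := rfl
    have h2 : upMat A (Fin d) (sA i)ᵀ = specProj ((ψ t)ᵀ) (ζ ^ (i : ℕ)) e := by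
      rw [← specProj_transpose, ← hsA]; rfl
    rw [h1]
    split_ifs with hij
    · subst hij
      rw [hmulA (sA i)ᵀ (bV i l) (bV i l)]
      rw [h2]
      exact specProj_mulVec_self _ (pow_ne_zero _ (hζ.ne_zero D.e_pos.ne')) D.e_pos (hV2 i l).2
    · rw [hmulA (sA i)ᵀ (bV j l) 0]
      · simp [redVec, dotProduct]
      · rw [h2, specProj_mulVec_other _ (pow_ne_zero _ (hζ.ne_zero D.e_pos.ne'))
          (fun h => hij (Fin.ext (hζ.pow_inj i.2 j.2 h))) ?_ (hV2 j l).2]
        · funext a; simp [upVec]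
        · rw [← pow_mul, ← pow_mul, mul_comm, mul_comm (j : ℕ), pow_mul, pow_mul,
            hζ.pow_eq_one, one_pow, one_pow]
  -- the space `M`
  have hcomm : Commute eL xL := by
    have h : Commute eA (φ x) := by
      refine (Commute.sum_left _ _ _ fun o _ => ?_).smul_left _
      exact Commute.map (show Commute (o : G) x from (D.comm o o.2).symm) φ
    exact ((h.map (redMat A (Fin d))).map Matrix.toLinAlgEquiv').sub_right (Commute.one_right _)
  have hMx : ∀ v ∈ M, xL v ∈ M := by
    rintro _ ⟨v, rfl⟩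
    exact ⟨xL v, by rw [← Module.End.mul_apply, hcomm.eq, Module.End.mul_apply]⟩
  let X : Module.End k M := xL.restrict hMx
  let wM : ∀ j : Fin e, Fin (finrank ℂ (eigenFixed ψ x t O (ζ ^ (j : ℕ)))) → M :=
    fun j l => ⟨redVec A (bW j l), redVec A (bW j l), heW j l⟩
  let vM : ∀ j : Fin e, Fin (finrank ℂ (eigenFixed (fun g => (ψ g)ᵀ) x t O (ζ ^ (j : ℕ)))) →
      Dual k M := fun j l => (dotProductEquiv k (Fin d) (redVec A (bV j l))).comp M.subtype
  have hliW : ∀ j, LinearIndependent k (wM j) := fun j =>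
    LinearIndependent.of_comp M.subtype (linearIndependent_pivot (fun l => redVec A (bW j l))
      (pW j) fun a b => by simp [redVec, hW1, apply_ite (IsLocalRing.residue A)])
  have hliV : ∀ j, LinearIndependent k (vM j) := fun j => by
    rw [Fintype.linearIndependent_iff]
    intro c hc a
    have h := LinearMap.congr_fun hc ⟨eL (Pi.single (pV j a) 1), LinearMap.mem_range_self _ _⟩
    simpa [vM, dotProductEquiv, heV, redVec, hV1, apply_ite (IsLocalRing.residue A)] using h
  let E : Fin e → Module.End k M := fun i =>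
    (eL.rangeRestrict).comp ((Matrix.toLin' (redMat A (Fin d) (sA i))).comp M.subtype)
  have hXW : ∀ j l, X (wM j l) = 0 := fun j l => Subtype.ext <| by
    show xL (redVec A (bW j l)) = 0
    rw [hxL, LinearMap.sub_apply, Matrix.toLin'_apply, redMat_mulVec,
      hwfix j l x (Set.mem_insert x _)]
    simp
  have hXV : ∀ j l, X.dualMap (vM j l) = 0 := fun j l => LinearMap.ext fun m => by
    show redVec A (bV j l) ⬝ᵥ xL (m : Fin d → k) = 0
    have h1 : redVec A (bV j l) ᵥ* redMat A (Fin d) (φ x) = redVec A (bV j l) := funext fun i =>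
      (RingHom.map_vecMul (IsLocalRing.residue A) (φ x) (bV j l) i).symm.trans
        (congrArg (IsLocalRing.residue A) (congrFun (hvfix j l x (Set.mem_insert x _)) i))
    rw [hxL, LinearMap.sub_apply, Matrix.toLin'_apply, dotProduct_sub, dotProduct_mulVec, h1]
    exact sub_self _
  have hEW : ∀ i j l, E i (wM j l) = if i = j then wM j l else 0 := fun i j l => Subtype.ext <| by
    show eL (Matrix.toLin' (redMat A (Fin d) (sA i)) (redVec A (bW j l))) = _
    rw [hsW]
    split_ifs with hij
    · exact heW j l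
    · simp
  have hEV : ∀ i j l, (E i).dualMap (vM j l) = if i = j then vM j l else 0 := fun i j l =>
    LinearMap.ext fun m => by
      show redVec A (bV j l) ⬝ᵥ eL (Matrix.toLin' (redMat A (Fin d) (sA i)) (m : Fin d → k)) = _
      rw [heV, hsV]
      split_ifs <;> rfl
  let Wb : Fin e → Submodule k M := fun j => Submodule.span k (Set.range (wM j))
  let Vb : Fin e → Submodule k (Dual k M) := fun j => Submodule.span k (Set.range (vM j))
  have hfW : ∀ j, finrank k (Wb j) = finrank ℂ (eigenFixed ψ x t O (ζ ^ (j : ℕ))) := fun j => by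
    rw [finrank_span_eq_card (hliW j), Fintype.card_fin]
  have hfV : ∀ j, finrank k (Vb j) = finrank k (Wb j) := fun j => by
    rw [finrank_span_eq_card (hliV j), Fintype.card_fin, hfW, hdual]
  have hWle : ∀ j, Wb j ≤ LinearMap.ker X := fun j => Submodule.span_le.2 <| by
    rintro _ ⟨l, rfl⟩; exact hXW j l
  have hVle : ∀ j, Vb j ≤ LinearMap.ker X.dualMap := fun j => Submodule.span_le.2 <| by
    rintro _ ⟨l, rfl⟩; exact hXV j l
  have hbound := pairing_bound X p hp.out.one_lt.le Wb Vb hWle hVle E ?_ ?_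
    (fun i => (E i).dualMap) ?_ ?_ hfV ?_
  · rw [Finset.sum_congr rfl fun j _ => hfW j,
      Fin.sum_univ_eq_sum_range (fun j => finrank ℂ (eigenFixed ψ x t O (ζ ^ j))) e, htot]
      at hbound
    refine hbound.trans (Nat.mul_le_mul_left 2 (finrank_range_redMat_le eA _ fun v g hg => ?_))
    rw [heA, mulVec_mulVec, avgOn_mul_left ψ O hg]
  · intro i m hm
    induction hm using Submodule.span_induction with
    | mem y hy => obtain ⟨l, rfl⟩ := hy; rw [hEW, if_pos rfl]
    | zero => rw [map_zero]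
    | add a b _ _ h1 h2 => rw [map_add, h1, h2]
    | smul c a _ h => rw [map_smul, h]
  · intro i j hij m hm
    induction hm using Submodule.span_induction with
    | mem y hy => obtain ⟨l, rfl⟩ := hy; rw [hEW, if_neg hij]
    | zero => rw [map_zero]
    | add a b _ _ h1 h2 => rw [map_add, h1, h2, add_zero]
    | smul c a _ h => rw [map_smul, h, smul_zero]
  · intro i m hm
    induction hm using Submodule.span_induction with
    | mem y hy => obtain ⟨l, rfl⟩ := hy; rw [hEV, if_pos rfl]
    | zero => rw [map_zero]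
    | add a b _ _ h1 h2 => rw [map_add, h1, h2]
    | smul c a _ h => rw [map_smul, h]
  · intro i j hij m hm
    induction hm using Submodule.span_induction with
    | mem y hy => obtain ⟨l, rfl⟩ := hy; rw [hEV, if_neg hij]
    | zero => rw [map_zero]
    | add a b _ _ h1 h2 => rw [map_add, h1, h2, add_zero]
    | smul c a _ h => rw [map_smul, h, smul_zero]
  · intro j w hw η hη b hb1 hb2 q hq
    induction hη using Submodule.span_induction with
    | zero => simp
    | add a c _ _ h1 h2 => rw [LinearMap.add_apply, add_smul]; exact Submodule.add_mem _ h1 h2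
    | smul c a _ h =>
      rw [LinearMap.smul_apply, smul_assoc]
      exact Submodule.smul_mem _ c h
    | mem η hη =>
      obtain ⟨a, rfl⟩ := hη
      induction hw using Submodule.span_induction with
      | zero => simp
      | add a c _ _ h1 h2 => rw [smul_add]; exact Submodule.add_mem _ h1 h2
      | smul c a _ h => rw [smul_comm]; exact Submodule.smul_mem _ c h
      | mem w hw =>
        obtain ⟨l, rfl⟩ := hw
        have hpow : ∀ (n : ℕ) (m : M), ((X ^ n) m : Fin d → k) = (xL ^ n) (m : Fin d → k) := by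
          intro n m
          rw [Module.End.pow_restrict]
          rfl
        have hq' : (q : Fin d → k) ∈ LinearMap.ker (xL ^ b) := by
          rw [LinearMap.mem_ker, ← hpow, LinearMap.mem_ker.1 hq]
          rfl
        obtain ⟨y, hy⟩ := pairing_mem_range hA φ D hd hirr hnil (zr j) (bW j l) (bV j a)
          (hwfix j l) (hwt j l) (hvfix j a) (hvt j a) b _ hq'
        refine ⟨⟨eL y, LinearMap.mem_range_self _ y⟩, Subtype.ext ?_⟩
        rw [hpow]
        show (xL ^ (p - b)) (eL y) = (redVec A (bV j a) ⬝ᵥ (q : Fin d → k)) • redVec A (bW j l)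
        rw [← Module.End.mul_apply, ← (hcomm.pow_right _).eq, Module.End.mul_apply, hy, map_smul,
          heW]

end Main

end Cfsg.Agent.H81
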