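import Cfsg.Agent.H81.SimpleDegree
import Cfsg.Agent.H84.Kernel
import Cfsg.Agent.H84.ClassProd
import Cfsg.Agent.Fusion.PComplement

/-!
# Simple groups with a Sylow subgroup of order three and a character of degree three
-/

open scoped ComplexConjugate

namespace Cfsg.Agent.H81.ThreeOrder

open CharBasic BlockBasic SimpleDegree

universe u

theorem exists_int_half {z : ℂ} (hz : IsIntegral ℤ z) {a : ℤ} (ha : 2 * z = (a : ℂ)) :
    ∃ v : ℤ, z = (v : ℂ) := by
  have hz' : z = algebraMap ℚ ℂ ((a : ℚ) / 2) := by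
    rw [eq_ratCast]
    push_cast
    linear_combination ha / 2
  rw [hz', isIntegral_algebraMap_iff (algebraMap ℚ ℂ).injective] at hz
  obtain ⟨v, hv⟩ := IsIntegrallyClosed.isIntegral_iff.1 hz
  refine ⟨v, ?_⟩
  rw [hz', ← hv]
  simp

variable {G : Type u} [Group G] [Finite G]

/-- The value at an element of order three conjugate to its inverse. -/
theorem exists_value {x : G} (hx : orderOf x = 3) (hinv : IsConj x x⁻¹) (ψ : Cfsg.IrrCharacter G) :
    ∃ v : ℤ, (ψ : G → ℂ) x = (v : ℂ) ∧ (3 : ℤ) ∣ (Cfsg.charDegree (ψ : G → ℂ) : ℤ) + 2 * v := by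
  classical
  cases nonempty_fintype G
  haveI : Fintype (Subgroup.zpowers x) := Fintype.ofFinite _
  obtain ⟨m, hm⟩ := H83.sum_subgroup_eq (IsIrr.isCharacter ψ.2) (Subgroup.zpowers x)
  obtain ⟨g, hg⟩ := isConj_iff.1 hinv
  have hxx : (ψ : G → ℂ) x⁻¹ = (ψ : G → ℂ) x := by
    rw [← hg, IsIrr.isClassFunction ψ.2]
  rw [Nat.card_zpowers, hx, ← (finEquivZPowers (isOfFinOrder_of_finite x)).sum_comp,
    ← (finCongr hx.symm).sum_comp, Fin.sum_univ_three] at hm
  simp only [finEquivZPowers_apply, finCongr_apply, Fin.val_cast] at hm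
  simp only [Fin.val_zero, Fin.val_one, Fin.val_two, pow_zero, pow_one] at hm
  have hx2 : x ^ 2 = x⁻¹ := by
    refine eq_inv_of_mul_eq_one_left ?_
    rw [← pow_succ, show 2 + 1 = orderOf x from hx.symm, pow_orderOf_eq_one]
  rw [hx2, hxx, apply_one_eq_charDegree] at hm
  obtain ⟨v, hv⟩ := exists_int_half (IsChar.isIntegral (IsIrr.isCharacter ψ.2) x)
    (a := 3 * (m : ℤ) - Cfsg.charDegree (ψ : G → ℂ)) (by
      push_cast at hm ⊢
      linear_combination hm)
  refine ⟨v, hv, m, ?_⟩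
  rw [hv] at hm
  have : (((Cfsg.charDegree (ψ : G → ℂ) : ℤ) + 2 * v : ℤ) : ℂ) = ((3 * (m : ℤ) : ℤ) : ℂ) := by
    push_cast at hm ⊢
    linear_combination hm
  exact_mod_cast this

variable [IsSimpleGroup G]

/-- An element of order three has trivial centralizer. -/
theorem centralizer_eq (hna : ∃ x y : G, x * y ≠ y * x) (h9 : ¬ 9 ∣ Nat.card G)
    {χ : Cfsg.IrrCharacter G} (hne : (χ : G → ℂ) ≠ fun _ => 1)
    (hd : Cfsg.charDegree (χ : G → ℂ) = 3) {x : G} (hx : orderOf x = 3) :
    Subgroup.centralizer ({x} : Set G) = Subgroup.zpowers x := by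
  classical
  cases nonempty_fintype G
  haveI : Fact (Nat.Prime 3) := ⟨Nat.prime_three⟩
  have h3 : 3 ∣ Nat.card G := hx ▸ orderOf_dvd_natCard x
  have hzero : ∀ g : G, 3 ∣ orderOf g → (χ : G → ℂ) g = 0 := fun g hg => by
    refine H84.apply_eq_zero_of_defect_zero (p := 3) χ (fun h => h9 ?_) hg
    rw [hd] at h
    exact (Nat.dvd_div_iff_mul_dvd h3).1 h
  have hxC : x ∈ Subgroup.centralizer ({x} : Set G) :=
    Subgroup.mem_centralizer_singleton_iff.2 rfl
  have hle : Subgroup.zpowers x ≤ Subgroup.centralizer ({x} : Set G) := Subgroup.zpowers_le.2 hxC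
  -- no other prime
  have hno : ∀ q : ℕ, q.Prime → q ∣ Nat.card (Subgroup.centralizer ({x} : Set G)) → q = 3 := by
    intro q hq hqd
    by_contra hq3
    haveI := Fact.mk hq
    obtain ⟨h, hh⟩ := exists_prime_orderOf_dvd_card' q hqd
    have hho : orderOf (h : G) = q := by rw [Subgroup.orderOf_coe, hh]
    have hc : Commute x (h : G) := (Subgroup.mem_centralizer_singleton_iff.1 h.2).symm
    have hcomm : ∀ (a : Subgroup.zpowers x) (b : Subgroup.zpowers (h : G)),
        Commute ((Subgroup.zpowers x).subtype a) ((Subgroup.zpowers (h : G)).subtype b) := by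
      rintro ⟨a, i, rfl⟩ ⟨b, j, rfl⟩
      exact hc.zpow_zpow i j
    let f := MonoidHom.noncommCoprod (Subgroup.zpowers x).subtype (Subgroup.zpowers (h : G)).subtype hcomm
    have hab : ∀ a b : Subgroup.zpowers x × Subgroup.zpowers (h : G), a * b = b * a := by
      rintro ⟨⟨a, i, rfl⟩, ⟨a', i', rfl⟩⟩ ⟨⟨b, j, rfl⟩, ⟨b', j', rfl⟩⟩
      exact Prod.ext (Subtype.ext (by simp [← zpow_add, add_comm]))
        (Subtype.ext (by simp [← zpow_add, add_comm]))
    have hf1 : (χ : G → ℂ) (f 1) = ((3 : ℕ) : ℂ) := by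
      rw [map_one, apply_one_eq_charDegree, hd]
    have hYcard : Nat.card ((⊥ : Subgroup (Subgroup.zpowers x)).prod
        (⊤ : Subgroup (Subgroup.zpowers (h : G)))) = q := by
      rw [Nat.card_congr (Subgroup.prodEquiv _ _).toEquiv, Nat.card_prod, Subgroup.card_bot, one_mul,
        Subgroup.card_top, Nat.card_zpowers, hho]
    have h4 := norm_eq_of_vanish hab (CharInduce.IsChar.comp (IsIrr.isCharacter χ.2) f) 3 hf1
      ((⊥ : Subgroup (Subgroup.zpowers x)).prod ⊤)
      (by rw [hYcard, Nat.card_prod, Nat.card_zpowers, Nat.card_zpowers, hx, hho])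
      (fun a ha => by
        refine hzero _ ?_
        have ha1 : a.1 ≠ 1 := fun e => ha (Subgroup.mem_prod.2 ⟨by rw [e]; exact one_mem _, trivial⟩)
        have o1 : orderOf (a.1 : G) = 3 := by
          rw [Subgroup.orderOf_coe]
          refine (Nat.prime_three.eq_one_or_self_of_dvd _ ?_).resolve_left
            (fun e => ha1 (orderOf_eq_one_iff.1 e))
          have := orderOf_dvd_natCard a.1
          rwa [Nat.card_zpowers, hx] at this
        have o2 : orderOf (a.2 : G) ∣ q := by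
          have := orderOf_dvd_natCard a.2
          rwa [Nat.card_zpowers, hho, ← Subgroup.orderOf_coe] at this
        show 3 ∣ orderOf ((a.1 : G) * (a.2 : G))
        rw [(show Commute (a.1 : G) (a.2 : G) from hcomm a.1 a.2).orderOf_mul_eq_mul_orderOf_of_coprime
          (Nat.Coprime.coprime_dvd_right o2 (by
            rw [o1]
            exact (Nat.coprime_primes Nat.prime_three hq).2 (Ne.symm hq3))), o1]
        exact dvd_mul_right _ _)
      (1, ⟨(h : G), Subgroup.mem_zpowers _⟩) (Subgroup.mem_prod.2 ⟨one_mem _, trivial⟩)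
    have h5 : (h : G) = 1 := by
      refine eq_one_of_norm hna hne ?_
      rw [apply_one_eq_charDegree, hd, Complex.norm_natCast]
      rw [← h4]
      simp [f]
    rw [h5, orderOf_one] at hho
    exact hq.ne_one hho.symm
  have hC0 : Nat.card (Subgroup.centralizer ({x} : Set G)) ≠ 0 := Nat.card_pos.ne'
  have hpow := Nat.eq_prime_pow_of_unique_prime_dvd hC0 (p := 3) fun {q} hq hqd => hno q hq hqd
  refine (Subgroup.eq_of_le_of_card_ge hle ?_).symm
  rw [Nat.card_zpowers, hx, hpow]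
  have hdvd := Subgroup.card_subgroup_dvd_card (Subgroup.centralizer ({x} : Set G))
  rw [hpow] at hdvd
  rcases le_or_gt (Nat.card (Subgroup.centralizer ({x} : Set G))).primeFactorsList.length 1 with
    hl | hl
  · exact (Nat.pow_le_pow_right (by norm_num) hl).trans (le_of_eq (pow_one 3))
  · exact absurd ((pow_dvd_pow 3 hl).trans hdvd) h9

/-- An element of order three with trivial centralizer is inverted. -/
theorem exists_inverter (hna : ∃ x y : G, x * y ≠ y * x) (h9 : ¬ 9 ∣ Nat.card G) {x : G}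
    (hx : orderOf x = 3) : ∃ g : G, g * x * g⁻¹ = x⁻¹ := by
  classical
  haveI : Fact (Nat.Prime 3) := ⟨Nat.prime_three⟩
  have h3 : 3 ∣ Nat.card G := hx ▸ orderOf_dvd_natCard x
  have hf : (Nat.card G).factorization 3 = 1 := by
    have h1 := (Nat.prime_three.dvd_iff_one_le_factorization Nat.card_pos.ne').1 h3
    have h2 : ¬ 2 ≤ (Nat.card G).factorization 3 := fun h => h9
      (by simpa using (Nat.prime_three.pow_dvd_iff_le_factorization Nat.card_pos.ne').2 h)
    omega
  let P : Sylow 3 G := Sylow.ofCard (Subgroup.zpowers x)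
    (by rw [Nat.card_zpowers, hx, hf, pow_one])
  have hP : (P : Subgroup G) = Subgroup.zpowers x := Sylow.coe_ofCard _ _
  by_contra hcon
  push Not at hcon
  have hNC : Subgroup.normalizer ((P : Subgroup G) : Set G) ≤
      Subgroup.centralizer ((P : Subgroup G) : Set G) := by
    intro n hn
    rw [hP] at hn ⊢
    have hmem := (Subgroup.mem_normalizer_iff.1 hn x).1 (Subgroup.mem_zpowers x)
    rw [mem_zpowers_iff_mem_range_orderOf, Finset.mem_image] at hmem
    obtain ⟨j, hj, hjx⟩ := hmem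
    rw [Finset.mem_range, hx] at hj
    have hnx : n * x = x * n := by
      interval_cases j
      · exfalso
        rw [pow_zero] at hjx
        have : x = 1 := by
          have h := hjx.symm
          rwa [conj_eq_one_iff] at h
        rw [this, orderOf_one] at hx
        omega
      · rw [pow_one] at hjx
        exact mul_inv_eq_iff_eq_mul.1 hjx.symm
      · refine absurd ?_ (hcon n)
        rw [← hjx]
        refine eq_inv_of_mul_eq_one_left ?_
        rw [← pow_succ, show 2 + 1 = orderOf x from hx.symm, pow_orderOf_eq_one]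
    refine Subgroup.mem_centralizer_iff.2 fun y hy => ?_
    obtain ⟨i, rfl⟩ := hy
    exact ((show Commute n x from hnx).zpow_right i).symm.eq
  obtain ⟨Q, N, hN, hcompl⟩ := Fusion.hasNormalPComplement_of_normalizer_le_centralizer P hNC
  have hQ : Nat.card Q = 3 := by rw [Q.card_eq_multiplicity, hf, pow_one]
  have hmul := hcompl.card_mul
  rw [hQ] at hmul
  rcases hN.eq_bot_or_eq_top with rfl | rfl
  · rw [Subgroup.card_bot, one_mul] at hmul
    haveI := isCyclic_of_prime_card (α := G) (p := 3) hmul.symm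
    obtain ⟨a, b, hab⟩ := hna
    exact hab (IsCyclic.commGroup.mul_comm a b)
  · rw [Subgroup.card_top] at hmul
    have : 0 < Nat.card G := Nat.card_pos
    omega

/-- The order equation at every involution. -/
theorem order_equation (hna : ∃ x y : G, x * y ≠ y * x) {r b c : ℕ} (hr : r.Prime) (hr2 : r ≠ 2)
    (hr3 : r ≠ 3) (hG : Nat.card G = 3 * 2 ^ b * r ^ c) {χ : Cfsg.IrrCharacter G}
    (hne : (χ : G → ℂ) ≠ fun _ => 1) (hd : Cfsg.charDegree (χ : G → ℂ) = 3) {s : G}
    (hs : orderOf s = 2) :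
    (r = 7 ∧ 21 * Nat.card (Subgroup.centralizer ({s} : Set G)) ^ 2 = 8 * Nat.card G) ∨
      (r = 5 ∧ 15 * Nat.card (Subgroup.centralizer ({s} : Set G)) ^ 2 = 4 * Nat.card G) := by
  classical
  cases nonempty_fintype G
  haveI : Fact (Nat.Prime 3) := ⟨Nat.prime_three⟩
  have h9 : ¬ 9 ∣ Nat.card G := by
    intro h
    rw [hG, show 9 = 3 * 3 from rfl, mul_assoc] at h
    rcases Nat.prime_three.dvd_mul.1 (Nat.dvd_of_mul_dvd_mul_left (by norm_num) h) with h | h
    · have := (Nat.prime_dvd_prime_iff_eq Nat.prime_three Nat.prime_two).1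
        (Nat.prime_three.dvd_of_dvd_pow h)
      omega
    · exact hr3 ((Nat.prime_dvd_prime_iff_eq Nat.prime_three hr).1
        (Nat.prime_three.dvd_of_dvd_pow h)).symm
  obtain ⟨x, hx⟩ := exists_prime_orderOf_dvd_card' (G := G) 3
    ⟨2 ^ b * r ^ c, by rw [hG]; ring⟩
  have hC := centralizer_eq hna h9 hne hd hx
  obtain ⟨g₀, hg₀⟩ := exists_inverter hna h9 hx
  have hinv : IsConj x x⁻¹ := isConj_iff.2 ⟨g₀, hg₀⟩
  choose v hv hvd using exists_value hx hinv
  -- three characters at `x`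
  have hsq : ∑ ψ : Cfsg.IrrCharacter G, v ψ * v ψ = 3 := by
    have h := second_orthogonality_self x
    rw [hC, Nat.card_zpowers, hx] at h
    simp only [hv, map_intCast] at h
    exact_mod_cast h
  set S := Finset.univ.filter fun ψ : Cfsg.IrrCharacter G => v ψ ≠ 0 with hS
  have h1v : v trivialIrr = 1 := by
    have := hv trivialIrr
    simp only [trivialIrr] at this
    exact_mod_cast this.symm
  have hbound : ∀ ψ, v ψ = 0 ∨ v ψ = 1 ∨ v ψ = -1 := by
    intro ψ
    by_cases hψ : ψ = trivialIrr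
    · exact Or.inr (Or.inl (hψ ▸ h1v))
    have h2 : v ψ * v ψ + v trivialIrr * v trivialIrr ≤ 3 := by
      rw [← hsq, ← Finset.sum_pair hψ (f := fun ψ => v ψ * v ψ)]
      exact Finset.sum_le_sum_of_subset_of_nonneg (Finset.subset_univ _)
        fun i _ _ => mul_self_nonneg _
    rw [h1v] at h2
    have h3 : -1 ≤ v ψ := by nlinarith
    have h4 : v ψ ≤ 1 := by nlinarith
    omega
  have hScard : S.card = 3 := by
    have h5 : (S.card : ℤ) = 3 := by
      rw [← hsq, hS, Finset.card_filter, Nat.cast_sum]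
      refine Finset.sum_congr rfl fun ψ _ => ?_
      rcases hbound ψ with h | h | h <;> simp [h]
    exact_mod_cast h5
  have htS : (trivialIrr : Cfsg.IrrCharacter G) ∈ S :=
    Finset.mem_filter.2 ⟨Finset.mem_univ _, by rw [h1v]; exact one_ne_zero⟩
  obtain ⟨χ₁, χ₂, h12, hSeq⟩ := Finset.card_eq_two.1
    (show (S.erase trivialIrr).card = 2 by rw [Finset.card_erase_of_mem htS, hScard])
  -- a sum weighted by the values at `x` has three terms
  have hthree : ∀ F : Cfsg.IrrCharacter G → ℂ, ∑ ψ, (v ψ : ℂ) * F ψ =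
      F trivialIrr + (v χ₁ : ℂ) * F χ₁ + (v χ₂ : ℂ) * F χ₂ := by
    intro F
    rw [← Finset.sum_subset (Finset.subset_univ S) (fun ψ _ hψ => by
      have : v ψ = 0 := by
        by_contra hne0
        exact hψ (Finset.mem_filter.2 ⟨Finset.mem_univ _, hne0⟩)
      rw [this, Int.cast_zero, zero_mul]),
      ← Finset.add_sum_erase S _ htS, hSeq, Finset.sum_pair h12, h1v, Int.cast_one, one_mul,
      add_assoc]
  have hmemS : ∀ ψ ∈ ({χ₁, χ₂} : Finset (Cfsg.IrrCharacter G)),
      ψ ≠ trivialIrr ∧ (v ψ = 1 ∨ v ψ = -1) := fun ψ hψ => by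
    rw [← hSeq] at hψ
    obtain ⟨h1, h2⟩ := Finset.mem_erase.1 hψ
    exact ⟨h1, (hbound ψ).resolve_left (Finset.mem_filter.1 h2).2⟩
  have hnotconj : ∀ y : G, orderOf y ≠ 3 → ¬ IsConj y x := fun y hy h => hy (by
    obtain ⟨k, hk⟩ := isConj_iff.1 h
    rw [← hx, ← hk, ← MulAut.conj_apply, MulEquiv.orderOf_eq])
  have hcol : ∀ y : G, orderOf y ≠ 3 →
      1 + (v χ₁ : ℂ) * (χ₁ : G → ℂ) y + (v χ₂ : ℂ) * (χ₂ : G → ℂ) y = 0 := by
    intro y hy
    have h := second_orthogonality_not_isConj (hnotconj y hy)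
    simp only [hv, map_intCast] at h
    exact (hthree fun ψ => (ψ : G → ℂ) y).symm.trans
      ((Finset.sum_congr rfl fun ψ _ => mul_comm _ _).trans h)
  have hdeg := hcol 1 (by rw [orderOf_one]; norm_num)
  rw [apply_one_eq_charDegree, apply_one_eq_charDegree] at hdeg
  have hdeg' : 1 + v χ₁ * (Cfsg.charDegree (χ₁ : G → ℂ) : ℤ) +
      v χ₂ * (Cfsg.charDegree (χ₂ : G → ℂ) : ℤ) = 0 := by exact_mod_cast hdeg
  -- orient the signs
  obtain ⟨α, β, hαv, hβv, hαne, hβne, hαβ, hthree', hdegαβ⟩ :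
      ∃ α β : Cfsg.IrrCharacter G, v α = 1 ∧ v β = -1 ∧ α ≠ trivialIrr ∧ β ≠ trivialIrr ∧ α ≠ β ∧
        (∀ F : Cfsg.IrrCharacter G → ℂ, ∑ ψ, (v ψ : ℂ) * F ψ = F trivialIrr + F α - F β) ∧
        Cfsg.charDegree (β : G → ℂ) = Cfsg.charDegree (α : G → ℂ) + 1 := by
    obtain ⟨h1n, h1c⟩ := hmemS χ₁ (by simp)
    obtain ⟨h2n, h2c⟩ := hmemS χ₂ (by simp)
    have e1 := two_le_charDegree hna (χ := χ₁) fun e => h1n (Subtype.ext e)
    have e2 := two_le_charDegree hna (χ := χ₂) fun e => h2n (Subtype.ext e)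
    rcases h1c with h1c | h1c <;> rcases h2c with h2c | h2c <;> rw [h1c, h2c] at hdeg'
    · omega
    · exact ⟨χ₁, χ₂, h1c, h2c, h1n, h2n, h12, fun F => by rw [hthree, h1c, h2c]; push_cast; ring,
        by omega⟩
    · exact ⟨χ₂, χ₁, h2c, h1c, h2n, h1n, h12.symm,
        fun F => by rw [hthree, h1c, h2c]; push_cast; ring, by omega⟩
    · omega
  set d := Cfsg.charDegree (α : G → ℂ) with hdα
  have hαne' : (α : G → ℂ) ≠ fun _ => 1 := fun e => hαne (Subtype.ext e)
  have hd2 := two_le_charDegree hna hαne'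
  have hd3 : (3 : ℤ) ∣ (d : ℤ) + 2 * 1 := hαv ▸ hvd α
  -- the square of the absolute value of the cubic character
  have hχx : (χ : G → ℂ) x = 0 := H84.apply_eq_zero_of_defect_zero (p := 3) χ (fun h => h9 (by
    rw [hd] at h
    exact (Nat.dvd_div_iff_mul_dvd ⟨2 ^ b * r ^ c, by rw [hG]; ring⟩).1 h)) (by rw [hx])
  set φ : G → ℂ := (χ : G → ℂ) * fun g => conj ((χ : G → ℂ) g) with hφ
  have hφc : Cfsg.IsCharacter G φ := CharInduce.IsChar.mul (IsIrr.isCharacter χ.2)
    (CharInduce.IsChar.conj (IsIrr.isCharacter χ.2))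
  choose m hm using fun ψ : Cfsg.IrrCharacter G => classInner_isChar_nat hφc (IsIrr.isCharacter ψ.2)
  have hexp : ∀ y : G, φ y = ∑ ψ : Cfsg.IrrCharacter G, (m ψ : ℂ) * (ψ : G → ℂ) y := fun y => by
    conv_lhs => rw [classFunction_expansion (IsChar.isClassFunction hφc)]
    simp [hm]
  have hm1 : m trivialIrr = 1 := by
    have h := hm trivialIrr
    have h2 : Cfsg.classInner φ ((trivialIrr : Cfsg.IrrCharacter G) : G → ℂ) = 1 := by
      rw [← classInner_irr_self χ.2, classInner_def, classInner_def]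
      refine congrArg _ (Finset.sum_congr rfl fun y _ => ?_)
      simp [hφ, trivialIrr]
    rw [h2] at h
    exact_mod_cast h.symm
  have hmβ : m β = m α + 1 := by
    have h := hexp x
    simp only [hv] at h
    rw [Finset.sum_congr rfl fun ψ _ => mul_comm _ _, hthree' fun ψ => (m ψ : ℂ), hm1,
      show φ x = 0 by simp [hφ, hχx]] at h
    have h' : (m β : ℂ) = ((m α + 1 : ℕ) : ℂ) := by push_cast at h ⊢; linear_combination h
    exact_mod_cast h'
  have hdegsum : ∑ ψ : Cfsg.IrrCharacter G, m ψ * Cfsg.charDegree (ψ : G → ℂ) = 9 := by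
    have h := hexp 1
    simp only [hφ, Pi.mul_apply, apply_one_eq_charDegree, hd, map_natCast] at h
    have h' : ((∑ ψ : Cfsg.IrrCharacter G, m ψ * Cfsg.charDegree (ψ : G → ℂ) : ℕ) : ℂ) =
        ((9 : ℕ) : ℂ) := by
      push_cast
      rw [← h]
      norm_num
    exact_mod_cast h'
  set T : Finset (Cfsg.IrrCharacter G) := {trivialIrr, α, β} with hT
  have hrest : ∑ ψ ∈ Finset.univ \ T, m ψ * Cfsg.charDegree (ψ : G → ℂ) +
      (1 + (m α * d + m β * (d + 1))) = 9 := by
    rw [← hdegsum, ← Finset.sum_sdiff (Finset.subset_univ T), hT,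
      Finset.sum_insert (by simp [Ne.symm hαne, Ne.symm hβne]), Finset.sum_pair hαβ, hm1, hdegαβ,
      show Cfsg.charDegree ((trivialIrr : Cfsg.IrrCharacter G) : G → ℂ) = 1 by
        simp [Cfsg.charDegree, trivialIrr]]
  have hoff : ∀ ψ ∈ Finset.univ \ T, (ψ : G → ℂ) ≠ (fun _ => 1) ∧
      3 ∣ Cfsg.charDegree (ψ : G → ℂ) := by
    intro ψ hψ
    simp only [hT, Finset.mem_sdiff, Finset.mem_insert, Finset.mem_singleton, not_or] at hψ
    refine ⟨fun e => hψ.2.1 (Subtype.ext e), ?_⟩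
    have hv0 : v ψ = 0 := by
      have h := hthree' fun φ => if φ = ψ then 1 else 0
      simp [Ne.symm hψ.2.1, Ne.symm hψ.2.2.1, Ne.symm hψ.2.2.2] at h
      exact_mod_cast h
    have := hvd ψ
    rw [hv0] at this
    exact_mod_cast (by simpa using this : (3 : ℤ) ∣ (Cfsg.charDegree (ψ : G → ℂ) : ℤ))
  rw [hmβ] at hrest
  have hd8 : d + 1 ≤ 8 := by
    have : (1 : ℕ) * (d + 1) ≤ (m α + 1) * (d + 1) := Nat.mul_le_mul_right _ (Nat.le_add_left 1 _)
    omega
  have hcases : d = 4 ∨ d = 7 := by omega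
  have hmα : m α = 0 := by
    rcases hcases with h | h <;> rw [h] at hrest <;> omega
  rw [hmα] at hrest
  -- the prime `r`
  have hrdvd : ∀ q : ℕ, q.Prime → q ∣ Nat.card G → q = 3 ∨ q = 2 ∨ q = r := by
    intro q hq h
    rw [hG] at h
    rcases hq.dvd_mul.1 h with h | h
    · rcases hq.dvd_mul.1 h with h | h
      · exact Or.inl ((Nat.prime_dvd_prime_iff_eq hq Nat.prime_three).1 h)
      · exact Or.inr (Or.inl ((Nat.prime_dvd_prime_iff_eq hq Nat.prime_two).1 (hq.dvd_of_dvd_pow h)))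
    · exact Or.inr (Or.inr ((Nat.prime_dvd_prime_iff_eq hq hr).1 (hq.dvd_of_dvd_pow h)))
  -- values at the involution
  have hs3 : orderOf s ≠ 3 := by rw [hs]; norm_num
  have hsφ : φ s = 1 := by
    simp [hφ, apply_involution hna hne hd hs]
  have hcs' : 1 + (α : G → ℂ) s - (β : G → ℂ) s = 0 := by
    have h := second_orthogonality_not_isConj (hnotconj s hs3)
    simp only [hv, map_intCast] at h
    exact (hthree' fun ψ => (ψ : G → ℂ) s).symm.trans
      ((Finset.sum_congr rfl fun ψ _ => mul_comm _ _).trans h)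
  have hφsum : φ s = 1 + (β : G → ℂ) s +
      ∑ ψ ∈ Finset.univ \ T, (m ψ : ℂ) * (ψ : G → ℂ) s := by
    rw [hexp s, ← Finset.sum_sdiff (Finset.subset_univ T), hT,
      Finset.sum_insert (by simp [Ne.symm hαne, Ne.symm hβne]), Finset.sum_pair hαβ, hm1, hmβ, hmα]
    simp [trivialIrr]
    ring
  -- the class product
  set k := Nat.card (Subgroup.centralizer ({s} : Set G)) with hk
  set I := (Subgroup.centralizer ({s} : Set G)).index with hI
  have hkI : k * I = Nat.card G := Subgroup.card_mul_index _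
  set n := (Finset.univ.filter fun g : G => IsConj s g ∧ IsConj s (g⁻¹ * x)).card with hn
  have hdC : (d : ℂ) ≠ 0 := Nat.cast_ne_zero.2 (by omega)
  have hd1C : ((d : ℂ) + 1) ≠ 0 := by exact_mod_cast (Nat.succ_ne_zero d)
  have hcoef : (n : ℂ) * (k : ℂ) ^ 2 = (Nat.card G : ℂ) *
      (1 + (α : G → ℂ) s ^ 2 / d - (β : G → ℂ) s ^ 2 / ((d : ℂ) + 1)) := by
    have h1 : (n : ℂ) = (Nat.card G : ℂ)⁻¹ * ∑ ψ : Cfsg.IrrCharacter G,
        (v ψ : ℂ) * ((I : ℂ) ^ 2 * ((ψ : G → ℂ) s ^ 2 / (ψ : G → ℂ) 1)) := by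
      rw [hn, ← H84.coeff_classSum_mul s s x, H84.coeff_classSum_mul_eq]
      refine congrArg _ (Finset.sum_congr rfl fun ψ _ => ?_)
      have h0 : (ψ : G → ℂ) 1 ≠ 0 := IsIrr.one_ne_zero ψ.2
      rw [hv, map_intCast, Cfsg.centralChar, ← hI]
      field_simp
    rw [hthree' fun ψ => (I : ℂ) ^ 2 * ((ψ : G → ℂ) s ^ 2 / (ψ : G → ℂ) 1),
      apply_one_eq_charDegree α, apply_one_eq_charDegree β, hdegαβ, ← hdα] at h1
    have hG0 : (Nat.card G : ℂ) = (k : ℂ) * (I : ℂ) := by rw [← hkI]; push_cast; rfl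
    have hk0 : (k : ℂ) ≠ 0 := Nat.cast_ne_zero.2 Nat.card_pos.ne'
    have hI0 : (I : ℂ) ≠ 0 := Nat.cast_ne_zero.2 Subgroup.index_ne_zero_of_finite
    rw [h1, hG0]
    simp only [trivialIrr, one_pow, div_one, mul_one]
    push_cast
    field_simp
  have hn3 : n ≠ 0 → n = 3 := by
    intro hn0
    obtain ⟨g, hg⟩ := Finset.card_ne_zero.1 hn0
    obtain ⟨hg1, hg2⟩ := (Finset.mem_filter.1 hg).2
    have hord : ∀ y : G, IsConj s y → y * y = 1 := fun y hy => by
      obtain ⟨a, rfl⟩ := isConj_iff.1 hy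
      rw [← pow_two, conj_pow, show s ^ 2 = 1 from hs ▸ pow_orderOf_eq_one s, mul_one,
        mul_inv_cancel]
    have hinvert : ∀ y : G, IsConj s y → IsConj s (y⁻¹ * x) → y * x * y = x⁻¹ := by
      intro y h1 h2
      have e1 := hord y h1
      have e2 := hord _ h2
      rw [inv_eq_of_mul_eq_one_right e1] at e2
      refine eq_inv_of_mul_eq_one_left ?_
      rw [mul_assoc (y * x) y x]
      exact e2
    have hgg := hord g hg1
    have hgi : g⁻¹ = g := inv_eq_of_mul_eq_one_right hgg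
    have hgx := hinvert g hg1 hg2
    have hx3 : x ^ 3 = 1 := hx ▸ pow_orderOf_eq_one x
    -- the coset consists of conjugates of `g`
    have hcoset : ∀ i : ℕ, IsConj g (g * x ^ i) := by
      intro i
      refine isConj_iff.2 ⟨x ^ i, ?_⟩
      have h1 : g * x ^ i * g = (x⁻¹) ^ i := by
        have h := conj_pow (i := i) (a := g) (b := x)
        rw [hgi] at h
        rw [← hgx]
        exact h.symm
      have h2 : x ^ i * g = g * (x⁻¹) ^ i := by
        rw [← h1, ← mul_assoc, ← mul_assoc, hgg, one_mul]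
      rw [h2, mul_assoc, inv_pow]
      refine congrArg (g * ·) ?_
      rw [← mul_inv_rev, inv_eq_iff_mul_eq_one, ← pow_add, ← pow_add,
        show i + i + i = 3 * i by ring, pow_mul, hx3, one_pow]
    have hfilter : (Finset.univ.filter fun y : G => IsConj s y ∧ IsConj s (y⁻¹ * x)) =
        (Finset.range 3).image fun i => g * x ^ i := by
      ext y
      simp only [Finset.mem_filter, Finset.mem_univ, true_and, Finset.mem_image, Finset.mem_range]
      constructor
      · rintro ⟨h1, h2⟩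
        have hyx := hinvert y h1 h2
        have hc : g * y ∈ Subgroup.centralizer ({x} : Set G) := by
          refine Subgroup.mem_centralizer_singleton_iff.2 ?_
          have hy : y⁻¹ = y := inv_eq_of_mul_eq_one_right (hord y h1)
          have e1 : y * x = x⁻¹ * y := by rw [← hyx, mul_assoc _ y y, hord y h1, mul_one]
          have e2 : g * x⁻¹ = x * g := by
            rw [← hgx, ← mul_assoc, ← mul_assoc, hgg, one_mul]
          rw [mul_assoc, e1, ← mul_assoc, e2, mul_assoc]
        rw [hC, mem_zpowers_iff_mem_range_orderOf, Finset.mem_image] at hc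
        obtain ⟨i, hi, hix⟩ := hc
        rw [Finset.mem_range, hx] at hi
        exact ⟨i, hi, by rw [hix, ← mul_assoc, hgg, one_mul]⟩
      · rintro ⟨i, -, rfl⟩
        refine ⟨hg1.trans (hcoset i), hg1.trans ?_⟩
        have e : (g * x ^ i)⁻¹ * x = g * x ^ (i + 1) := by
          obtain ⟨a, ha⟩ := isConj_iff.1 (hg1.trans (hcoset i))
          rw [inv_eq_of_mul_eq_one_right (hord _ (hg1.trans (hcoset i))), pow_succ, mul_assoc]
        exact e ▸ hcoset (i + 1)
    rw [hn, hfilter, Finset.card_image_of_injOn, Finset.card_range]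
    intro i hi j hj h
    exact pow_injOn_Iio_orderOf (by simpa [hx] using hi) (by simpa [hx] using hj)
      (mul_left_cancel h)
  have hfin : ∀ A B : ℕ, (B : ℂ) * (1 + (α : G → ℂ) s ^ 2 / d - (β : G → ℂ) s ^ 2 / ((d : ℂ) + 1)) =
      A → A ≠ 0 → 3 * B * k ^ 2 = A * Nat.card G := by
    intro A B hAB hA
    have h : ((B * n * k ^ 2 : ℕ) : ℂ) = ((A * Nat.card G : ℕ) : ℂ) := by
      push_cast
      linear_combination (B : ℂ) * hcoef + (Nat.card G : ℂ) * hAB
    have h' : B * n * k ^ 2 = A * Nat.card G := by exact_mod_cast h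
    have hn0 : n ≠ 0 := fun e => by
      rw [e] at h'
      simp [hA] at h'
    rw [hn3 hn0] at h'
    rw [← h']
    ring
  rcases hcases with hd4 | hd7
  · right
    have hr5 : r = 5 := by
      have h := hrdvd 5 Nat.prime_five (by
        have h := charDegree_dvd β
        rwa [hdegαβ, hd4] at h)
      omega
    rw [hd4] at hrest
    obtain ⟨ψ₀, hψ₀, hψne⟩ := Finset.exists_ne_zero_of_sum_ne_zero
      (s := Finset.univ \ T) (f := fun ψ => m ψ * Cfsg.charDegree (ψ : G → ℂ)) (by omega)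
    have hle := Finset.single_le_sum (f := fun ψ => m ψ * Cfsg.charDegree (ψ : G → ℂ))
      (fun i _ => Nat.zero_le _) hψ₀
    obtain ⟨hne₀, h3₀⟩ := hoff ψ₀ hψ₀
    have hmpos : 0 < m ψ₀ := Nat.pos_of_ne_zero fun e => hψne (by simp [e])
    have hdpos := charDegree_pos ψ₀
    have hge : Cfsg.charDegree (ψ₀ : G → ℂ) ≤ m ψ₀ * Cfsg.charDegree (ψ₀ : G → ℂ) :=
      Nat.le_mul_of_pos_left _ hmpos
    have hd₀ : Cfsg.charDegree (ψ₀ : G → ℂ) = 3 := by omega
    have hm₀ : m ψ₀ = 1 := by rw [hd₀] at hle; omega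
    have hzero : ∀ ψ ∈ Finset.univ \ T, ψ ≠ ψ₀ → m ψ = 0 := by
      intro ψ hψ hne'
      by_contra h0
      have h2 := Finset.sum_le_sum_of_subset (f := fun ψ => m ψ * Cfsg.charDegree (ψ : G → ℂ))
        (show {ψ, ψ₀} ⊆ Finset.univ \ T by
          intro a ha
          rcases Finset.mem_insert.1 ha with rfl | ha
          · exact hψ
          · rwa [Finset.mem_singleton.1 ha])
      rw [Finset.sum_pair hne', hd₀, hm₀] at h2
      have h3 : 0 < m ψ * Cfsg.charDegree (ψ : G → ℂ) :=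
        Nat.mul_pos (Nat.pos_of_ne_zero h0) (charDegree_pos ψ)
      omega
    rw [Finset.sum_eq_single_of_mem ψ₀ hψ₀ (fun ψ hψ hne' => by rw [hzero ψ hψ hne']; simp), hm₀,
      Nat.cast_one, one_mul, apply_involution hna hne₀ hd₀ hs, hsφ] at hφsum
    have hβs : (β : G → ℂ) s = 1 := by linear_combination -hφsum
    have hαs : (α : G → ℂ) s = 0 := by linear_combination hcs' + hβs
    refine ⟨hr5, ?_⟩
    have := hfin 4 5 (by rw [hαs, hβs, hd4]; norm_num) (by norm_num)
    omega
  · left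
    have hr7 : r = 7 := by
      have h := hrdvd 7 (by norm_num) (by
        have h := charDegree_dvd α
        rwa [← hdα, hd7] at h)
      omega
    rw [hd7] at hrest
    have hsum0 : ∑ ψ ∈ Finset.univ \ T, m ψ * Cfsg.charDegree (ψ : G → ℂ) = 0 := by omega
    have hzero : ∀ ψ ∈ Finset.univ \ T, m ψ = 0 := fun ψ hψ =>
      (Nat.mul_eq_zero.1 (Finset.sum_eq_zero_iff.1 hsum0 ψ hψ)).resolve_right (charDegree_pos ψ).ne'
    rw [Finset.sum_eq_zero fun ψ hψ => by rw [hzero ψ hψ, Nat.cast_zero, zero_mul], hsφ] at hφsum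
    have hβs : (β : G → ℂ) s = 0 := by linear_combination -hφsum
    have hαs : (α : G → ℂ) s = -1 := by linear_combination hcs' + hβs
    refine ⟨hr7, ?_⟩
    have := hfin 8 7 (by rw [hαs, hβs, hd7]; norm_num) (by norm_num)
    omega

end Cfsg.Agent.H81.ThreeOrder
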