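import Cfsg.Agent.H81.Power
import Cfsg.Agent.BlockBasic.Orth
import Cfsg.Agent.BlockBasic.Basic

/-!
# Power twists of the members of a block, parity of the odd-degree members
-/

open scoped ComplexConjugate
open Cfsg.Agent.BlockBasic

namespace Cfsg.Agent.H81

universe u

variable {G : Type u} [Group G]

theorem centralizer_pow_eq [Finite G] {k : ℕ} (hk : Nat.Coprime k (Nat.card G)) (g : G) :
    Subgroup.centralizer ({g ^ k} : Set G) = Subgroup.centralizer ({g} : Set G) := by
  obtain ⟨j, hj⟩ := exists_pow_eq_self_of_coprime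
    (hk.coprime_dvd_right (orderOf_dvd_natCard g))
  ext x
  simp only [Subgroup.mem_centralizer_singleton_iff]
  refine ⟨fun h => ?_, fun h => (Commute.pow_right (h : Commute x g) k).eq⟩
  exact (hj ▸ Commute.pow_right (h : Commute x (g ^ k)) j : Commute x g).eq

theorem centralChar_comp_pow [Finite G] {k : ℕ} (hk : Nat.Coprime k (Nat.card G)) (χ : G → ℂ)
    (g : G) : centralChar (fun h => χ (h ^ k)) g = centralChar χ (g ^ k) := by
  simp only [centralChar, centralizer_pow_eq hk, one_pow]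

theorem sameBlock_comp_pow [Finite G] {M : Ideal AlgInt} {k : ℕ}
    (hk : Nat.Coprime k (Nat.card G)) {χ ψ : G → ℂ} (h : SameBlock M χ ψ) :
    SameBlock M (fun x => χ (x ^ k)) (fun x => ψ (x ^ k)) := fun g => by
  rw [centralChar_comp_pow hk, centralChar_comp_pow hk]
  exact h _

theorem powIrr_mem_principalBlock [Finite G] {M : Ideal AlgInt} {k : ℕ}
    (hk : Nat.Coprime k (Nat.card G)) {χ : IrrCharacter G} (h : χ ∈ principalBlock M G) :
    powIrr hk χ ∈ principalBlock M G :=
  sameBlock_comp_pow (χ := fun _ => (1 : ℂ)) hk h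

theorem charDegree_powIrr [Finite G] {k : ℕ} (hk : Nat.Coprime k (Nat.card G))
    (χ : IrrCharacter G) :
    charDegree ((powIrr hk χ : IrrCharacter G) : G → ℂ) = charDegree (χ : G → ℂ) := by
  show charDegree (fun g => (χ : G → ℂ) (g ^ k)) = _
  simp [charDegree]

/-- A map of `2`-power period has as many fixed points, modulo 2, as points. -/
theorem card_fixed_modEq {α : Type*} [Finite α] (f : α → α) (n : ℕ) (hf : f^[2 ^ n] = id) :
    Nat.card {a : α // f a = a} ≡ Nat.card α [MOD 2] := by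
  classical
  haveI : Fintype α := Fintype.ofFinite α
  haveI : Fact (Nat.Prime 2) := ⟨Nat.prime_two⟩
  let e : Function.End α := f
  have h := Equiv.Perm.card_fixedPoints_modEq (f := e) (p := 2) (n := n) (show e ^ 2 ^ n = 1 from hf)
  rw [Nat.card_eq_fintype_card (α := α), Nat.card_eq_fintype_card]
  refine Nat.ModEq.trans ?_ h.symm
  rw [Fintype.card_congr (Equiv.subtypeEquivRight (p := fun a => f a = a)
    (q := fun a => a ∈ Function.fixedPoints e) fun a => Iff.rfl)]

/-- A block of a group of even order has evenly many members of odd degree. -/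
theorem even_card_odd_degree [Finite G] {M : Ideal AlgInt} (hM : IsPModular 2 M)
    (hev : Even (Nat.card G)) {B : Set (IrrCharacter G)} (hB : IsPBlock M B) :
    Even (Nat.card {χ : IrrCharacter G // χ ∈ B ∧ Odd (charDegree (χ : G → ℂ))}) := by
  classical
  cases nonempty_fintype G
  haveI : Fact (Nat.Prime 2) := ⟨Nat.prime_two⟩
  obtain ⟨r, ⟨m, rfl⟩, hr⟩ := exists_mul_of_vanish (p := 2)
    (fun χ : IrrCharacter G => if χ ∈ B then (charDegree (χ : G → ℂ) : ℂ) else 0)
    (Set.range (fun n : ℕ => (n : ℂ))) ⟨0, Nat.cast_zero⟩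
    (fun _ ⟨a, ha⟩ _ ⟨b, hb⟩ => ⟨a + b, by simp [← ha, ← hb]⟩)
    (fun n _ ⟨a, ha⟩ => ⟨a * n, by simp [← ha]⟩)
    (fun χ => ⟨if χ ∈ B then charDegree (χ : G → ℂ) else 0, by split_ifs <;> simp⟩)
    (fun x hx hxp => by
      have h0 : blockKernel B x 1 = 0 := by
        rw [← conj_blockKernel, blockKernel_eq_zero_of_regular_of_singular hM hB, map_zero]
        · simp
        · obtain ⟨j, hj⟩ := hxp
          rw [hj]
          refine dvd_pow_self 2 fun hj0 => hx ?_
          rwa [hj0, pow_zero, orderOf_eq_one_iff] at hj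
      rw [blockKernel, finsum_mem_eq_sum_ite] at h0
      refine Eq.trans (Finset.sum_congr rfl fun χ _ => ?_) h0
      split_ifs
      · rw [apply_one_eq_charDegree χ, Complex.conj_natCast, mul_comm]
      · rw [zero_mul])
  have hsum : ∑ χ : IrrCharacter G, (if χ ∈ B then charDegree (χ : G → ℂ) ^ 2 else 0) =
      2 ^ (Nat.card G).factorization 2 * m := by
    rw [← Nat.cast_inj (R := ℂ)]
    push_cast
    refine Eq.trans (Finset.sum_congr rfl fun χ _ => ?_) (hr.trans (by push_cast; rfl))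
    split_ifs
    · rw [apply_one_eq_charDegree χ, sq]
    · rw [zero_mul]
  have h2 : Even (∑ χ : IrrCharacter G, (if χ ∈ B then charDegree (χ : G → ℂ) ^ 2 else 0)) := by
    rw [hsum]
    exact (Nat.even_pow.2 ⟨even_two, (Nat.Prime.factorization_pos_of_dvd Nat.prime_two
      Nat.card_pos.ne' hev.two_dvd).ne'⟩).mul_right m
  rw [Finset.even_sum_iff_even_card_odd] at h2
  rw [Nat.card_eq_fintype_card, Fintype.card_subtype]
  rw [Finset.filter_congr (q := fun χ : IrrCharacter G =>
    Odd (if χ ∈ B then charDegree (χ : G → ℂ) ^ 2 else 0)) fun χ _ => by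
      by_cases hχ : χ ∈ B <;> simp [hχ, Nat.odd_pow_iff]]
  exact h2

section Cubing

variable [Finite G] {k : ℕ}

theorem coprime_of_pow_three (hk₁ : ∀ g : G, (∃ j : ℕ, orderOf g = 2 ^ j) → g ^ k = g ^ 3)
    (hk₂ : ∀ g : G, Odd (orderOf g) → g ^ k = g) : Nat.Coprime k (Nat.card G) := by
  refine Nat.coprime_of_dvd fun q hq hqk hqG => ?_
  haveI := Fact.mk hq
  obtain ⟨g, hg⟩ := exists_prime_orderOf_dvd_card' (G := G) q hqG
  have hgk : g ^ k = 1 := orderOf_dvd_iff_pow_eq_one.1 (hg ▸ hqk)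
  have hg1 : g = 1 := by
    rcases hq.eq_two_or_odd' with rfl | ho
    · have h2 : g ^ 2 = 1 := by rw [← hg]; exact pow_orderOf_eq_one g
      rw [hk₁ g ⟨1, by rw [hg, pow_one]⟩, pow_succ, h2, one_mul] at hgk
      exact hgk
    · rw [hk₂ g (hg ▸ ho)] at hgk; exact hgk
  rw [hg1, orderOf_one] at hg
  exact hq.one_lt.ne hg

theorem pow_iterate_eq_self (hk₁ : ∀ g : G, (∃ j : ℕ, orderOf g = 2 ^ j) → g ^ k = g ^ 3)
    (hk₂ : ∀ g : G, Odd (orderOf g) → g ^ k = g) (g : G) :
    g ^ k ^ 2 ^ (Nat.card G).factorization 2 = g := by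
  haveI : Fact (Nat.Prime 2) := ⟨Nat.prime_two⟩
  set v := (Nat.card G).factorization 2
  obtain ⟨y, hy, hc, ⟨j, hj⟩, hn⟩ := isPPart_pPart (p := 2) g
  set x := pPart (p := 2) g
  have hyk : ∀ n : ℕ, y ^ k ^ n = y := by
    intro n
    induction n with
    | zero => simp
    | succ n ih => rw [pow_succ, pow_mul, ih, hk₂ y (Nat.odd_iff.2 (Nat.two_dvd_ne_zero.1 hn))]
  have hxk : ∀ n : ℕ, x ^ k ^ n = x ^ 3 ^ n := by
    intro n
    induction n with
    | zero => simp
    | succ n ih =>
      rw [pow_succ, pow_mul, ih]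
      obtain ⟨i, -, hi⟩ := (Nat.dvd_prime_pow Nat.prime_two).1 (hj ▸ orderOf_pow_dvd (x := x) (3 ^ n))
      rw [hk₁ _ ⟨i, hi⟩, ← pow_mul, ← pow_succ]
  have hjv : j ≤ v := (Nat.prime_two.pow_dvd_iff_le_factorization Nat.card_pos.ne').1
    (hj ▸ orderOf_dvd_natCard x)
  have h3 : 3 ^ 2 ^ v ≡ 1 [MOD 2 ^ v] := by
    refine Nat.ModEq.trans ?_ ((Nat.ModEq.pow_totient
      ((Nat.coprime_two_right.2 (by decide)).pow_right v : Nat.Coprime 3 (2 ^ v))).pow 2 |>.trans
        (by rw [one_pow]))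
    rcases Nat.eq_zero_or_pos v with h | h
    · simp [h, Nat.modEq_one]
    · rw [← pow_mul, Nat.totient_prime_pow Nat.prime_two h, Nat.succ_sub_one, mul_one, ← pow_succ,
        Nat.sub_add_cancel h]
  rw [← hy, hc.mul_pow, hxk, hyk]
  congr 1
  conv_rhs => rw [← pow_one x]
  exact pow_eq_pow_iff_modEq.2 (h3.of_dvd (hj ▸ pow_dvd_pow 2 hjv))

/-- The principal 2-block has evenly many members of odd degree fixed by cubing the `2`-parts. -/
theorem even_card_fixed_odd_degree {M : Ideal AlgInt} (hM : IsPModular 2 M)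
    (hev : Even (Nat.card G)) (hk₁ : ∀ g : G, (∃ j : ℕ, orderOf g = 2 ^ j) → g ^ k = g ^ 3)
    (hk₂ : ∀ g : G, Odd (orderOf g) → g ^ k = g) :
    Even (Nat.card {χ : IrrCharacter G // χ ∈ principalBlock M G ∧
      Odd (charDegree (χ : G → ℂ)) ∧ ∀ g : G, (χ : G → ℂ) (g ^ k) = (χ : G → ℂ) g}) := by
  have hk := coprime_of_pow_three hk₁ hk₂
  let α := {χ : IrrCharacter G // χ ∈ principalBlock M G ∧ Odd (charDegree (χ : G → ℂ))}
  let f : α → α := fun a => ⟨powIrr hk a.1, powIrr_mem_principalBlock hk a.2.1,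
    by rw [charDegree_powIrr]; exact a.2.2⟩
  have hval : ∀ (n : ℕ) (a : α), (f^[n] a).1 = (powIrr hk)^[n] a.1 := by
    intro n a
    induction n with
    | zero => rfl
    | succ n ih =>
      rw [Function.iterate_succ_apply', Function.iterate_succ_apply', ← ih]
  have hf : f^[2 ^ (Nat.card G).factorization 2] = id := funext fun a =>
    Subtype.ext (Subtype.ext (funext fun g => by
      rw [hval, powIrr_iterate, pow_iterate_eq_self hk₁ hk₂]; rfl))
  have hα : Even (Nat.card α) := even_card_odd_degree hM hev (isPBlock_principalBlock M)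
  have h := card_fixed_modEq f _ hf
  have he : Nat.card {a : α // f a = a} = Nat.card {χ : IrrCharacter G // χ ∈ principalBlock M G ∧
      Odd (charDegree (χ : G → ℂ)) ∧ ∀ g : G, (χ : G → ℂ) (g ^ k) = (χ : G → ℂ) g} :=
    Nat.card_congr
      { toFun := fun a => ⟨a.1.1, a.1.2.1, a.1.2.2, fun g => congrFun
          (congrArg Subtype.val (congrArg Subtype.val a.2)) g⟩
        invFun := fun χ => ⟨⟨χ.1, χ.2.1, χ.2.2.1⟩, Subtype.ext (Subtype.ext (funext χ.2.2.2))⟩
        left_inv := fun a => rfl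
        right_inv := fun χ => rfl }
  rw [he] at h
  rw [Nat.even_iff] at hα ⊢
  rw [← hα]; exact h

end Cubing

end Cfsg.Agent.H81
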